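import Groth.Agent.LS17.Castelnuovo

/-! Values of functions at places over an algebraically closed field. -/

namespace Groth.Agent.LS17

open FunFld WithZero IntermediateField
open Groth.Agent.FFLib

variable {k K : Type*} [Field k] [IsAlgClosed k] [Field K] [Algebra k K]

open scoped Classical in
/-- The value of a regular function at a place. -/
noncomputable def pv (P : Place k K) (x : K) : k :=
  if h : ∃ c : k, P.1 (x - algebraMap k K c) < 1 then h.choose else 0

theorem pv_eq {P : Place k K} {x : K} {c : k} (h : P.1 (x - algebraMap k K c) < 1) : pv P x = c := by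
  classical
  have hex : ∃ c : k, P.1 (x - algebraMap k K c) < 1 := ⟨c, h⟩
  rw [pv, dif_pos hex]
  by_contra hne
  have h1 := hex.choose_spec
  have h2 : P.1 (algebraMap k K (hex.choose - c)) < 1 := by
    rw [map_sub, show algebraMap k K hex.choose - algebraMap k K c =
      (x - algebraMap k K c) - (x - algebraMap k K hex.choose) by ring]
    exact (Valuation.map_sub _ _ _).trans_lt (max_lt h h1)
  rw [val_algebraMap P (sub_ne_zero.mpr hne)] at h2
  exact lt_irrefl _ h2

theorem pv_const (P : Place k K) (c : k) : pv P (algebraMap k K c) = c :=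
  pv_eq (by rw [sub_self, map_zero]; exact zero_lt_one)

theorem pv_one (P : Place k K) : pv P (1 : K) = 1 := by rw [← map_one (algebraMap k K), pv_const]

theorem pv_zero (P : Place k K) : pv P (0 : K) = 0 := by rw [← map_zero (algebraMap k K), pv_const]

theorem le_one_of_lt {P : Place k K} {x : K} {c : k} (h : P.1 (x - algebraMap k K c) < 1) : P.1 x ≤ 1 := by
  rw [show x = (x - algebraMap k K c) + algebraMap k K c by ring]
  exact (P.1.map_add _ _).trans (max_le h.le (P.2.1 c))

theorem le_one_add {P : Place k K} {x y : K} (hx : P.1 x ≤ 1) (hy : P.1 y ≤ 1) : P.1 (x + y) ≤ 1 :=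
  (P.1.map_add _ _).trans (max_le hx hy)

theorem le_one_sub {P : Place k K} {x y : K} (hx : P.1 x ≤ 1) (hy : P.1 y ≤ 1) : P.1 (x - y) ≤ 1 :=
  (Valuation.map_sub _ _ _).trans (max_le hx hy)

theorem le_one_mul {P : Place k K} {x y : K} (hx : P.1 x ≤ 1) (hy : P.1 y ≤ 1) : P.1 (x * y) ≤ 1 := by
  rw [map_mul]; exact mul_le_one' hx hy

variable (hK : IsFunctionField k K)

include hK

theorem pv_spec {P : Place k K} {x : K} (h : P.1 x ≤ 1) : P.1 (x - algebraMap k K (pv P x)) < 1 := by
  obtain ⟨c, hc⟩ := exists_value' hK P h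
  rwa [pv_eq hc]

theorem pv_add {P : Place k K} {x y : K} (hx : P.1 x ≤ 1) (hy : P.1 y ≤ 1) : pv P (x + y) = pv P x + pv P y :=
  pv_eq (by
    rw [map_add (algebraMap k K), add_sub_add_comm]
    exact (P.1.map_add _ _).trans_lt (max_lt (pv_spec hK hx) (pv_spec hK hy)))

theorem pv_sub {P : Place k K} {x y : K} (hx : P.1 x ≤ 1) (hy : P.1 y ≤ 1) : pv P (x - y) = pv P x - pv P y :=
  pv_eq (by
    rw [map_sub (algebraMap k K), sub_sub_sub_comm]
    exact (Valuation.map_sub _ _ _).trans_lt (max_lt (pv_spec hK hx) (pv_spec hK hy)))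

theorem pv_mul {P : Place k K} {x y : K} (hx : P.1 x ≤ 1) (hy : P.1 y ≤ 1) : pv P (x * y) = pv P x * pv P y :=
  pv_eq (by
    rw [map_mul, show x * y - algebraMap k K (pv P x) * algebraMap k K (pv P y) =
      (x - algebraMap k K (pv P x)) * y + algebraMap k K (pv P x) * (y - algebraMap k K (pv P y)) by ring]
    refine (P.1.map_add _ _).trans_lt (max_lt ?_ ?_)
    · rw [map_mul]; exact (mul_le_of_le_one_right' hy).trans_lt (pv_spec hK hx)
    · rw [map_mul]; exact (mul_le_of_le_one_left' (P.2.1 _)).trans_lt (pv_spec hK hy))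

theorem pv_smul {P : Place k K} (c : k) {x : K} (hx : P.1 x ≤ 1) : pv P (c • x) = c * pv P x := by
  rw [Algebra.smul_def, pv_mul hK (P.2.1 c) hx, pv_const]

omit hK in
theorem le_one_smul {P : Place k K} (c : k) {x : K} (hx : P.1 x ≤ 1) : P.1 (c • x) ≤ 1 := by
  rw [Algebra.smul_def]; exact le_one_mul (P.2.1 c) hx

theorem pv_sum {ι : Type*} (s : Finset ι) {P : Place k K} (c : ι → k) (f : ι → K) (hf : ∀ i, P.1 (f i) ≤ 1) :
    P.1 (∑ i ∈ s, c i • f i) ≤ 1 ∧ pv P (∑ i ∈ s, c i • f i) = ∑ i ∈ s, c i * pv P (f i) := by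
  classical
  induction s using Finset.induction_on with
  | empty => simp [pv_zero]
  | insert i s hi ih =>
    rw [Finset.sum_insert hi, Finset.sum_insert hi]
    exact ⟨le_one_add (le_one_smul _ (hf i)) ih.1,
      by rw [pv_add hK (le_one_smul _ (hf i)) ih.1, pv_smul hK _ (hf i), ih.2]⟩

/-- Nonzero value means a unit. -/
theorem val_eq_one_of_pv {P : Place k K} {x : K} (h : P.1 x ≤ 1) (h0 : pv P x ≠ 0) : P.1 x = 1 :=
  le_antisymm h (not_lt.mp fun hlt => h0 (pv_eq (by rwa [map_zero, sub_zero])))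

theorem pv_div {P : Place k K} {x y : K} (hx : P.1 x ≤ 1) (hy : P.1 y ≤ 1) (h0 : pv P y ≠ 0) :
    P.1 (x / y) ≤ 1 ∧ pv P (x / y) = pv P x / pv P y := by
  have hy1 := val_eq_one_of_pv hK hy h0
  have hyne : y ≠ 0 := fun e => by rw [e, map_zero] at hy1; exact zero_ne_one hy1
  have hd : P.1 (x / y) ≤ 1 := by rw [map_div₀, hy1, _root_.div_one]; exact hx
  refine ⟨hd, ?_⟩
  have h := pv_mul hK hd hy
  rw [div_mul_cancel₀ x hyne] at h
  rw [h, mul_div_cancel_right₀ _ h0]

theorem finite_not_le_one (x : K) : {P : Place k K | ¬ P.1 x ≤ 1}.Finite := by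
  refine (finite_support_ord hK.1 x).subset fun P hP => ?_
  rcases eq_or_ne x 0 with rfl | hx
  · exact absurd (by rw [map_zero]; exact zero_le) hP
  · rw [Set.mem_setOf_eq, val_le_one_iff P hx] at hP
    rw [Function.mem_support]
    omega

theorem finite_pv_eq_zero {x : K} (hx : x ≠ 0) : {P : Place k K | P.1 x ≤ 1 ∧ pv P x = 0}.Finite := by
  refine (finite_support_ord hK.1 x).subset fun P hP => ?_
  have h := pv_spec hK hP.1
  rw [hP.2, map_zero, sub_zero, val_lt_one_iff P hx] at h
  rw [Function.mem_support]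
  omega

/-- A function with too many zeros vanishes. -/
theorem eq_zero_of_zeros {E : Divisor k K} {x : K} (hx : x ∈ L E) (S : Finset (Place k K))
    (hS : E.deg < S.card) (h : ∀ R ∈ S, E R = 0 ∧ pv R x = 0) : x = 0 := by
  classical
  by_contra hne
  have ho := (mem_L_iff_ord hne).mp hx
  have hmem : x ∈ L (E - ∑ R ∈ S, Finsupp.single R (1 : ℤ)) := by
    rw [mem_L_iff_ord hne]
    intro Q
    rw [Finsupp.sub_apply, Finsupp.finsetSum_apply]
    by_cases hQ : Q ∈ S
    · rw [Finset.sum_eq_single_of_mem Q hQ (fun R _ hR => Finsupp.single_eq_of_ne (Ne.symm hR)),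
        Finsupp.single_eq_same]
      obtain ⟨hE, hpv⟩ := h Q hQ
      have hle : Q.1 x ≤ 1 := by simpa [hE] using hx Q
      have h1 := pv_spec hK hle
      rw [hpv, map_zero, sub_zero, val_lt_one_iff Q hne] at h1
      omega
    · rw [Finset.sum_eq_zero fun R hR => Finsupp.single_eq_of_ne (by rintro rfl; exact hQ hR), sub_zero]
      exact ho Q
  have hdeg : (E - ∑ R ∈ S, Finsupp.single R (1 : ℤ)).deg < 0 := by
    rw [Divisor.deg_sub, show (∑ R ∈ S, Finsupp.single R (1 : ℤ) : Divisor k K).deg =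
      ∑ R ∈ S, Divisor.deg (Finsupp.single R (1 : ℤ) : Divisor k K) from map_sum (degHom k K) _ _]
    simp only [deg_pt hK, Finset.sum_const, nsmul_one]
    omega
  have := L_finite hK.1 (E - ∑ R ∈ S, Finsupp.single R (1 : ℤ))
  haveI : Subsingleton (L (E - ∑ R ∈ S, Finsupp.single R (1 : ℤ))) :=
    Module.finrank_zero_iff.mp (ell_eq_zero_of_deg_neg hK.1 hdeg)
  exact hne (congrArg Subtype.val
    (Subsingleton.elim (⟨x, hmem⟩ : L (E - ∑ R ∈ S, Finsupp.single R (1 : ℤ))) 0))

variable {F₀ : IntermediateField k K} (hF₀ : IsFunctionField k F₀)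

include hF₀

/-- Values of the subfield's functions are read below. -/
theorem pv_below {Q : Place k K} {P₀ : Place k F₀} {e : ℕ} (he1 : 1 ≤ e) (he : IsOverWith Q P₀ e) {z : F₀}
    (hz : P₀.1 z ≤ 1) : Q.1 (z : K) ≤ 1 ∧ pv Q (z : K) = pv P₀ z := by
  have h := pv_spec hF₀ hz
  have h2 : Q.1 ((z : K) - algebraMap k K (pv P₀ z)) < 1 := by
    rw [show (z : K) - algebraMap k K (pv P₀ z) = algebraMap F₀ K (z - algebraMap k F₀ (pv P₀ z)) from rfl, he]
    exact pow_lt_one₀ zero_le h (by omega)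
  exact ⟨le_one_of_lt h2, pv_eq h2⟩

end Groth.Agent.LS17
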