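import Groth.Agent.LS17.NodeNorm
import Mathlib.FieldTheory.IsAlgClosed.AlgebraicClosure
import Mathlib.AlgebraicGeometry.Stalk

/-! Closed points of a nodal curve over an algebraically closed field and their normalisation. -/

noncomputable section

set_option linter.style.haveILetI false
set_option linter.unusedSectionVars false
set_option backward.isDefEq.respectTransparency false
set_option backward.isDefEq.respectTransparency.types false

universe u

open CategoryTheory CategoryTheory.Limits AlgebraicGeometry TopologicalSpace Opposite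
open scoped nonZeroDivisors

namespace Groth.Agent.LS17.NodeStalk

open NodeNorm

variable {k : Type u} [Field k] [IsAlgClosed k] {C C' : Scheme.{u}} [C.Over (Spec (CommRingCat.of k))]
  [LocallyOfFiniteType (C ↘ Spec (CommRingCat.of k))] [AlgebraicGeometry.IsReduced C]
  {π : C' ⟶ C} {U : C.Opens}

local notation "K" => AlgebraicClosure k

instance isIso_bcFst : IsIso (Curv2.bcFst k C K) := by
  haveI : IsIso (Spec.map (CommRingCat.ofHom (algebraMap k K))) := by
    haveI : IsIso (CommRingCat.ofHom (algebraMap k K)) :=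
      (ConcreteCategory.isIso_iff_bijective _).2 IsAlgClosed.algebraMap_bijective_of_isIntegral
    infer_instance
  exact pullback_fst_iso_of_right_iso _ _

/-- Constants in the stalk of the base change. -/
theorem stalkMap_bc (xb : Curv2.bc k C K) (c : k) :
    letI : (Curv2.bc k C K).Over (Spec (CommRingCat.of K)) := ⟨Curv2.bcSnd k C K⟩
    (Curv2.bcFst k C K).stalkMap xb (Curv2.stalkMap k C (Curv2.bcFst k C K xb) c) =
      Curv2.stalkMap K (Curv2.bc k C K) xb (algebraMap k K c) := by
  letI : (Curv2.bc k C K).Over (Spec (CommRingCat.of K)) := ⟨Curv2.bcSnd k C K⟩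
  have h1 := congrArg (fun φ : Curv2.bc k C K ⟶ Spec (CommRingCat.of k) => Coh.toGlobal φ c)
    (pullback.condition (f := C ↘ Spec (CommRingCat.of k))
      (g := Spec.map (CommRingCat.ofHom (algebraMap k K))))
  have h2 := congrArg ((Curv2.bc k C K).presheaf.germ ⊤ xb trivial) h1
  refine Eq.trans (Scheme.Hom.germ_stalkMap_apply _ _ _ _ _) (Eq.trans h2 ?_)
  refine congrArg ((Curv2.bc k C K).presheaf.germ ⊤ xb trivial) ?_
  show (Curv2.bcSnd k C K ≫ Spec.map (CommRingCat.ofHom (algebraMap k K))).appTop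
      ((Scheme.ΓSpecIso (CommRingCat.of k)).inv c) =
    (Curv2.bcSnd k C K).appTop ((Scheme.ΓSpecIso (CommRingCat.of K)).inv (algebraMap k K c))
  rw [Scheme.Hom.comp_appTop, ConcreteCategory.comp_apply]
  refine congrArg _ ?_
  exact (ConcreteCategory.congr_hom (Scheme.ΓSpecIso_inv_naturality (CommRingCat.ofHom (algebraMap k K))) c).symm

/-- At a node the integral fractions are cut out by equality of two values. -/
theorem exists_vals_of_isNode (hπ : IsNormalization π U) {x : C} (hx : Curv2.IsNode k C x) :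
    ∃ ψ : BSt π x →+* K × K, Function.Surjective ψ ∧
      (∀ b, b ∈ (toB π x).hom.range ↔ (ψ b).1 = (ψ b).2) ∧
      ∀ c : k, ψ (toB π x (Curv2.stalkMap k C x c)) = (algebraMap k K c, algebraMap k K c) := by
  haveI : IsLocallyNoetherian C :=
    LocallyOfFiniteType.isLocallyNoetherian (C ↘ Spec (CommRingCat.of k))
  obtain ⟨-, xb, rfl, hnode⟩ := hx
  letI : (Curv2.bc k C K).Over (Spec (CommRingCat.of K)) := ⟨Curv2.bcSnd k C K⟩
  letI := Curv2.stalkAlgebra K (Curv2.bc k C K) xb
  obtain ⟨e, he⟩ := hnode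
  haveI : IsIso ((Curv2.bcFst k C K).stalkMap xb) := inferInstance
  let x := Curv2.bcFst k C K xb
  let σ := RingEquiv.ofBijective ((Curv2.bcFst k C K).stalkMap xb).hom
    (ConcreteCategory.bijective_of_isIso ((Curv2.bcFst k C K).stalkMap xb))
  haveI : IsNoetherianRing ((Curv2.bc k C K).presheaf.stalk xb) :=
    isNoetherianRing_of_ringEquiv (C.presheaf.stalk x) σ
  letI : Algebra ((Curv2.bc k C K).presheaf.stalk xb) (BSt π x) :=
    ((toB π x).hom.comp σ.symm.toRingHom).toAlgebra
  have hinj : Function.Injective (algebraMap ((Curv2.bc k C K).presheaf.stalk xb) (BSt π x)) :=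
    (toB_injective hπ x).comp σ.symm.injective
  haveI : Algebra.IsIntegral ((Curv2.bc k C K).presheaf.stalk xb) (BSt π x) := ⟨fun b => by
    obtain ⟨P, hP, hPb⟩ := toB_isIntegral hπ x b
    refine ⟨P.map σ.toRingHom, hP.map _, ?_⟩
    rw [Polynomial.eval₂_map]
    refine Eq.trans ?_ hPb
    congr 1
    ext a
    show toB π x (σ.symm (σ a)) = toB π x a
    rw [σ.symm_apply_apply]⟩
  have hmap : ∀ a, algebraMap ((Curv2.bc k C K).presheaf.stalk xb) (BSt π x) (σ a) = toB π x a :=
    fun a => congrArg (toB π x) (σ.symm_apply_apply a)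
  have hfrac : ∀ b : BSt π x, ∃ (s a : (Curv2.bc k C K).presheaf.stalk xb), s ∈ _⁰ ∧
      algebraMap _ (BSt π x) s ∈ (BSt π x)⁰ ∧ algebraMap _ (BSt π x) s * b = algebraMap _ _ a :=
    fun b => by
      obtain ⟨s, a, hs, hsB, hb⟩ := exists_fraction hπ x b
      refine ⟨σ s, σ a, MulEquivClass.map_nonZeroDivisors σ ▸ ⟨s, hs, rfl⟩, ?_, ?_⟩
      · rwa [hmap]
      · rwa [hmap, hmap]
  have hclos : ∀ s a c₁ c₀ : (Curv2.bc k C K).presheaf.stalk xb,
      algebraMap _ (BSt π x) s ∈ (BSt π x)⁰ → a ^ 2 + c₁ * s * a + c₀ * s ^ 2 = 0 →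
      ∃ b : BSt π x, algebraMap _ (BSt π x) s * b = algebraMap _ _ a := by
    intro s a c₁ c₀ hs h
    obtain ⟨b, hb⟩ := exists_root hπ x (σ.symm s) (σ.symm a) (σ.symm c₁) (σ.symm c₀) hs
      (by have h' := congrArg σ.symm h; simp only [map_mul, map_pow, map_add, map_zero] at h'; exact h')
    exact ⟨b, hb⟩
  obtain ⟨ψ, hψ, hr, hc⟩ := NodeAlg.exists_vals (NodeAlg.isNodeMap_of_completion e he) hinj hfrac hclos
  refine ⟨ψ, hψ, fun b => ?_, fun c => ?_⟩
  · rw [← hr]
    exact ⟨fun ⟨a, ha⟩ => ⟨σ a, (hmap a).trans ha⟩, fun ⟨a, ha⟩ => ⟨σ.symm a, ha⟩⟩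
  · rw [← hc, ← hmap]
    refine congrArg (fun t => ψ (algebraMap _ (BSt π x) t)) ?_
    have e1 : σ (Curv2.stalkMap k C x c) = (Curv2.bcFst k C K).stalkMap xb (Curv2.stalkMap k C x c) := rfl
    have e2 : Curv2.stalkMap K (Curv2.bc k C K) xb (algebraMap k K c) =
        algebraMap K ((Curv2.bc k C K).presheaf.stalk xb) (algebraMap k K c) := rfl
    rw [e1, ← e2]
    exact stalkMap_bc xb c

omit [IsAlgClosed k] in
/-- At a smooth point there are no new integral fractions. -/
theorem surjective_of_smooth (hπ : IsNormalization π U) {x : C} {V : C.Opens} (hx : x ∈ V)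
    [Smooth (V.ι ≫ (C ↘ Spec (CommRingCat.of k)))] : Function.Surjective (toB π x) := by
  haveI : IsLocallyNoetherian C :=
    LocallyOfFiniteType.isLocallyNoetherian (C ↘ Spec (CommRingCat.of k))
  let σ := (V.stalkIso ⟨x, hx⟩).commRingCatIsoToRingEquiv
  have hn := TameExt51.isNormalScheme_of_smooth (V.ι ≫ (C ↘ Spec (CommRingCat.of k))) ⟨x, hx⟩
  haveI := hn.1
  haveI := hn.2
  haveI : IsDomain (C.presheaf.stalk x) := σ.symm.toMulEquiv.isDomain (B := V.toScheme.presheaf.stalk ⟨x, hx⟩)
  haveI : IsIntegrallyClosed (C.presheaf.stalk x) := IsIntegrallyClosed.of_equiv σ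
  intro b
  obtain ⟨s, a, hs, hsB, hb⟩ := exists_fraction hπ x b
  obtain ⟨P, hP, hPb⟩ := toB_isIntegral hπ x b
  let A := C.presheaf.stalk x
  let F := FractionRing A
  have hs0 : algebraMap A F s ≠ 0 :=
    (map_ne_zero_iff _ (IsFractionRing.injective A F)).2 (nonZeroDivisors.ne_zero hs)
  have h2 : (P.scaleRoots s).eval₂ (toB π x).hom (toB π x a) = 0 := by
    rw [← hb]
    exact Polynomial.scaleRoots_eval₂_eq_zero (toB π x).hom hPb
  rw [Polynomial.eval₂_hom, map_eq_zero_iff _ (toB_injective hπ x)] at h2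
  let z : F := algebraMap A F a / algebraMap A F s
  have hz : IsIntegral A z := by
    refine ⟨P, hP, ?_⟩
    have h3 : (P.scaleRoots s).eval₂ (algebraMap A F) (algebraMap A F a) = 0 := by
      rw [Polynomial.eval₂_hom, h2, map_zero]
    rw [show algebraMap A F a = algebraMap A F s * z from (mul_div_cancel₀ _ hs0).symm,
      Polynomial.scaleRoots_eval₂_mul] at h3
    exact (mul_eq_zero.1 h3).resolve_left (pow_ne_zero _ hs0)
  obtain ⟨p, hp⟩ := IsIntegrallyClosed.isIntegral_iff.1 hz
  have hsp : s * p = a := IsFractionRing.injective A F (by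
    rw [map_mul, hp]; exact mul_div_cancel₀ _ hs0)
  exact ⟨p, (mul_cancel_left_mem_nonZeroDivisors hsB).1 (by rw [hb, ← map_mul, hsp])⟩

theorem cases (hC : Curv2.AtWorstNodal k C) (hπ : IsNormalization π U) {x : C}
    (hx : IsClosed ({x} : Set C)) : Function.Surjective (toB π x) ∨ Curv2.IsNode k C x := by
  rcases hC x hx with ⟨V, hxV, hV⟩ | h
  · exact Or.inl (surjective_of_smooth (k := k) hπ hxV)
  · exact Or.inr h

end Groth.Agent.LS17.NodeStalk
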