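import Groth.Agent.QCoh.Ab.Push
import Groth.Agent.QCoh.Ab.LerayNat

/-! Endomorphisms of abelian sheaves and first cohomology. -/

noncomputable section

universe u

open CategoryTheory CategoryTheory.Limits TopologicalSpace Opposite CategoryTheory.Abelian

namespace Groth.Agent.LS17.PushFrob

open Groth.Agent.QCoh.Ab

/-- Two quotients of a group with the same kernel. -/
theorem bijective_iff_of_quotients {A B C : Type*} [AddCommGroup A] [AddCommGroup B] [AddCommGroup C]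
    (a : A →+ B) (c : A →+ C) (ha : Function.Surjective a) (hc : Function.Surjective c)
    (h : ∀ x, a x = 0 ↔ c x = 0) (f : A → A) (fB : B →+ B) (fC : C →+ C)
    (hB : ∀ x, fB (a x) = a (f x)) (hC : ∀ x, fC (c x) = c (f x)) :
    Function.Bijective fB ↔ Function.Bijective fC := by
  have hinj : Function.Injective fB ↔ Function.Injective fC := by
    rw [injective_iff_map_eq_zero, injective_iff_map_eq_zero]
    refine ⟨fun hf z hz => ?_, fun hf z hz => ?_⟩
    · obtain ⟨x, rfl⟩ := hc z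
      rw [hC, ← h, ← hB] at hz
      exact (h x).1 (hf _ hz)
    · obtain ⟨x, rfl⟩ := ha z
      rw [hB, h, ← hC] at hz
      exact (h x).2 (hf _ hz)
  have hsur : Function.Surjective fB ↔ Function.Surjective fC := by
    have e : ∀ x y, a x = a y ↔ c x = c y := fun x y => by
      rw [← sub_eq_zero, ← map_sub, h, map_sub, sub_eq_zero]
    refine ⟨fun hf z => ?_, fun hf z => ?_⟩
    · obtain ⟨x, rfl⟩ := hc z
      obtain ⟨w, hw⟩ := hf (a x)
      obtain ⟨y, rfl⟩ := ha w
      exact ⟨c y, by rw [hC]; rw [hB] at hw; exact (e _ _).1 hw⟩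
    · obtain ⟨x, rfl⟩ := ha z
      obtain ⟨w, hw⟩ := hf (c x)
      obtain ⟨y, rfl⟩ := hc w
      exact ⟨a y, by rw [hB]; rw [hC] at hw; exact (e _ _).2 hw⟩
  exact and_congr hinj hsur

variable {X Y : TopCat.{u}}

/-- An endomorphism of a short exact sequence which is bijective on `H⁰` of the last two terms. -/
theorem bijective_H1_iff {T : ShortComplex (CohTop.Ab X)} (hT : T.ShortExact) (φ : T ⟶ T)
    (h₃ : Subsingleton (CohTop.H T.X₃ 1)) (hb : Function.Surjective (Sheaf.H.map φ.τ₂ 0))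
    (hc : Function.Bijective (Sheaf.H.map φ.τ₃ 0)) :
    Function.Bijective (Sheaf.H.map φ.τ₁ 1) ↔ Function.Bijective (Sheaf.H.map φ.τ₂ 1) := by
  let δ := connecting hT 0
  let p : CohTop.H T.X₁ 1 →+ CohTop.H T.X₂ 1 := Sheaf.H.map T.f 1
  have hp : Function.Surjective p := fun x =>
    Ext.covariant_sequence_exact₂ _ hT x (h₃.elim _ _)
  have hker : ∀ x, p x = 0 → ∃ y, δ y = x := fun x hx =>
    Ext.covariant_sequence_exact₁ _ hT x hx rfl
  have hδp : ∀ y, p (δ y) = 0 := fun y => by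
    show ((y.comp hT.extClass rfl).comp (Ext.mk₀ T.f) (add_zero _)) = 0
    rw [Ext.comp_assoc_of_third_deg_zero]
    exact (congrArg (fun z => Ext.comp y z _) hT.extClass_comp).trans (Ext.comp_zero _ _ _ _ _)
  have hnat : ∀ x, p (Sheaf.H.map φ.τ₁ 1 x) = Sheaf.H.map φ.τ₂ 1 (p x) := fun x => by
    show (x.comp (Ext.mk₀ φ.τ₁) (add_zero _)).comp (Ext.mk₀ T.f) (add_zero _) =
      (x.comp (Ext.mk₀ T.f) (add_zero _)).comp (Ext.mk₀ φ.τ₂) (add_zero _)
    rw [Ext.comp_assoc_of_third_deg_zero, Ext.comp_assoc_of_third_deg_zero, Ext.mk₀_comp_mk₀,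
      Ext.mk₀_comp_mk₀, φ.comm₁₂]
  have hδ : ∀ y, Sheaf.H.map φ.τ₁ 1 (δ y) = δ (Sheaf.H.map φ.τ₃ 0 y) :=
    connecting_naturality hT hT φ 0
  constructor
  · intro h
    refine ⟨(injective_iff_map_eq_zero _).2 fun z hz => ?_, fun z => ?_⟩
    · obtain ⟨w, rfl⟩ := hp z
      rw [← hnat] at hz
      obtain ⟨y, hy⟩ := hker _ hz
      obtain ⟨q, rfl⟩ := hc.2 y
      rw [← hδ] at hy
      rw [← h.1 hy, hδp]
    · obtain ⟨w, rfl⟩ := hp z
      obtain ⟨v, rfl⟩ := h.2 w
      exact ⟨p v, (hnat v).symm⟩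
  · intro h
    refine ⟨(injective_iff_map_eq_zero _).2 fun w hw => ?_, fun w => ?_⟩
    · have h1 : p w = 0 := h.1 (by rw [← hnat, hw, map_zero, map_zero])
      obtain ⟨y, rfl⟩ := hker _ h1
      rw [hδ] at hw
      obtain ⟨z, hz⟩ := (connecting_eq_zero_iff hT 0 _).1 hw
      obtain ⟨z', rfl⟩ := hb z
      refine (connecting_eq_zero_iff hT 0 y).2 ⟨z', hc.1 ?_⟩
      rw [← hz]
      show (z'.comp (Ext.mk₀ T.g) (add_zero _)).comp (Ext.mk₀ φ.τ₃) (add_zero _) =
        (z'.comp (Ext.mk₀ φ.τ₂) (add_zero _)).comp (Ext.mk₀ T.g) (add_zero _)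
      rw [Ext.comp_assoc_of_third_deg_zero, Ext.comp_assoc_of_third_deg_zero, Ext.mk₀_comp_mk₀,
        Ext.mk₀_comp_mk₀, φ.comm₂₃]
    · obtain ⟨z, hz⟩ := h.2 (p w)
      obtain ⟨v, rfl⟩ := hp z
      obtain ⟨y, hy⟩ := hker (w - Sheaf.H.map φ.τ₁ 1 v) (by rw [map_sub, hnat, hz, sub_self])
      obtain ⟨q, rfl⟩ := hc.2 y
      exact ⟨v + δ q, by rw [map_add, hδ, hy]; abel⟩

variable (f : X ⟶ Y)

/-- Bijectivity of an endomorphism on `H¹` may be tested after direct image. -/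
theorem bijective_H1_push_iff (S : CoverSystem X) (hb : PreimageBasis f S) (F : CohTop.Ab X)
    (hF : S.Acyclic F) (φ : F ⟶ F) :
    Function.Bijective (Sheaf.H.map φ 1) ↔
      Function.Bijective (Sheaf.H.map ((CohTop.push f).map φ) 1) := by
  let T := pres F
  have hT : T.ShortExact := pres_shortExact F
  have hinj : Injective T.X₂ := Injective.injective_under F
  have hT' := push_shortExact f hT hb hF
  have hinj' : Injective (T.map (CohTop.push f)).X₂ := SiteBase.injective_push f T.X₂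
  let b : T.X₂ ⟶ T.X₂ := Injective.factorThru (φ ≫ Injective.ι F) (Injective.ι F)
  have hb₁ : Injective.ι F ≫ b = φ ≫ Injective.ι F := Injective.comp_factorThru _ _
  let c : T.X₃ ⟶ T.X₃ := cokernel.desc (Injective.ι F) (b ≫ cokernel.π (Injective.ι F))
    (by rw [reassoc_of% hb₁, cokernel.condition, comp_zero])
  let ψ : T ⟶ T := ShortComplex.homMk φ b c hb₁.symm (cokernel.π_desc _ _ _).symm
  let e₃ := (Sheaf.H.equiv₀ T.X₃ isTerminalTop).trans
    (Sheaf.H.equiv₀ (T.map (CohTop.push f)).X₃ isTerminalTop).symm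
  let e₂ := (Sheaf.H.equiv₀ T.X₂ isTerminalTop).trans
    (Sheaf.H.equiv₀ (T.map (CohTop.push f)).X₂ isTerminalTop).symm
  have hn : ∀ y, Sheaf.H.map (T.map (CohTop.push f)).g 0 (e₂ y) = e₃ (Sheaf.H.map T.g 0 y) :=
    fun y => (Sheaf.H.equiv₀_symm_naturality isTerminalTop _ _).trans (congrArg _
      (Sheaf.H.equiv₀_naturality isTerminalTop T.g y))
  have hc : ∀ y, Sheaf.H.map ((CohTop.push f).map c) 0 (e₃ y) = e₃ (Sheaf.H.map c 0 y) :=
    fun y => (Sheaf.H.equiv₀_symm_naturality isTerminalTop _ _).trans (congrArg _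
      (Sheaf.H.equiv₀_naturality isTerminalTop c y))
  refine bijective_iff_of_quotients (connecting hT 0) ((connecting hT' 0).comp e₃.toAddMonoidHom)
    (connecting_surjective hT 0 inferInstance)
    ((connecting_surjective hT' 0 inferInstance).comp e₃.surjective) (fun x => ?_)
    (Sheaf.H.map c 0) _ _ (fun x => connecting_naturality hT hT ψ 0 x) (fun x => ?_)
  · rw [connecting_eq_zero_iff]
    refine Iff.trans ?_ (connecting_eq_zero_iff hT' 0 (e₃ x)).symm
    exact ⟨fun ⟨y, hy⟩ => ⟨e₂ y, by rw [hn, hy]⟩, fun ⟨z, hz⟩ => ⟨e₂.symm z, e₃.injective <| by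
      rw [← hn, AddEquiv.apply_symm_apply, hz]⟩⟩
  · show Sheaf.H.map ((CohTop.push f).map φ) 1 (connecting hT' 0 (e₃ x)) = connecting hT' 0 (e₃ _)
    rw [← hc]
    exact connecting_naturality hT' hT' ((CohTop.push f).mapShortComplex.map ψ) 0 (e₃ x)

end Groth.Agent.LS17.PushFrob
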