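import Groth.Prelude.Def_ClSub2
import Groth.Agent.LS17.NodeStalk
import Groth.Agent.LS17.PushFrob
import Groth.Agent.Lib.CurveVanish
import Groth.Agent.PureLib.Supported

/-! The Frobenius on `H¹` of a nodal curve and of its normalisation. -/

noncomputable section

set_option linter.style.haveILetI false
set_option linter.unusedSectionVars false
set_option backward.isDefEq.respectTransparency false
set_option backward.isDefEq.respectTransparency.types false

universe u

open CategoryTheory CategoryTheory.Limits AlgebraicGeometry TopologicalSpace Opposite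
open scoped nonZeroDivisors

namespace Groth.Agent.LS17.NodeFrob

open NodeNorm

variable {C C' : Scheme.{u}} [IsReduced C] (π : C' ⟶ C)

/-- The sequence `O → π_* O → cokernel`. -/
def normSeq : ShortComplex C.Modules :=
  ShortComplex.mk (ClSub.unitToPush π) (cokernel.π (ClSub.unitToPush π)) (cokernel.condition _)

variable {π} {U : C.Opens}

theorem normSeq_shortExact (hπ : IsNormalization π U) : (normSeq π).ShortExact := by
  haveI : Mono (normSeq π).f := by
    refine (SheafOfModules.toSheaf C.ringCatSheaf).mono_of_mono_map ?_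
    haveI : Mono ((sheafToPresheaf _ _).map ((SheafOfModules.toSheaf C.ringCatSheaf).map (normSeq π).f)) :=
      (NatTrans.mono_iff_mono_app _).2 fun W =>
        (AddCommGrpCat.mono_iff_injective _).2 (app_injective hπ W.unop)
    exact (sheafToPresheaf _ _).mono_of_mono_map this
  haveI : Epi (normSeq π).g := inferInstanceAs (Epi (cokernel.π (ClSub.unitToPush π)))
  exact { exact := ShortComplex.exact_cokernel _ }

theorem g_app_unit (W : C.Opens) (s : Γ(C, W)) :
    (normSeq π).g.app W (π.app W s) = 0 := by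
  have h := congrArg (fun φ : (normSeq π).X₁ ⟶ (normSeq π).X₃ => φ.app W s) (normSeq π).zero
  exact h

theorem exists_of_germ_g_eq_zero {x : C} {V : C.Opens} (hx : x ∈ V) (b : Γ(C', π ⁻¹ᵁ V))
    (h : (normSeq π).X₃.presheaf.germ V x hx ((normSeq π).g.app V b) = 0) :
    germB π hx b ∈ (toB π x).hom.range := by
  have hex : (normSeq π).Exact := ShortComplex.exact_cokernel _
  have h1 := (ShortComplex.moduleCat_exact_iff _).1 (hex.map (DerSch.stalkFunctor C x))
    ((normSeq π).X₂.presheaf.germ V x hx b)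
    ((TopCat.Presheaf.stalkFunctor_map_germ_apply V x hx
      ((Scheme.Modules.toPresheaf C).map (normSeq π).g) b).trans h)
  obtain ⟨a, ha⟩ := h1
  obtain ⟨W, hxW, a, rfl⟩ := TopCat.Presheaf.exists_germ_eq (Coh.structureModule C).presheaf a
  obtain ⟨O, hxO, i, j, hO⟩ := (normSeq π).X₂.presheaf.germ_eq (U := W) (V := V) x hxW hx _ _
    ((TopCat.Presheaf.stalkFunctor_map_germ_apply W x hxW
      ((Scheme.Modules.toPresheaf C).map (normSeq π).f) a).symm.trans ha)
  refine ⟨C.presheaf.germ W x hxW a, ?_⟩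
  rw [toB_germ]
  have hW := germB_res π i.le hxO (π.app W a)
  have hV := germB_res π j.le hxO b
  rw [← hW, ← hV]
  exact congrArg (germB π hxO) hO

theorem g_germ_eq {x : C} {V : C.Opens} (hx : x ∈ V) (b : Γ(C', π ⁻¹ᵁ V))
    (h : germB π hx b ∈ (toB π x).hom.range) :
    (normSeq π).X₃.presheaf.germ V x hx ((normSeq π).g.app V b) = 0 := by
  obtain ⟨a, ha⟩ := h
  obtain ⟨W, hxW, a, rfl⟩ := TopCat.Presheaf.exists_germ_eq C.presheaf a
  rw [toB_germ] at ha
  obtain ⟨O, hxO, i, j, hO⟩ := TopCat.Presheaf.germ_eq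
    ((TopCat.Presheaf.pushforward CommRingCat π.base).obj C'.presheaf) (U := W) (V := V) x hxW hx _ _ ha
  rw [← (normSeq π).X₃.presheaf.germ_res_apply j x hxO]
  refine Eq.trans (congrArg _ ?_) (map_zero _)
  refine (ConcreteCategory.congr_hom ((normSeq π).g.mapPresheaf.naturality j.op) b).symm.trans ?_
  refine Eq.trans (congrArg ((normSeq π).g.app O) hO.symm) ?_
  refine Eq.trans (congrArg ((normSeq π).g.app O) (app_res i.le a)) ?_
  exact g_app_unit O _

theorem exists_g_germ_eq {x : C} (q : (normSeq π).X₃.presheaf.stalk x) :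
    ∃ (V : C.Opens) (hx : x ∈ V) (b : Γ(C', π ⁻¹ᵁ V)),
      (normSeq π).X₃.presheaf.germ V x hx ((normSeq π).g.app V b) = q := by
  haveI : Epi (normSeq π).g := inferInstanceAs (Epi (cokernel.π (ClSub.unitToPush π)))
  obtain ⟨w, rfl⟩ := (ModuleCat.epi_iff_surjective
    ((DerSch.stalkFunctor C x).map (normSeq π).g)).1 inferInstance q
  obtain ⟨V, hxV, b, rfl⟩ := TopCat.Presheaf.exists_germ_eq (normSeq π).X₂.presheaf w
  exact ⟨V, hxV, b, (TopCat.Presheaf.stalkFunctor_map_germ_apply V x hxV
    ((Scheme.Modules.toPresheaf C).map (normSeq π).g) b).symm⟩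

/-- The cokernel vanishes wherever there are no new integral fractions. -/
theorem subsingleton_stalk_of_surjective {x : C} (h : Function.Surjective (toB π x)) :
    Subsingleton ((normSeq π).X₃.presheaf.stalk x) := subsingleton_of_forall_eq 0 fun q => by
  obtain ⟨V, hx, b, rfl⟩ := exists_g_germ_eq q
  exact g_germ_eq hx b (h _)

theorem surjective_toB_of_mem (hπ : IsNormalization π U) {x : C} (hx : x ∈ U) :
    Function.Surjective (toB π x) := fun b => by
  obtain ⟨V, hxV, f, rfl⟩ := exists_germB π b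
  obtain ⟨a, ha⟩ := (app_bijective hπ (inf_le_right : V ⊓ U ≤ U)).2
    (C'.presheaf.map ((Opens.map π.base).map (homOfLE inf_le_left)).op f)
  exact ⟨C.presheaf.germ (V ⊓ U) x ⟨hxV, hx⟩ a, by rw [toB_germ, ha, germB_res]⟩

/-- The complement of the isomorphism locus consists of finitely many closed points. -/
theorem finite_compl [IsNoetherian C] (hU : Dense (U : Set C))
    (hdim : ∀ Z ∈ irreducibleComponents (C : Type u), topologicalKrullDim Z = 1) :
    ((U : Set C)ᶜ).Finite ∧ ∀ x ∉ U, IsClosed ({x} : Set C) := by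
  haveI : CompactSpace C := inferInstance
  have hcl : ∀ x ∉ U, IsClosed ({x} : Set C) := fun x hx => by
    by_contra hc
    obtain ⟨W, hW, hWx⟩ := exists_mem_irreducibleComponents_subset_of_isIrreducible _
      (isIrreducible_singleton (x := x)).closure
    obtain ⟨ξ, hξ⟩ := QuasiSober.sober hW.1 (isClosed_of_mem_irreducibleComponents W hW)
    have hξx : ξ ⤳ x := hξ.specializes (hWx (subset_closure rfl))
    obtain rfl := PureLib.eq_of_specializes hdim hc hξx
    obtain ⟨O, hO, hOne, hOW⟩ :=
      TopologicalSpace.NoetherianSpace.exists_isOpen_nonempty_subset_irreducibleComponent W hW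
    obtain ⟨y, hyO, hyU⟩ := hU.inter_open_nonempty O hO hOne
    exact hx (hξ.specializes (hOW hyO) |>.mem_open U.2 hyU)
  exact ⟨CurveCohLib.finite_of_closedPoints U.2.isClosed_compl hcl, hcl⟩

section Frobenius

variable {k : Type u} [Field k] [IsAlgClosed k] [C.Over (Spec (CommRingCat.of k))]
  [IsProper (C ↘ Spec (CommRingCat.of k))]

include k in
theorem subsingleton_H1_coker (hπ : IsNormalization π U)
    (hdim : ∀ Z ∈ irreducibleComponents (C : Type u), topologicalKrullDim Z = 1) :
    Subsingleton (Coh.HH C (normSeq π).X₃ 1) := by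
  haveI := CurveCohLib.isNoetherian_of_proper (k := k) (X := C)
  obtain ⟨hfin, hcl⟩ := finite_compl hπ.dense hdim
  exact CurveVanish.subsingleton_HH_of_finite hfin hcl
    (fun x hx => subsingleton_stalk_of_surjective (surjective_toB_of_mem hπ (not_not.1 hx))) 0

variable (p : ℕ) [Fact p.Prime] [CharP k p]

/-- The `p`-th power is bijective on the cokernel. -/
theorem bijective_stalk (hπ : IsNormalization π U) (hC : Curv2.AtWorstNodal k C)
    (hdim : ∀ Z ∈ irreducibleComponents (C : Type u), topologicalKrullDim Z = 1)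
    (c : Coh.toAb (normSeq π).X₃ ⟶ Coh.toAb (normSeq π).X₃)
    (hc : ∀ (V : C.Opens) (b : Γ(C', π ⁻¹ᵁ V)),
      c.hom.app (op V) ((normSeq π).g.app V b) = (normSeq π).g.app V (show Γ(C', π ⁻¹ᵁ V) from b ^ p))
    (x : C) : Function.Bijective ((TopCat.Presheaf.stalkFunctor AddCommGrpCat.{u} x).map c.hom) := by
  haveI := CurveCohLib.isNoetherian_of_proper (k := k) (X := C)
  have hcg : ∀ (V : C.Opens) (hx : x ∈ V) (b : Γ(C', π ⁻¹ᵁ V)),
      (TopCat.Presheaf.stalkFunctor AddCommGrpCat.{u} x).map c.hom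
          ((normSeq π).X₃.presheaf.germ V x hx ((normSeq π).g.app V b)) =
        (normSeq π).X₃.presheaf.germ V x hx ((normSeq π).g.app V (show Γ(C', π ⁻¹ᵁ V) from b ^ p)) :=
    fun V hx b => (TopCat.Presheaf.stalkFunctor_map_germ_apply V x hx c.hom _).trans
      (congrArg _ (hc V b))
  have hsub : Subsingleton ((normSeq π).X₃.presheaf.stalk x) →
      Function.Bijective ((TopCat.Presheaf.stalkFunctor AddCommGrpCat.{u} x).map c.hom) := fun hs =>
    ⟨fun a b _ => hs.elim a b, fun b => ⟨b, hs.elim _ _⟩⟩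
  by_cases hxc : IsClosed ({x} : Set C)
  swap
  · exact hsub (subsingleton_stalk_of_surjective (surjective_toB_of_mem hπ
      (by_contra fun h => hxc ((finite_compl hπ.dense hdim).2 x h))))
  rcases NodeStalk.cases hC hπ hxc with hsur | hnode
  · exact hsub (subsingleton_stalk_of_surjective hsur)
  obtain ⟨ψ, hψ, hr, -⟩ := NodeStalk.exists_vals_of_isNode hπ hnode
  haveI : CharP (AlgebraicClosure k) p :=
    charP_of_injective_algebraMap (algebraMap k (AlgebraicClosure k)).injective p
  refine ⟨(injective_iff_map_eq_zero _).2 fun q hq => ?_, fun q => ?_⟩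
  · obtain ⟨V, hx, b, rfl⟩ := exists_g_germ_eq q
    rw [hcg] at hq
    have h1 := (hr _).1 (exists_of_germ_g_eq_zero hx _ hq)
    simp only [map_pow, Prod.pow_fst, Prod.pow_snd] at h1
    refine g_germ_eq hx b ((hr _).2 (frobenius_inj (AlgebraicClosure k) p ?_))
    simpa only [frobenius_def] using h1
  · obtain ⟨V, hx, b, rfl⟩ := exists_g_germ_eq q
    obtain ⟨u, hu⟩ := IsAlgClosed.exists_pow_nat_eq (ψ (germB π hx b)).1 (Fact.out : p.Prime).pos
    obtain ⟨v, hv⟩ := IsAlgClosed.exists_pow_nat_eq (ψ (germB π hx b)).2 (Fact.out : p.Prime).pos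
    obtain ⟨β, hβ⟩ := hψ (u, v)
    obtain ⟨W, hxW, β, rfl⟩ := exists_germB π β
    let j₁ : V ⊓ W ≤ V := inf_le_left
    let b' : Γ(C', π ⁻¹ᵁ (V ⊓ W)) := C'.presheaf.map ((Opens.map π.base).map (homOfLE j₁)).op b
    let β' : Γ(C', π ⁻¹ᵁ (V ⊓ W)) :=
      C'.presheaf.map ((Opens.map π.base).map (homOfLE (inf_le_right : V ⊓ W ≤ W))).op β
    refine ⟨(normSeq π).X₃.presheaf.germ (V ⊓ W) x ⟨hx, hxW⟩ ((normSeq π).g.app (V ⊓ W) β'), ?_⟩
    rw [hcg, ← (normSeq π).X₃.presheaf.germ_res_apply (homOfLE j₁) x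
      (show x ∈ V ⊓ W from ⟨hx, hxW⟩) ((normSeq π).g.app V b),
      show (normSeq π).X₃.presheaf.map (homOfLE j₁).op ((normSeq π).g.app V b) =
          (normSeq π).g.app (V ⊓ W) b' from
        (ConcreteCategory.congr_hom ((normSeq π).g.mapPresheaf.naturality (homOfLE j₁).op) b).symm]
    refine sub_eq_zero.1 ?_
    refine Eq.trans (map_sub ((normSeq π).X₃.presheaf.germ (V ⊓ W) x ⟨hx, hxW⟩).hom _ _).symm ?_
    refine Eq.trans (congrArg _ (map_sub ((normSeq π).g.app (V ⊓ W)).hom (β' ^ p) b').symm) ?_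
    refine g_germ_eq _ (β' ^ p - b') ((hr _).2 ?_)
    rw [map_sub, map_pow, germB_res, germB_res, map_sub, map_pow, hβ]
    show u ^ p - (ψ (germB π hx b)).1 = v ^ p - (ψ (germB π hx b)).2
    rw [hu, hv, sub_self, sub_self]

omit [Fact p.Prime] in
/-- A finite reduced algebra over an algebraically closed field is perfect. -/
theorem surjective_pow {A : Type u} [CommRing A] [Algebra k A] [Module.Finite k A]
    [_root_.IsReduced A] [CharP k p] (hp : p.Prime) : Function.Surjective fun a : A => a ^ p := by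
  haveI : Fact p.Prime := ⟨hp⟩
  haveI : ExpChar k p := ExpChar.prime hp
  intro a
  rcases subsingleton_or_nontrivial A with hA | hA
  · exact ⟨a, Subsingleton.elim _ _⟩
  haveI : CharP A p := charP_of_injective_algebraMap (algebraMap k A).injective p
  haveI : ExpChar A p := ExpChar.prime hp
  let v := Module.finBasis k A
  have hroot : ∀ c : k, ∃ d : k, d ^ p = c := fun c => IsAlgClosed.exists_pow_nat_eq c hp.pos
  choose r hr using hroot
  have hli : LinearIndependent k fun i => (v i) ^ p := by
    rw [Fintype.linearIndependent_iff]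
    intro g hg i
    have h1 : (∑ j, r (g j) • v j) ^ p = 0 := by
      rw [sum_pow_char]
      simpa only [smul_pow, hr] using hg
    have h2 := Fintype.linearIndependent_iff.1 v.linearIndependent (fun j => r (g j))
      (IsReduced.eq_zero _ ⟨p, h1⟩) i
    rw [← hr (g i), h2, zero_pow hp.ne_zero]
  obtain ⟨g, hg⟩ := (Submodule.mem_span_range_iff_exists_fun k).1
    ((hli.span_eq_top_of_card_eq_finrank' (Fintype.card_fin _)).symm ▸ Submodule.mem_top (x := a))
  refine ⟨∑ j, r (g j) • v j, ?_⟩
  show (∑ j, r (g j) • v j) ^ p = a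
  rw [sum_pow_char]
  simpa only [smul_pow, hr] using hg

end Frobenius

end Groth.Agent.LS17.NodeFrob
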