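import Groth.Agent.LS17.Exists
import Groth.Agent.CurveCohLib.PointTwist
import Groth.Agent.CurveVA.Twist

/-! The ideal of a closed point as a divisor class; base points of linear series. -/

noncomputable section

set_option linter.style.haveILetI false
set_option linter.unusedSectionVars false
set_option backward.isDefEq.respectTransparency false
set_option backward.isDefEq.respectTransparency.types false

universe u

open CategoryTheory CategoryTheory.Limits AlgebraicGeometry TopologicalSpace Opposite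
open Groth.Agent.CurveCohLib.Polar (InR gη eta_mem)

namespace Groth.Agent.LS17

open Groth.Agent.CurveFF
open Groth.Agent.AModX (res resR)

attribute [local instance] CurveFF.ffAlg

variable (k : Type u) [Field k] [IsAlgClosed k] {X : Scheme.{u}} [X.Over (Spec (CommRingCat.of k))]
  [IsIntegral X] [IsProper (X ↘ Spec (CommRingCat.of k))] [Smooth (X ↘ Spec (CommRingCat.of k))]
  (hdim : topologicalKrullDim X = 1)

theorem algebraMap_germ {V : X.Opens} {z : X} (hz : z ∈ V) (u : Γ(X, V)) :
    algebraMap (X.presheaf.stalk z) X.functionField (X.presheaf.germ V z hz u) =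
      X.presheaf.germ V (genericPoint X) (eta_mem hz) u :=
  TopCat.Presheaf.germ_stalkSpecializes_apply (F := X.presheaf) (U := V) (hy := hz)
    ((genericPoint_spec X).specializes (Set.mem_univ z)) _

/-- The valuation of a generator of the maximal ideal. -/
theorem val_of_span_maximal (z : Pt X) {a : X.presheaf.stalk z.1}
    (ha : Ideal.span {a} = IsLocalRing.maximalIdeal (X.presheaf.stalk z.1)) :
    (pl k X hdim z).1 (algebraMap (X.presheaf.stalk z.1) X.functionField a) = WithZero.exp (-1 : ℤ) := by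
  have hlt : valAt k X hdim z (algebraMap (X.presheaf.stalk z.1) X.functionField a) < 1 :=
    (valAt_lt_one_iff k X hdim z a).2 (ha ▸ Ideal.mem_span_singleton_self a)
  obtain ⟨c, hc⟩ := valAt_surjective k X hdim z (WithZero.exp (-1 : ℤ))
  have hc1 : valAt k X hdim z c < 1 := by
    rw [hc, ← WithZero.exp_zero, WithZero.exp_lt_exp]; norm_num
  obtain ⟨b, rfl⟩ := (valAt_le_one_iff k X hdim z c).1 hc1.le
  have hb := (valAt_lt_one_iff k X hdim z b).1 hc1
  rw [← ha] at hb
  obtain ⟨d, rfl⟩ := Ideal.mem_span_singleton'.1 hb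
  rw [map_mul, map_mul] at hc
  have hd : valAt k X hdim z (algebraMap (X.presheaf.stalk z.1) X.functionField d) ≤ 1 :=
    (valAt_le_one_iff k X hdim z _).2 ⟨d, rfl⟩
  refine le_antisymm ?_ ?_
  · rcases eq_or_ne ((pl k X hdim z).1 (algebraMap (X.presheaf.stalk z.1) X.functionField a)) 0 with h0 | h0
    · rw [h0]; exact zero_le'
    obtain ⟨n, hn⟩ : ∃ n : ℤ, WithZero.exp n = valAt k X hdim z (algebraMap (X.presheaf.stalk z.1) X.functionField a) :=
      ⟨_, WithZero.exp_log h0⟩
    rw [← hn, ← WithZero.exp_zero, WithZero.exp_lt_exp] at hlt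
    show valAt k X hdim z _ ≤ _
    rw [← hn, WithZero.exp_le_exp]
    omega
  · exact hc.symm.le.trans (mul_le_of_le_one_left' hd)

theorem val_of_span_top (z : Pt X) {a : X.presheaf.stalk z.1}
    (ha : Ideal.span {a} = ⊤) :
    (pl k X hdim z).1 (algebraMap (X.presheaf.stalk z.1) X.functionField a) = 1 := by
  refine le_antisymm ((valAt_le_one_iff k X hdim z _).2 ⟨a, rfl⟩) (not_lt.1 fun h => ?_)
  have := (valAt_lt_one_iff k X hdim z a).1 h
  exact (IsLocalRing.mem_maximalIdeal a).1 this (Ideal.span_singleton_eq_top.1 ha)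

variable (p : X) (hp : IsClosed ({p} : Set X))

/-- The ideal of a closed point has the divisor class of minus the point. -/
theorem hasDiv_ptMod :
    HasDiv k hdim (CurvePoint.ptMod p hp) (-Finsupp.single (pl k X hdim ⟨p, hp⟩) 1) := by
  classical
  have hK := (isFunctionField k X hdim).1
  have hM := CurvePoint.isInvertible_ptMod p hp k hdim
  let ι := ClSub.idealModι (CurvePoint.ptIdeal p hp)
  obtain ⟨U₀, hU₀, e₀, he₀, -⟩ := CurveVA.ptIdeal_frame k hdim hp (genericPoint X)
  let f₀ : X.functionField := X.presheaf.germ U₀ (genericPoint X) hU₀ (show Γ(X, U₀) from ι.app U₀ e₀)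
  have key : ∀ z : Pt X, WithZero.exp (divisor k hdim hM he₀ hU₀ (pl k X hdim z)) * (pl k X hdim z).1 f₀ =
      WithZero.exp (-(Finsupp.single (pl k X hdim ⟨p, hp⟩) (1 : ℤ) (pl k X hdim z))) := by
    intro z
    obtain ⟨V, hzV, ε, hε, hJ⟩ := CurveVA.ptIdeal_frame k hdim hp z.1
    have hVη := eta_mem hzV
    rw [exp_divisor k hdim hM he₀ hU₀ hε hVη hzV]
    have hW : genericPoint X ∈ U₀ ⊓ V := ⟨hU₀, hVη⟩
    obtain ⟨g, hg, hg'⟩ := exists_coord_ratio he₀ (inf_le_left : U₀ ⊓ V ≤ U₀) hW
      (res (CurvePoint.ptMod p hp) (inf_le_right : U₀ ⊓ V ≤ V) ε)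
    have hr : ratio he₀ hU₀ hVη ε = X.presheaf.germ (U₀ ⊓ V) _ hW g :=
      (ratio_eq he₀ (by rw [ratio_spec, gM_res])).trans hg'
    let u₀ : Γ(X, U₀) := (show Γ(X, U₀) from ι.app U₀ e₀)
    let u : Γ(X, V) := (show Γ(X, V) from ι.app V ε)
    have h1 : resR (inf_le_right : U₀ ⊓ V ≤ V) u = g * resR (inf_le_left : U₀ ⊓ V ≤ U₀) u₀ := by
      refine Eq.trans ?_ (((congrArg (ι.app (U₀ ⊓ V)) hg).trans (Scheme.Modules.Hom.app_smul ι g _)).trans
        (congrArg (g * ·) (AModX.app_res ι _ e₀)))
      exact (AModX.app_res ι _ ε).symm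
    have h2 := congrArg (X.presheaf.germ (U₀ ⊓ V) (genericPoint X) hW) h1
    rw [map_mul, InvX.germ_resR' inf_le_right hW, InvX.germ_resR' inf_le_left hW, ← hr] at h2
    rw [show f₀ = X.presheaf.germ U₀ (genericPoint X) hU₀ u₀ from rfl, ← map_mul]
    erw [← h2]
    rw [← algebraMap_germ hzV u]
    by_cases hzp : z.1 = p
    · obtain rfl : z = ⟨p, hp⟩ := Subtype.ext hzp
      rw [CurveVA.ptJ_self] at hJ
      rw [val_of_span_maximal k hdim _ hJ, Finsupp.single_eq_same]
    · rw [CurveVA.ptJ_ne hzp] at hJ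
      rw [val_of_span_top k hdim z hJ, Finsupp.single_eq_of_ne, neg_zero, WithZero.exp_zero]
      exact fun h => hzp (congrArg Subtype.val ((pl k X hdim).injective h))
  have hf₀ : f₀ ≠ 0 := fun h => by
    have := key ⟨p, hp⟩
    rw [h, map_zero, mul_zero] at this
    exact WithZero.exp_ne_zero this.symm
  refine ⟨hM, U₀, e₀, he₀, hU₀, f₀⁻¹, inv_ne_zero hf₀, ?_⟩
  ext P
  obtain ⟨z, rfl⟩ := (pl k X hdim).surjective P
  have h := key z
  rw [FFLib.val_eq_exp _ hf₀, ← WithZero.exp_add, WithZero.exp_inj] at h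
  rw [Finsupp.add_apply, FFLib.div_inv hK, Finsupp.neg_apply, Finsupp.neg_apply, FFLib.div_apply hK]
  omega

variable {M : X.Modules} {D : FunFld.Divisor k X.functionField}

/-- Twisting by a point. -/
theorem HasDiv.twist (h : HasDiv k hdim M D) :
    HasDiv k hdim ((DCoh.tensorBi.obj M).obj (CurvePoint.ptMod p hp))
      (D - Finsupp.single (pl k X hdim ⟨p, hp⟩) 1) := by
  rw [sub_eq_add_neg]
  exact h.tensor k hdim (hasDiv_ptMod k hdim p hp)

/-- Global generation means no base points. -/
theorem HasDiv.gg_iff (h : HasDiv k hdim M D) :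
    Curv2.IsGloballyGenerated M ↔
      ∀ P : FunFld.Place k X.functionField, FunFld.ell (D - Finsupp.single P 1) < FunFld.ell D := by
  constructor
  · intro hgg P
    obtain ⟨z, rfl⟩ := (pl k X hdim).surjective P
    have := CurveCohLib.PointTwist.lt_of_gg k h.1 z.1 z.2 hgg
    rwa [h.h0 k hdim, (h.twist k hdim z.1 z.2).h0 k hdim] at this
  · intro hlt
    refine CurveCohLib.PointTwist.gg_of_lt k h.1 hdim fun z hz => ?_
    rw [h.h0 k hdim, (h.twist k hdim z hz).h0 k hdim]
    exact hlt _

end Groth.Agent.LS17
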