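import Groth.Agent.FFLib.Embed
import Groth.Agent.FFLib.Riemann

/-! Linear equivalence of divisors of a function field. -/

namespace Groth.Agent.LS17

open FunFld WithZero
open Groth.Agent.FFLib

variable {k K : Type*} [Field k] [Field K] [Algebra k K]

/-- Linear equivalence. -/
def Lin (D E : Divisor k K) : Prop := ∃ z : K, z ≠ 0 ∧ E = D + FunFld.div k z

variable (hF : IsFF k K)
include hF

theorem div_mul {x y : K} (hx : x ≠ 0) (hy : y ≠ 0) :
    FunFld.div k (x * y) = FunFld.div k x + FunFld.div k y := by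
  ext P
  rw [Finsupp.add_apply, div_apply hF, div_apply hF, div_apply hF, ord_mul P hx hy]

theorem div_one : FunFld.div k (1 : K) = 0 := by
  have h := div_mul hF (one_ne_zero : (1 : K) ≠ 0) one_ne_zero
  rw [one_mul] at h
  simpa using h

theorem Lin.refl (D : Divisor k K) : Lin D D := ⟨1, one_ne_zero, by rw [div_one hF, add_zero]⟩

theorem Lin.symm {D E : Divisor k K} (h : Lin D E) : Lin E D := by
  obtain ⟨z, hz, rfl⟩ := h
  exact ⟨z⁻¹, inv_ne_zero hz, by rw [div_inv hF, add_neg_cancel_right]⟩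

theorem Lin.trans {D E F : Divisor k K} (h : Lin D E) (h' : Lin E F) : Lin D F := by
  obtain ⟨z, hz, rfl⟩ := h
  obtain ⟨w, hw, rfl⟩ := h'
  exact ⟨z * w, mul_ne_zero hz hw, by rw [div_mul hF hz hw, add_assoc]⟩

theorem Lin.add {D E D' E' : Divisor k K} (h : Lin D E) (h' : Lin D' E') : Lin (D + D') (E + E') := by
  obtain ⟨z, hz, rfl⟩ := h
  obtain ⟨w, hw, rfl⟩ := h'
  exact ⟨z * w, mul_ne_zero hz hw, by rw [div_mul hF hz hw]; abel⟩

theorem Lin.neg {D E : Divisor k K} (h : Lin D E) : Lin (-D) (-E) := by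
  obtain ⟨z, hz, rfl⟩ := h
  exact ⟨z⁻¹, inv_ne_zero hz, by rw [div_inv hF]; abel⟩

theorem Lin.sub {D E D' E' : Divisor k K} (h : Lin D E) (h' : Lin D' E') : Lin (D - D') (E - E') := by
  simpa [sub_eq_add_neg] using h.add hF (h'.neg hF)

theorem Lin.ell_eq {D E : Divisor k K} (h : Lin D E) : ell D = ell E := by
  obtain ⟨z, hz, rfl⟩ := h
  rw [ell_add_div hF D hz]

theorem Lin.deg_eq {D E : Divisor k K} (h : Lin D E) : D.deg = E.deg := by
  obtain ⟨z, -, rfl⟩ := h
  rw [Divisor.deg_add, deg_div hF, add_zero]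

/-- A nonzero section gives an effective linearly equivalent divisor. -/
theorem exists_effective {D : Divisor k K} (h : 0 < ell D) : ∃ E, 0 ≤ E ∧ Lin D E := by
  obtain ⟨z, hz, -, hle⟩ := exists_le_add_div hF h
  exact ⟨_, hle, z, hz, rfl⟩

theorem ell_pos_of_effective {E : Divisor k K} (h : 0 ≤ E) : 0 < ell E := by
  have := (ell_le_of_le hF h).1
  have := ell_zero_pos hF
  omega

omit hF in
theorem lin_iff_prinDivs {D E : Divisor k K} (h : Lin D E) : E - D ∈ prinDivs k K := by
  obtain ⟨z, -, rfl⟩ := h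
  rw [add_sub_cancel_left]
  exact AddSubgroup.subset_closure ⟨z, rfl⟩

end Groth.Agent.LS17
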