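import Groth.Agent.LS17.Lin
import Groth.Agent.FFLib.Separation
import Groth.Agent.FFLib.PlaneGenus
import Mathlib.LinearAlgebra.QuadraticForm.Basic
import Mathlib.LinearAlgebra.Matrix.BilinearForm

/-! Linear systems on a function field: pencil trick, quadratic relations, plane models. -/

namespace Groth.Agent.LS17

open FunFld WithZero
open Groth.Agent.FFLib

variable {k K : Type*} [Field k] [Field K] [Algebra k K] [IsAlgClosed k] (hK : IsFunctionField k K)

include hK

theorem deg_pt (P : Place k K) : FunFld.Divisor.deg (Finsupp.single P (1 : ℤ)) = 1 := by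
  rw [Divisor.deg_single, deg_eq_one hK.1]; norm_num

theorem deg_sub_pt (D : Divisor k K) (P : Place k K) : (D - Finsupp.single P 1).deg = D.deg - 1 := by
  rw [Divisor.deg_sub, deg_pt hK]

theorem ell_sub_pt_le (D : Divisor k K) (P : Place k K) : ell (D - Finsupp.single P 1) ≤ ell D :=
  (ell_le_of_le hK.1 (sub_le_self D (Finsupp.single_nonneg.mpr zero_le_one))).1

theorem ell_le_sub_pt (D : Divisor k K) (P : Place k K) : ell D ≤ ell (D - Finsupp.single P 1) + 1 := by
  have := (ell_le_of_le hK.1 (sub_le_self D (Finsupp.single_nonneg.mpr zero_le_one) :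
    D - Finsupp.single P 1 ≤ D)).2
  rw [deg_sub_pt hK] at this
  omega

theorem hopf {D E : Divisor k K} (hD : 0 < ell D) (hE : 0 < ell E) :
    ell D + ell E ≤ ell (D + E) + 1 :=
  let ⟨P⟩ := exists_place hK.1
  ell_add_ell_le hK.1 (deg_eq_one hK.1 P) D E hD hE

theorem rr_C {C : Divisor k K} (hC : IsCanonical k K C) (D : Divisor k K) :
    (ell D : ℤ) = D.deg + 1 - genus k K + ell (C - D) ∧
      (ell (C - D) : ℤ) = 2 * (genus k K : ℤ) - 2 - D.deg + 1 - genus k K + ell D ∧
      (C - D).deg = 2 * (genus k K : ℤ) - 2 - D.deg ∧ C - (C - D) = D := by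
  have h := riemann_roch hK hC D
  have h2 := riemann_roch hK hC (C - D)
  have h3 : (C - D).deg = 2 * (genus k K : ℤ) - 2 - D.deg := by
    rw [Divisor.deg_sub, deg_canonical hK hC]
  rw [sub_sub_cancel, h3] at h2
  exact ⟨h, h2, h3, sub_sub_cancel _ _⟩

/-- An effective divisor of degree zero. -/
theorem eq_zero_of_deg_zero {E : Divisor k K} (h : 0 ≤ E) (hd : E.deg = 0) : E = 0 := by
  by_contra hne
  obtain ⟨P, hP⟩ : ∃ P, E P ≠ 0 := by
    by_contra! h0; exact hne (Finsupp.ext h0)
  have h1 : Finsupp.single P 1 ≤ E := fun Q => by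
    rcases eq_or_ne P Q with rfl | hQ
    · have := h P; rw [Finsupp.zero_apply] at this; simp only [Finsupp.single_eq_same]; omega
    · rw [Finsupp.single_eq_of_ne (Ne.symm hQ)]; exact h Q
  have := Divisor.deg_mono h1
  rw [deg_pt hK] at this
  omega

theorem exists_single_le {E : Divisor k K} (h : 0 ≤ E) (hd : 0 < E.deg) :
    ∃ P, Finsupp.single P 1 ≤ E := by
  obtain ⟨P, hP⟩ : ∃ P, E P ≠ 0 := by
    by_contra! h0
    rw [show E = 0 from Finsupp.ext h0, Divisor.deg_zero] at hd
    omega
  refine ⟨P, fun Q => ?_⟩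
  rcases eq_or_ne P Q with rfl | hQ
  · have := h P; rw [Finsupp.zero_apply] at this; simp only [Finsupp.single_eq_same]; omega
  · rw [Finsupp.single_eq_of_ne (Ne.symm hQ)]; exact h Q

/-- A nonconstant function in a space gives two dimensions. -/
theorem two_le_ell {A : Divisor k K} {x : K} (hA : 0 ≤ A) (hx : x ∈ L A)
    (hxc : ∀ c : k, x ≠ algebraMap k K c) : 2 ≤ ell A := by
  have := L_finite hK.1 A
  have hone : (1 : K) ∈ L A := L_mono hA (fun P => by simp)
  have hli : LinearIndependent k ![(⟨1, hone⟩ : L A), ⟨x, hx⟩] := by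
    refine LinearIndependent.pair_iff.2 fun a b h => ?_
    have h' : a • (1 : K) + b • x = 0 := congrArg Subtype.val h
    rcases eq_or_ne b 0 with rfl | hb
    · rw [zero_smul, add_zero, smul_eq_zero] at h'
      exact ⟨h'.resolve_right one_ne_zero, rfl⟩
    · refine absurd ?_ (hxc (-a / b))
      rw [Algebra.smul_def, Algebra.smul_def, mul_one] at h'
      rw [map_div₀, map_neg, eq_div_iff ((map_ne_zero _).2 hb)]
      linear_combination h'
  simpa [ell] using hli.fintype_card_le_finrank

/-- The base point free pencil trick. -/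
theorem pencil_trick {D : Divisor k K} (hD : NoBase D) (hd : 0 < D.deg) (E : Divisor k K) :
    2 * ell E ≤ ell (D + E) + ell (E - D) := by
  obtain ⟨P⟩ := exists_place hK.1
  obtain ⟨s, hs, t, ht, hs0, ht0, -, hst⟩ := exists_pair hK ⟨le_rfl, hD⟩ P
  have := L_finite hK.1 E
  have := L_finite hK.1 (D + E)
  have := L_finite hK.1 (E - D)
  let ψ : L E × L E →ₗ[k] L (D + E) :=
    { toFun := fun p => ⟨p.1.1 * s + p.2.1 * t, by
        rw [add_comm D E]; exact (L (E + D)).add_mem (mul_mem_L p.1.2 hs) (mul_mem_L p.2.2 ht)⟩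
      map_add' := fun p q => Subtype.ext (by push_cast [Prod.fst_add, Prod.snd_add]; ring)
      map_smul' := fun c p => Subtype.ext (by
        simp only [Prod.smul_fst, Prod.smul_snd, Submodule.coe_smul, RingHom.id_apply,
          Algebra.smul_def]
        ring) }
  have hmem : ∀ p : LinearMap.ker ψ, p.1.1.1 / t ∈ L (E - D) := by
    rintro ⟨⟨⟨a, ha⟩, ⟨b, hb⟩⟩, hp⟩
    have he : a * s + b * t = 0 := congrArg Subtype.val hp
    show a / t ∈ L (E - D)
    rcases eq_or_ne a 0 with rfl | ha0
    · simp
    have hb0 : b ≠ 0 := fun h => by rw [h, zero_mul, add_zero, mul_eq_zero] at he; tauto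
    rw [mem_L_iff_ord (div_ne_zero ha0 ht0)]
    intro Q
    rw [div_eq_mul_inv, ord_mul Q ha0 (inv_ne_zero ht0), ord_inv, Finsupp.sub_apply]
    have h1 := (mem_L_iff_ord ha0).mp ha Q
    have h2 := (mem_L_iff_ord hb0).mp hb Q
    have h3 : Q.ord a + Q.ord s = Q.ord b + Q.ord t := by
      rw [← ord_mul Q ha0 hs0, ← ord_mul Q hb0 ht0, eq_neg_of_add_eq_zero_left he]
      simp [Place.ord, Valuation.map_neg]
    rcases hst Q with h | h <;> omega
  let φ : LinearMap.ker ψ →ₗ[k] L (E - D) :=
    { toFun := fun p => ⟨p.1.1.1 / t, hmem p⟩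
      map_add' := fun p q => Subtype.ext (by simp [add_div])
      map_smul' := fun c p => Subtype.ext (by simp [smul_div_assoc]) }
  have h1 : Module.finrank k (LinearMap.ker ψ) ≤ ell (E - D) := by
    refine LinearMap.finrank_le_finrank_of_injective (f := φ) fun p q h => ?_
    have h1 : p.1.1.1 = q.1.1.1 := by simpa [φ, ht0] using congrArg Subtype.val h
    have hp : p.1.1.1 * s + p.1.2.1 * t = 0 := congrArg Subtype.val p.2
    have hq : q.1.1.1 * s + q.1.2.1 * t = 0 := congrArg Subtype.val q.2
    have h2 : p.1.2.1 = q.1.2.1 := mul_right_cancel₀ ht0 (by linear_combination hp - hq - s * h1)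
    exact Subtype.ext (Prod.ext (Subtype.ext h1) (Subtype.ext h2))
  have h0 := LinearMap.finrank_range_add_finrank_ker ψ
  have h2 := (LinearMap.range ψ).finrank_le
  rw [Module.finrank_prod] at h0
  simp only [ell] at h1 ⊢
  omega

/-- Sections of two divisors against those of their supremum and infimum. -/
theorem ell_add_le_sup_inf (D E : Divisor k K) : ell D + ell E ≤ ell (D ⊔ E) + ell (D ⊓ E) := by
  have := L_finite hK.1 D
  have := L_finite hK.1 E
  have := L_finite hK.1 (D ⊔ E)
  have := L_finite hK.1 (D ⊓ E)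
  have h1 := Submodule.finrank_sup_add_finrank_inf_eq (L D) (L E)
  have h2 := Submodule.finrank_mono (sup_le (L_mono (le_sup_left : D ≤ D ⊔ E)) (L_mono le_sup_right))
  have h3 := Submodule.finrank_mono (show L D ⊓ L E ≤ L (D ⊓ E) from fun x hx Q => by
    rw [Finsupp.inf_apply]
    rcases le_total (D Q) (E Q) with h | h
    · rw [inf_eq_left.2 h]; exact hx.1 Q
    · rw [inf_eq_right.2 h]; exact hx.2 Q)
  simp only [ell] at *
  omega

/-- Two pencils from a quadric relation `p * q = r * t`. -/
theorem exists_pencils_of_rel {D : Divisor k K} {p q r t : K} (hp : p ∈ L D) (hq : q ∈ L D)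
    (hr : r ∈ L D) (ht : t ∈ L D) (hp0 : p ≠ 0) (hr0 : r ≠ 0) (ht0 : t ≠ 0) (h : p * q = r * t)
    (hrp : ∀ c : k, r ≠ c • p) (htp : ∀ c : k, t ≠ c • p) :
    ∃ A B : Divisor k K, 2 ≤ ell A ∧ 2 ≤ ell B ∧ Lin D (A + B) := by
  have hq0 : q ≠ 0 := fun h0 => mul_ne_zero hr0 ht0 (by rw [← h, h0, mul_zero])
  have hord : ∀ Q : Place k K, Q.ord p + Q.ord q = Q.ord r + Q.ord t := fun Q => by
    rw [← ord_mul Q hp0 hq0, ← ord_mul Q hr0 ht0, h]
  let A : Divisor k K := (D + FunFld.div k p) ⊓ (D + FunFld.div k r)
  let B : Divisor k K := D + FunFld.div k p - A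
  have hA : ∀ Q, A Q = min (D Q + Q.ord p) (D Q + Q.ord r) := fun Q => by
    simp only [A, Finsupp.inf_apply, Finsupp.add_apply, div_apply hK.1]
  have hB : ∀ Q, B Q = D Q + Q.ord p - min (D Q + Q.ord p) (D Q + Q.ord r) := fun Q => by
    simp only [B, Finsupp.sub_apply, Finsupp.add_apply, div_apply hK.1, hA]
  have hp' := fun Q => (mem_L_iff_ord hp0).mp hp Q
  have hq' := fun Q => (mem_L_iff_ord hq0).mp hq Q
  have hr' := fun Q => (mem_L_iff_ord hr0).mp hr Q
  have ht' := fun Q => (mem_L_iff_ord ht0).mp ht Q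
  have hA0 : (0 : Divisor k K) ≤ A := fun Q => by
    rw [Finsupp.zero_apply, hA]; have := hp' Q; have := hr' Q; omega
  have hB0 : (0 : Divisor k K) ≤ B := fun Q => by
    rw [Finsupp.zero_apply, hB]; omega
  have hconst : ∀ {u : K}, (∀ c : k, u ≠ c • p) → ∀ c : k, u / p ≠ algebraMap k K c := fun {u} hu c e =>
    hu c (by rw [Algebra.smul_def, ← e, div_mul_cancel₀ _ hp0])
  refine ⟨A, B, two_le_ell hK hA0 (x := t / p) ?_ (hconst htp),
    two_le_ell hK hB0 (x := r / p) ?_ (hconst hrp), p, hp0, by simp [B]⟩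
  · rw [mem_L_iff_ord (div_ne_zero ht0 hp0)]
    intro Q
    rw [div_eq_mul_inv, ord_mul Q ht0 (inv_ne_zero hp0), ord_inv, hA]
    have := hord Q; have := hp' Q; have := hq' Q; have := hr' Q; have := ht' Q
    omega
  · rw [mem_L_iff_ord (div_ne_zero hr0 hp0)]
    intro Q
    rw [div_eq_mul_inv, ord_mul Q hr0 (inv_ne_zero hp0), ord_inv, hB]
    have := hord Q; have := hp' Q; have := hq' Q; have := hr' Q; have := ht' Q
    omega

/-- Few quadrics on a series of dimension two or three give two pencils. -/
theorem exists_pencils_of_few_quadrics [CharZero k] {D : Divisor k K} (hn : ell D = 3 ∨ ell D = 4)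
    (h2 : 2 * ell (D + D) < ell D * (ell D + 1)) :
    ∃ A B : Divisor k K, 2 ≤ ell A ∧ 2 ≤ ell B ∧ Lin D (A + B) := by
  classical
  have := L_finite hK.1 D
  have := L_finite hK.1 (D + D)
  let n := ell D
  let b : Module.Basis (Fin n) k (L D) := Module.finBasis k (L D)
  have hbl : LinearIndependent k (fun i => (b i : K)) :=
    b.linearIndependent.map' (L D).subtype (Submodule.ker_subtype _)
  let T := {p : Fin n × Fin n // p.1 ≤ p.2}
  let φ : (T → k) →ₗ[k] L (D + D) := Fintype.linearCombination k
    fun p : T => (⟨(b p.1.1 : K) * b p.1.2, mul_mem_L (b p.1.1).2 (b p.1.2).2⟩ : L (D + D))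
  have hcard : 2 * Fintype.card T = n * (n + 1) := by
    show 2 * Fintype.card {p : Fin (ell D) × Fin (ell D) // p.1 ≤ p.2} = ell D * (ell D + 1)
    rcases hn with h | h <;> rw [h] <;> rfl
  obtain ⟨c, hc, hc0⟩ : ∃ c ∈ LinearMap.ker φ, c ≠ 0 := by
    refine Submodule.exists_mem_ne_zero_of_ne_bot fun hbot => ?_
    have h3 := LinearMap.finrank_le_finrank_of_injective (LinearMap.ker_eq_bot.1 hbot)
    rw [Module.finrank_fintype_fun_eq_card] at h3
    change _ ≤ ell (D + D) at h3
    change 2 * ell (D + D) < n * (n + 1) at h2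
    omega
  have hsum : ∑ p : T, c p • ((b p.1.1 : K) * b p.1.2) = 0 := by
    have h := congrArg Subtype.val (LinearMap.mem_ker.1 hc)
    simpa [φ, Fintype.linearCombination_apply] using h
  let C : Matrix (Fin n) (Fin n) k := fun i j => if h : i ≤ j then c ⟨(i, j), h⟩ else 0
  have hC : ∑ i, ∑ j, C i j • ((b i : K) * b j) = 0 := by
    rw [← Fintype.sum_prod_type (f := fun x : Fin n × Fin n => C x.1 x.2 • ((b x.1 : K) * b x.2)),
      ← Finset.sum_filter_of_ne (p := fun x : Fin n × Fin n => x.1 ≤ x.2)]
    · rw [Finset.sum_subtype (p := fun x : Fin n × Fin n => x.1 ≤ x.2) _ (by simp)]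
      refine Eq.trans (Finset.sum_congr rfl fun x _ => ?_) hsum
      simp [C, x.2]
    · intro x _ hx
      by_contra hle
      simp [C, hle] at hx
  let M : Matrix (Fin n) (Fin n) k := C + C.transpose
  have hM0 : M ≠ 0 := by
    intro h0
    refine hc0 (funext fun ⟨⟨i, j⟩, hij⟩ => ?_)
    have h := congrFun (congrFun h0 i) j
    simp only [M, Matrix.add_apply, Matrix.transpose_apply, Matrix.zero_apply, C, dif_pos hij] at h
    rcases eq_or_lt_of_le hij with e | e
    · obtain rfl : i = j := e
      rw [dif_pos le_rfl, ← two_mul, mul_eq_zero] at h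
      exact h.resolve_left two_ne_zero
    · rw [dif_neg (not_le.2 e), add_zero] at h
      exact h
  have hM : ∑ i, ∑ j, M i j • ((b i : K) * b j) = 0 := by
    simp only [M, Matrix.add_apply, Matrix.transpose_apply, add_smul, Finset.sum_add_distrib, hC, zero_add]
    rw [Finset.sum_comm]
    refine Eq.trans ?_ hC
    exact Finset.sum_congr rfl fun i _ => Finset.sum_congr rfl fun j _ => by rw [mul_comm]
  let Bf : LinearMap.BilinForm k (Fin n → k) := Matrix.toBilin' M
  have hsymm : LinearMap.IsSymm Bf := ⟨fun x y => by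
    simp only [RingHom.id_apply, Bf, Matrix.toBilin'_apply]
    rw [Finset.sum_comm]
    refine Finset.sum_congr rfl fun i _ => Finset.sum_congr rfl fun j _ => ?_
    simp only [M, Matrix.add_apply, Matrix.transpose_apply]
    ring⟩
  haveI : Invertible (2 : k) := invertibleOfNonzero two_ne_zero
  obtain ⟨v₀, hv₀⟩ := LinearMap.BilinForm.exists_orthogonal_basis hsymm
  let v := v₀.reindex (finCongr (Module.finrank_fin_fun (R := k)))
  have hv : ∀ l m, l ≠ m → Bf (v l) (v m) = 0 := fun l m hlm => by
    simp only [v, Module.Basis.reindex_apply]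
    exact hv₀ (fun h => hlm ((Equiv.injective _) h))
  let cc : Fin n → Fin n → k := fun i l => v.repr (Pi.single i 1) l
  let w : Fin n → k := fun l => Bf (v l) (v l)
  have hMe : ∀ i j, M i j = ∑ l, cc i l * cc j l * w l := by
    intro i j
    rw [← Matrix.toBilin'_single M i j]
    conv_lhs => rw [← v.sum_repr (Pi.single i 1), ← v.sum_repr (Pi.single j 1)]
    simp only [map_sum, map_smul, LinearMap.sum_apply, LinearMap.smul_apply, smul_eq_mul]
    refine Finset.sum_congr rfl fun l _ => ?_
    rw [Finset.sum_eq_single l]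
    · simp only [cc, w, Bf]; ring
    · intro m _ hm
      have h0 := hv l m (Ne.symm hm)
      simp only [Bf] at h0
      first | (rw [h0]; ring) | (have h0' := hv m l hm; simp only [Bf] at h0'; rw [h0']; ring)
    · simp
  let u : Fin n → K := fun l => ∑ i, cc i l • (b i : K)
  have hu : ∀ l, u l ∈ L D := fun l => Submodule.sum_mem _ fun i _ => Submodule.smul_mem _ _ (b i).2
  have hul : LinearIndependent k u := by
    rw [Fintype.linearIndependent_iff]
    intro a ha
    simp only [u, Finset.smul_sum, smul_smul] at ha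
    rw [Finset.sum_comm] at ha
    simp only [← Finset.sum_smul] at ha
    have h0 := Fintype.linearIndependent_iff.1 hbl _ ha
    let f : (Fin n → k) →ₗ[k] k := ∑ l, a l • v.coord l
    have hf : f = 0 := LinearMap.pi_ext fun i x => by
      rw [show (Pi.single i x : Fin n → k) = x • Pi.single i 1 by
        rw [← Pi.single_smul', smul_eq_mul, mul_one], map_smul]
      simp only [f, LinearMap.sum_apply, LinearMap.smul_apply, Module.Basis.coord_apply,
        smul_eq_mul, LinearMap.zero_apply, mul_eq_zero]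
      exact Or.inr (h0 i)
    intro l
    simpa [f, Finsupp.single_apply] using LinearMap.congr_fun hf (v l)
  choose e he using fun l => IsAlgClosed.exists_eq_mul_self (w l)
  let z : Fin n → K := fun l => e l • u l
  have hz : ∑ l, z l * z l = 0 := by
    refine Eq.trans ?_ hM
    simp only [hMe, Finset.sum_smul]
    rw [Finset.sum_congr rfl fun i _ => Finset.sum_comm, Finset.sum_comm]
    refine Finset.sum_congr rfl fun l _ => ?_
    simp only [z, u, smul_mul_smul_comm, ← he, Finset.sum_mul_sum, Finset.smul_sum, smul_smul]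
    exact Finset.sum_congr rfl fun i _ => Finset.sum_congr rfl fun j _ => by rw [he l]; ring_nf
  let S : Finset (Fin n) := Finset.univ.filter fun l => w l ≠ 0
  have hzS : ∑ l ∈ S, z l * z l = 0 := by
    rw [Finset.sum_filter_of_ne]
    · exact hz
    · intro l _ hl hw
      apply hl
      have : e l = 0 := mul_self_eq_zero.1 (by rw [← he, hw])
      simp [z, this]
  have hzmem : ∀ l, z l ∈ L D := fun l => Submodule.smul_mem _ _ (hu l)
  have hzl : LinearIndependent k (fun l : S => z l) := by
    have h1 := (hul.comp (fun l : S => (l : Fin n)) Subtype.val_injective).units_smul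
      (fun l : S => Units.mk0 (e l) fun h0 => (Finset.mem_filter.1 l.2).2 (by rw [he, h0, mul_zero]))
    exact h1
  obtain ⟨i, hi⟩ := IsAlgClosed.exists_eq_mul_self (-1 : k)
  have hi' : algebraMap k K i * algebraMap k K i = -1 := by rw [← map_mul, ← hi, map_neg, map_one]
  have hi0 : i ≠ 0 := fun h0 => by rw [h0, mul_zero] at hi; norm_num at hi
  have hSn : S.card ≤ 4 := by
    have := Finset.card_le_univ S
    rw [Fintype.card_fin] at this
    omega
  have hSne : S.Nonempty := by
    rw [Finset.nonempty_iff_ne_empty]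
    intro hS
    refine hM0 (Matrix.ext fun a c => ?_)
    rw [hMe, Matrix.zero_apply]
    refine Finset.sum_eq_zero fun l _ => ?_
    have : w l = 0 := by
      by_contra h
      exact Finset.notMem_empty l (hS ▸ Finset.mem_filter.2 ⟨Finset.mem_univ l, h⟩)
    rw [this, mul_zero]
  have hind : ∀ (f : Fin n → k), ∑ l ∈ S, f l • z l = 0 → ∀ l ∈ S, f l = 0 := fun f hf l hl =>
    Fintype.linearIndependent_iff.1 hzl (fun l => f l) (by
      rw [Finset.sum_coe_sort S (fun l => f l • z l)]; exact hf) ⟨l, hl⟩
  have hS1 := Finset.card_pos.2 hSne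
  rcases (show S.card = 1 ∨ S.card = 2 ∨ S.card = 3 ∨ S.card = 4 by omega) with h | h | h | h
  · obtain ⟨x, hx⟩ := Finset.card_eq_one.1 h
    rw [hx, Finset.sum_singleton, mul_self_eq_zero] at hzS
    have := hind (fun _ => 1) (by rw [hx, Finset.sum_singleton, hzS, smul_zero]) x (by simp [hx])
    exact absurd this one_ne_zero
  · obtain ⟨x, y, hxy, hx⟩ := Finset.card_eq_two.1 h
    rw [hx, Finset.sum_pair hxy] at hzS
    have h' : (z x + i • z y) * (z x - i • z y) = 0 := by
      rw [Algebra.smul_def]
      linear_combination hzS - z y * z y * hi'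
    rcases mul_eq_zero.1 h' with h' | h'
    · have := hind (fun l => if l = x then 1 else i) (by
        rw [hx, Finset.sum_pair hxy]; simpa [hxy.symm] using h') x (by simp [hx])
      simp at this
    · have := hind (fun l => if l = x then 1 else -i) (by
        rw [hx, Finset.sum_pair hxy]; simpa [hxy.symm, sub_eq_add_neg] using h') x (by simp [hx])
      simp at this
  · obtain ⟨x, y, m, hxy, hxm, hym, hx⟩ := Finset.card_eq_three.1 h
    rw [hx] at hzS hind
    simp only [Finset.sum_insert, Finset.mem_insert, Finset.mem_singleton, hxy, hxm, hym, or_self,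
      not_false_eq_true, Finset.sum_singleton] at hzS
    have ind : ∀ α β γ : k, α • z x + β • z y + γ • z m = 0 → α = 0 ∧ β = 0 ∧ γ = 0 := by
      intro α β γ h'
      have := hind (fun l => if l = x then α else if l = y then β else γ) (by
        simp [hxy, hxm, hym, hxy.symm, hxm.symm, hym.symm, ← add_assoc, h'])
      have a := this x (by simp); have b := this y (by simp); have c := this m (by simp)
      simp [hxy.symm, hxm.symm, hym.symm] at a b c
      exact ⟨a, b, c⟩
    refine exists_pencils_of_rel hK (p := z x + i • z y) (q := z x - i • z y) (r := i • z m) (t := i • z m)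
      (add_mem (hzmem x) (Submodule.smul_mem _ _ (hzmem y)))
      (sub_mem (hzmem x) (Submodule.smul_mem _ _ (hzmem y)))
      (Submodule.smul_mem _ _ (hzmem m)) (Submodule.smul_mem _ _ (hzmem m)) ?_ ?_ ?_ ?_ ?_ ?_
    · exact fun h' => one_ne_zero (ind 1 i 0 (by simpa using h')).1
    · exact fun h' => hi0 (ind 0 0 i (by simpa using h')).2.2
    · exact fun h' => hi0 (ind 0 0 i (by simpa using h')).2.2
    · simp only [Algebra.smul_def]
      linear_combination hzS - (z y * z y + z m * z m) * hi'
    all_goals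
      intro c h'
      exact hi0 (ind (-c) (-(c * i)) i (by
        linear_combination (norm := module) h')).2.2
  · obtain ⟨x, y, m, o, hxy, hxm, hxo, hym, hyo, hmo, hx⟩ := Finset.card_eq_four.1 h
    rw [hx] at hzS hind
    simp only [Finset.sum_insert, Finset.mem_insert, Finset.mem_singleton, hxy, hxm, hxo, hym, hyo, hmo,
      or_self, not_false_eq_true, Finset.sum_singleton] at hzS
    have ind : ∀ α β γ δ : k, α • z x + β • z y + γ • z m + δ • z o = 0 → α = 0 ∧ β = 0 ∧ γ = 0 ∧ δ = 0 := by
      intro α β γ δ h'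
      have := hind (fun l => if l = x then α else if l = y then β else if l = m then γ else δ) (by
        simp [hxy, hxm, hxo, hym, hyo, hmo, hxy.symm, hxm.symm, hxo.symm, hym.symm, hyo.symm, hmo.symm,
          ← add_assoc, h'])
      have a := this x (by simp); have b := this y (by simp); have c := this m (by simp); have d := this o (by simp)
      simp [hxy.symm, hxm.symm, hxo.symm, hym.symm, hyo.symm, hmo.symm] at a b c d
      exact ⟨a, b, c, d⟩
    refine exists_pencils_of_rel hK (p := z x + i • z y) (q := z x - i • z y) (r := i • z m + z o)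
      (t := i • z m - z o)
      (add_mem (hzmem x) (Submodule.smul_mem _ _ (hzmem y)))
      (sub_mem (hzmem x) (Submodule.smul_mem _ _ (hzmem y)))
      (add_mem (Submodule.smul_mem _ _ (hzmem m)) (hzmem o))
      (sub_mem (Submodule.smul_mem _ _ (hzmem m)) (hzmem o)) ?_ ?_ ?_ ?_ ?_ ?_
    · exact fun h' => one_ne_zero (ind 1 i 0 0 (by simpa using h')).1
    · exact fun h' => hi0 (ind 0 0 i 1 (by simpa using h')).2.2.1
    · exact fun h' => hi0 (ind 0 0 i (-1) (by simpa [sub_eq_add_neg] using h')).2.2.1
    · simp only [Algebra.smul_def]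
      linear_combination hzS - (z y * z y + z m * z m) * hi'
    · intro c h'
      exact hi0 (ind (-c) (-(c * i)) i 1 (by linear_combination (norm := module) h')).2.2.1
    · intro c h'
      exact hi0 (ind (-c) (-(c * i)) i (-1) (by linear_combination (norm := module) h')).2.2.1

/-- A plane model separating all points and tangents is nonsingular. -/
theorem genus_of_sep {D : Divisor k K} (h3 : ell D = 3) (hd : 0 < D.deg)
    (hsep : ∀ P Q : Place k K, ell (D - Finsupp.single P 1 - Finsupp.single Q 1) + 2 ≤ ell D) :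
    2 * (genus k K : ℤ) = (D.deg - 1) * (D.deg - 2) := by
  classical
  obtain ⟨E, hE, hl⟩ := exists_effective hK.1 (D := D) (by omega)
  have h3' : ell E = 3 := by rw [← hl.ell_eq hK.1, h3]
  rw [hl.deg_eq hK.1] at hd ⊢
  have hsep' : ∀ P Q : Place k K, ell (E - Finsupp.single P 1 - Finsupp.single Q 1) + 2 ≤ 3 := fun P Q => by
    rw [← (((hl.sub hK.1 (Lin.refl hK.1 _)).sub hK.1 (Lin.refl hK.1 _)).ell_eq hK.1), ← h3]
    exact hsep P Q
  have hB : NoBase E := noBase_of_ell hK.1 fun P => by
    have := hsep' P P; have := ell_le_sub_pt hK (E - Finsupp.single P 1) P; omega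
  have hB' : ∀ P, NoBase (E - Finsupp.single P 1) := fun P => noBase_of_ell hK.1 fun Q => by
    have := hsep' P Q; have := ell_le_sub_pt hK E P; omega
  have := L_finite hK.1 E
  have hone : (1 : K) ∈ L E := L_mono hE (fun P => by simp)
  have hfr : Module.finrank k (L E) = 3 := h3'
  obtain ⟨x, hx, hx'⟩ : ∃ x ∈ L E, x ∉ Submodule.span k ({1} : Set K) := by
    refine SetLike.not_le_iff_exists.1 fun hle => ?_
    have := (Submodule.finrank_mono hle).trans (finrank_span_le_card ({1} : Set K))
    simp at this; omega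
  obtain ⟨y, hy, hy'⟩ : ∃ y ∈ L E, y ∉ Submodule.span k ({1, x} : Set K) := by
    refine SetLike.not_le_iff_exists.1 fun hle => ?_
    haveI : Module.Finite k (Submodule.span k ({1, x} : Set K)) := FiniteDimensional.span_of_finite k (Set.toFinite _)
    have h1 := (Submodule.finrank_mono hle).trans (finrank_span_le_card ({1, x} : Set K))
    have : ({1, x} : Set K).toFinset.card ≤ 2 := by
      rw [Set.toFinset_insert, Set.toFinset_singleton]; exact Finset.card_le_two
    omega
  let φ : Fin 3 → K := ![1, x, y]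
  have hφmem : ∀ i, φ i ∈ L E := by intro i; fin_cases i <;> assumption
  have hli : LinearIndependent k φ := by
    have h1 : LinearIndependent k ![x, y] := by
      refine LinearIndependent.pair_iff.2 fun a b h => ?_
      rcases eq_or_ne b 0 with rfl | hb
      · rw [zero_smul, add_zero, smul_eq_zero] at h
        rcases h with h | h
        · exact ⟨h, rfl⟩
        · exact absurd (h ▸ Submodule.zero_mem _) hx'
      · refine absurd (Submodule.mem_span_pair.2 ⟨0, -a / b, ?_⟩) hy'
        rw [zero_smul, zero_add, ← smul_right_inj hb, smul_smul, mul_div_cancel₀ _ hb, neg_smul]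
        exact (eq_neg_of_add_eq_zero_right h).symm
    refine linearIndependent_fin_cons.2 ⟨h1, fun hmem => ?_⟩
    rw [Matrix.range_cons, Matrix.range_cons, Matrix.range_empty, Set.union_empty, ← Set.insert_eq] at hmem
    obtain ⟨a, b, hab⟩ := Submodule.mem_span_pair.1 hmem
    rcases eq_or_ne b 0 with rfl | hb
    · rw [zero_smul, add_zero] at hab
      have ha : a ≠ 0 := fun h => one_ne_zero (by rw [← hab, h, zero_smul])
      refine hx' (Submodule.mem_span_singleton.2 ⟨a⁻¹, ?_⟩)
      rw [← hab, smul_smul, inv_mul_cancel₀ ha, one_smul]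
    · refine hy' (Submodule.mem_span_pair.2 ⟨b⁻¹, -(b⁻¹ * a), ?_⟩)
      rw [← hab, smul_add, smul_smul, smul_smul, inv_mul_cancel₀ hb, one_smul, neg_smul]
      abel
  have hspan : Submodule.span k (Set.range φ) = L E := by
    refine Submodule.eq_of_le_of_finrank_le (Submodule.span_le.2 ?_) ?_
    · rintro _ ⟨i, rfl⟩; exact hφmem i
    · rw [finrank_span_eq_card hli, Fintype.card_fin, hfr]
  have hmap : FunFld.mapDiv k φ = E := by
    ext P
    rw [mapDiv_apply hK.1]
    have hne : ∀ i, φ i ≠ 0 := fun i => hli.ne_zero i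
    obtain ⟨v, hv, hv'⟩ := hB P
    obtain ⟨j, hj⟩ : ∃ j, φ j ∉ L (E - Finsupp.single P 1) := by
      by_contra! hall
      exact ((not_mem_L_sub_iff hv).mpr hv') ((Submodule.span_le.mpr (by
        rintro _ ⟨i, rfl⟩; exact hall i) : Submodule.span k (Set.range φ) ≤ _) (hspan.symm ▸ hv))
    have h1 := ((not_mem_L_sub_iff (hφmem j)).mp hj).2
    have h2 : Finset.univ.inf' Finset.univ_nonempty (fun i => P.ord (φ i)) = -E P :=
      le_antisymm ((Finset.inf'_le _ (Finset.mem_univ j)).trans h1.le)
        ((Finset.le_inf'_iff _ _).2 fun i _ => (mem_L_iff_ord (hne i)).mp (hφmem i) P)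
    rw [h2, neg_neg]
  have hbpf : IsBpfSeries E (Submodule.span k (Set.range φ)) := by rw [hspan]; exact ⟨le_rfl, hB⟩
  have hns : ∀ P, IsNonsingularAt φ P := fun P => isNonsingularAt_of_bpf hK hbpf hd P (by
    rw [hspan, inf_eq_right.2 (L_mono (sub_le_self E (Finsupp.single_nonneg.mpr zero_le_one)))]
    exact ⟨le_rfl, hB' P⟩)
  obtain ⟨P⟩ := exists_place hK.1
  have hadj : IntermediateField.adjoin k ({x, y} : Set K) = ⊤ := by
    rw [eq_top_iff, ← adjoin_ratios_eq_top hK φ one_ne_zero P (hns P), IntermediateField.adjoin_le_iff]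
    rintro _ ⟨i, rfl⟩
    show φ i / φ 0 ∈ IntermediateField.adjoin k ({x, y} : Set K)
    rw [show φ 0 = 1 from rfl, _root_.div_one]
    fin_cases i
    · exact one_mem _
    · exact IntermediateField.subset_adjoin k _ (Set.mem_insert _ _)
    · exact IntermediateField.subset_adjoin k _ (Set.mem_insert_of_mem _ rfl)
  have h := genus_eq_of_nonsingular hK hadj hns
  rwa [show FunFld.mapDiv k ![(1 : K), x, y] = E from hmap] at h

end Groth.Agent.LS17
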