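import Groth.Agent.LS17.ProjPairs
import Groth.Agent.FFLib.Separation

/-! Projection from a general point of a birationally embedded curve is birational. -/

namespace Groth.Agent.LS17

open FunFld WithZero IntermediateField
open Groth.Agent.FFLib

variable {k K : Type*} [Field k] [IsAlgClosed k] [CharZero k] [Field K] [Algebra k K]

/-- Almost every place is the only one with its values. -/
theorem finite_not_injective (hK : IsFunctionField k K) {n : ℕ} (hn : 1 ≤ n) (F : Fin (n + 1) → K) (hF0 : F 0 = 1)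
    (hF : LinearIndependent k F) (hgen : adjoin k (Set.range F) = ⊤) :
    ∃ T : Set (Place k K), T.Finite ∧ ∀ Q ∉ T, ∀ R : Place k K, (∀ i, Q.1 (F i) ≤ 1) → (∀ i, R.1 (F i) ≤ 1) →
      (∀ i, pv R (F i) = pv Q (F i)) → R = Q := by
  refine ⟨_, finite_singular hK hn hF (by simpa [hF0] using hgen), fun Q hQ R hQF hRF hv => ?_⟩
  refine (place_eq_of_le fun z hz => ?_).symm
  obtain ⟨j, hj0, hmin, a, ha, w, hw, hw1, he⟩ := (not_not.mp hQ : IsNonsingularAt F Q) z hz
  have hjQ : Q.1 (F j) = 1 := le_antisymm (hQF j) (by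
    have := hmin 0
    rwa [hF0, map_one] at this)
  have hpj : pv Q (F j) ≠ 0 := fun h => by
    have h1 := pv_spec hK (hQF j)
    rw [h, map_zero, sub_zero, hjQ] at h1
    exact lt_irrefl _ h1
  have key : ∀ y ∈ Algebra.adjoin k (Set.range fun i => F i / F j),
      Q.1 y ≤ 1 ∧ R.1 y ≤ 1 ∧ pv R y = pv Q y := by
    intro y hy
    induction hy using Algebra.adjoin_induction with
    | mem y hy =>
      obtain ⟨i, rfl⟩ := hy
      have h1 := pv_div hK (hQF i) (hQF j) hpj
      have h2 := pv_div hK (hRF i) (hRF j) (by rw [hv]; exact hpj)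
      exact ⟨h1.1, h2.1, by rw [h1.2, h2.2, hv, hv]⟩
    | algebraMap c => exact ⟨Q.2.1 c, R.2.1 c, by rw [pv_const, pv_const]⟩
    | add x y _ _ hx hy =>
      exact ⟨le_one_add hx.1 hy.1, le_one_add hx.2.1 hy.2.1,
        by rw [pv_add hK hx.2.1 hy.2.1, pv_add hK hx.1 hy.1, hx.2.2, hy.2.2]⟩
    | mul x y _ _ hx hy =>
      exact ⟨le_one_mul hx.1 hy.1, le_one_mul hx.2.1 hy.2.1,
        by rw [pv_mul hK hx.2.1 hy.2.1, pv_mul hK hx.1 hy.1, hx.2.2, hy.2.2]⟩
  obtain ⟨hwQ, hwR, hwv⟩ := key w hw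
  have hw0 : pv Q w ≠ 0 := fun h => by
    have h1 := pv_spec hK hwQ
    rw [h, map_zero, sub_zero, hw1] at h1
    exact lt_irrefl _ h1
  have hwne : w ≠ 0 := fun e => by rw [e, map_zero] at hw1; exact zero_ne_one hw1
  have := (pv_div hK (key a ha).2.1 hwR (by rw [hwv]; exact hw0)).1
  rwa [← he, mul_div_cancel_right₀ _ hwne] at this

theorem exists_forms (k : Type*) [Field k] {n : ℕ} (hn : 4 ≤ n) (v w : Fin n → k) :
    ∃ a b : Fin n → k, LinearIndependent k ![a, b] ∧ (∑ i, a i * v i = 0 ∧ ∑ i, a i * w i = 0) ∧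
      (∑ i, b i * v i = 0 ∧ ∑ i, b i * w i = 0) := by
  let L : (Fin n → k) →ₗ[k] Fin 2 → k := LinearMap.pi fun j => Fintype.linearCombination k (![v, w] j)
  have h := L.finrank_range_add_finrank_ker
  have h2 : Module.finrank k (LinearMap.range L) ≤ 2 := le_of_le_of_eq (Submodule.finrank_le _) (Module.finrank_fin_fun k)
  rw [Module.finrank_fin_fun] at h
  obtain ⟨f, hf⟩ := exists_linearIndependent_of_le_finrank (R := k) (M := LinearMap.ker L) (n := 2) (by omega)
  have key : ∀ x : LinearMap.ker L, ∑ i, (x : Fin n → k) i * v i = 0 ∧ ∑ i, (x : Fin n → k) i * w i = 0 := fun x => by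
    have h0 := congrFun x.2 0
    have h1 := congrFun x.2 1
    simp [L, Fintype.linearCombination_apply] at h0 h1
    exact ⟨h0, h1⟩
  refine ⟨f 0, f 1, LinearIndependent.pair_iff.2 fun s t hst => ?_, key _, key _⟩
  have h0 := Fintype.linearIndependent_iff.1 hf ![s, t] (Subtype.ext (by
    simpa [Fin.sum_univ_two] using hst))
  exact ⟨by simpa using h0 0, by simpa using h0 1⟩

/-- Trisecant lemma. -/
theorem exists_birational_projection (hK : IsFunctionField k K) {m : ℕ} (hm : 2 ≤ m) (F : Fin (m + 2) → K)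
    (hF0 : F 0 = 1) (hF : LinearIndependent k F) (hgen : adjoin k (Set.range F) = ⊤)
    (S : Set (Place k K)) (hS : S.Finite) :
    ∃ P ∉ S, (∀ i, P.1 (F i) ≤ 1) ∧ adjoin k (Set.range fun i : Fin (m + 1) =>
      (F i.succ - algebraMap k K (pv P (F i.succ))) / (F 1 - algebraMap k K (pv P (F 1)))) = ⊤ := by
  classical
  by_contra! hno
  obtain ⟨D, hD⟩ := exists_derivation hK
  obtain ⟨T, hT, hinj⟩ := finite_not_injective hK (by omega) F hF0 hF hgen
  -- bound for the zeros of the minors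
  let DF : Divisor k K := ∑ i, poles (k := k) (F i)
  let DD : Divisor k K := ∑ i, poles (k := k) (D (F i))
  have hnn : ∀ (f : Fin (m + 2) → K) i, poles (k := k) (f i) ≤ ∑ l, poles (k := k) (f l) := fun f i =>
    Finset.single_le_sum (fun l _ => poles_nonneg (f l)) (Finset.mem_univ i)
  have hmem : ∀ (f : Fin (m + 2) → K) i, f i ∈ L (∑ l, poles (k := k) (f l) : Divisor k K) := fun f i =>
    L_mono (hnn f i) fun R => val_le_exp_poles hK.1 (f i) R
  set E : Divisor k K := DF + DD
  set N := E.deg.toNat + 1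
  -- centres of projection
  let U : Set (Place k K) := S ∪ T ∪ (⋃ i, {R | ¬ R.1 (F i) ≤ 1}) ∪ E.support
  have hU : U.Finite := ((hS.union hT).union (Set.finite_iUnion fun i => finite_not_le_one hK _)).union
    E.support.finite_toSet
  obtain ⟨Ps, hPs, hcard⟩ := ((infinite_places' hK.1).sdiff hU).exists_subset_card_eq N
  have hPmem : ∀ P ∈ Ps, P ∉ S ∧ P ∉ T ∧ (∀ i, P.1 (F i) ≤ 1) := fun P hP => by
    have := (hPs hP).2
    simp only [U, Set.mem_union, Set.mem_iUnion, Set.mem_setOf_eq, not_or, not_exists, not_not] at this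
    exact ⟨this.1.1.1, this.1.1.2, this.1.2⟩
  have hpairs : ∀ P : Ps, _ := fun P => projection_pairs hK D hD F hF0 hF (by omega) P.1
    (hno P.1 (hPmem P.1 P.2).1 (hPmem P.1 P.2).2.2)
  choose TP hTP hR using hpairs
  -- the lines through two centres meet the curve finitely often
  have hline : ∀ P₁ P₂ : Ps, ∃ d : Fin (m + 2) → k, d ≠ 0 ∧ ∑ i, d i * pv P₁.1 (F i) = 0 ∧ ∑ i, d i * pv P₂.1 (F i) = 0 := by
    intro P₁ P₂
    obtain ⟨a, b, hab, ha, -⟩ := exists_forms k (by omega) (fun i => pv P₁.1 (F i)) (fun i => pv P₂.1 (F i))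
    exact ⟨a, hab.ne_zero 0, ha⟩
  choose d hd0 hd1 hd2 using hline
  have hFne : ∀ d : Fin (m + 2) → k, d ≠ 0 → ∑ i, d i • F i ≠ 0 := fun d hd h =>
    hd (funext (Fintype.linearIndependent_iff.1 hF d h))
  have hUf : ∀ R : Place k K, R ∉ (⋃ i, {R : Place k K | ¬ R.1 (F i) ≤ 1}) → ∀ i, R.1 (F i) ≤ 1 := fun R h i => by
    by_contra hh
    exact h (Set.mem_iUnion.mpr ⟨i, hh⟩)
  let V : Set (Place k K) := U ∪ (⋃ P : Ps, TP P) ∪
    ⋃ p : Ps × Ps, {R | R.1 (∑ i, d p.1 p.2 i • F i) ≤ 1 ∧ pv R (∑ i, d p.1 p.2 i • F i) = 0}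
  have hV : V.Finite := (hU.union (Set.finite_iUnion hTP)).union
    (Set.finite_iUnion fun p => finite_pv_eq_zero hK (hFne _ (hd0 _ _)))
  obtain ⟨Q, -, hQ⟩ := ((infinite_places' hK.1).sdiff hV).nonempty
  simp only [V, U, Set.mem_union, Set.mem_iUnion, Set.mem_setOf_eq, not_or, not_exists, not_not] at hQ
  obtain ⟨⟨⟨⟨⟨hQS, hQT⟩, hQF⟩, -⟩, hQTP⟩, hQd⟩ := hQ
  have hR' := fun P : Ps => hR P Q (hQTP P)
  choose _ R hRne hRreg lam α β hrel using hR'
  -- the line through the centre and the two points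
  have hlam : ∀ P : Ps, lam P ≠ 1 := fun P h => hRne P (hinj Q hQT (R P) hQF (fun i => (hRreg P i).1) fun i => by
    have := (hrel P i).1
    rw [h, one_mul] at this
    exact sub_left_inj.mp this)
  have hRinj : Function.Injective R := fun P₁ P₂ h => by
    by_contra hne
    refine hQd (P₁, P₂) ⟨(pv_sum hK Finset.univ _ _ hQF).1, ?_⟩
    rw [(pv_sum hK Finset.univ _ _ hQF).2]
    -- both centres and `Q` are collinear
    set q := fun i => pv Q (F i)
    set e := d P₁ P₂
    set l₁ := lam P₁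
    set l₂ := lam P₂
    have hv : ∀ i, (1 - l₁) * (pv P₁.1 (F i)) - (1 - l₂) * pv P₂.1 (F i) = (l₂ - l₁) * q i := fun i => by
      have h1 := (hrel P₁ i).1
      have h2 := (hrel P₂ i).1
      rw [h] at h1
      linear_combination h2 - h1
    have hne' : l₂ - l₁ ≠ 0 := fun h0 => hne (Subtype.ext (hinj P₂.1 (hPmem _ P₂.2).2.1 P₁.1 (hPmem _ P₂.2).2.2
      (hPmem _ P₁.2).2.2 fun i => by
        have := hv i
        rw [h0, zero_mul, show l₂ = l₁ from sub_eq_zero.mp h0, ← mul_sub, mul_eq_zero, sub_eq_zero] at this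
        rcases this with h' | h'
        · exact absurd h'.symm (hlam P₁)
        · exact sub_eq_zero.mp h'))
    have h3 : (l₂ - l₁) * ∑ i, e i * q i = (1 - l₁) * ∑ i, e i * pv P₁.1 (F i) - (1 - l₂) * ∑ i, e i * pv P₂.1 (F i) := by
      rw [Finset.mul_sum, Finset.mul_sum, Finset.mul_sum, ← Finset.sum_sub_distrib]
      exact Finset.sum_congr rfl fun i _ => by linear_combination (-e i) * hv i
    rw [hd1, hd2, mul_zero, mul_zero, sub_zero, mul_eq_zero] at h3
    exact h3.resolve_left hne'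
  -- the projection from the tangent line at `Q`
  obtain ⟨a, b, hab, ⟨ha1, ha2⟩, ⟨hb1, hb2⟩⟩ :=
    exists_forms k (by omega : 4 ≤ m + 2) (fun i => pv Q (F i)) (fun i => pv Q (D (F i)))
  set A := ∑ i, a i • F i with hA
  set B := ∑ i, b i • F i with hB
  have hDA : D A = ∑ i, a i • D (F i) := by rw [hA, map_sum]; exact Finset.sum_congr rfl fun i _ => D.map_smul _ _
  have hDB : D B = ∑ i, b i • D (F i) := by rw [hB, map_sum]; exact Finset.sum_congr rfl fun i _ => D.map_smul _ _
  have hcomb : ∀ (f : Fin (m + 2) → K) (c : Fin (m + 2) → k), ∑ i, c i • f i ∈ L (∑ l, poles (k := k) (f l) : Divisor k K) :=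
    fun f c => Submodule.sum_mem _ fun i _ => Submodule.smul_mem _ _ (hmem f i)
  have hM : A * D B - B * D A = 0 := by
    have hprod : ∀ x y : K, x ∈ L DF → y ∈ L DD → x * y ∈ L E := fun x y hx hy R => by
      rw [map_mul, Finsupp.add_apply, exp_add]
      exact mul_le_mul' (hx R) (hy R)
    refine eq_zero_of_zeros hK (E := E) (sub_mem (hprod _ _ (hcomb F a) (hDB ▸ hcomb (fun i => D (F i)) b))
      (hprod _ _ (hcomb F b) (hDA ▸ hcomb (fun i => D (F i)) a))) (Finset.univ.image R) ?_ ?_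
    · rw [Finset.card_image_of_injective _ hRinj, Finset.card_univ, Fintype.card_coe, hcard]
      omega
    · simp only [Finset.mem_image, Finset.mem_univ, true_and]
      rintro _ ⟨P, rfl⟩
      have hr := hRreg P
      constructor
      · have h0 : ∀ f : Fin (m + 2) → K, (∀ i, (R P).1 (f i) ≤ 1) → (∑ l, poles (k := k) (f l) : Divisor k K) (R P) = 0 :=
          fun f hf => by
          rw [Finsupp.finsetSum_apply]
          refine Finset.sum_eq_zero fun l _ => ?_
          rw [poles, Finsupp.mapRange_apply, div_apply hK.1]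
          rcases eq_or_ne (f l) 0 with h | h
          · simp [h]
          · have := (val_le_one_iff (R P) h).mp (hf l)
            omega
        rw [Finsupp.add_apply, h0 F fun i => (hr i).1, h0 (fun i => D (F i)) fun i => (hr i).2, add_zero]
      · obtain ⟨hA1, hA2⟩ := pv_sum hK Finset.univ a F fun i => (hr i).1
        obtain ⟨hB1, hB2⟩ := pv_sum hK Finset.univ b F fun i => (hr i).1
        obtain ⟨hA3, hA4⟩ := pv_sum hK Finset.univ a (fun i => D (F i)) fun i => (hr i).2
        obtain ⟨hB3, hB4⟩ := pv_sum hK Finset.univ b (fun i => D (F i)) fun i => (hr i).2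
        rw [hDA, hDB, hA, hB, pv_sub hK (le_one_mul hA1 hB3) (le_one_mul hB1 hA3), pv_mul hK hA1 hB3,
          pv_mul hK hB1 hA3, hA2, hB2, hA4, hB4]
        have hex : ∀ c : Fin (m + 2) → k, ∑ i, c i * pv Q (F i) = 0 → ∑ i, c i * pv Q (D (F i)) = 0 →
            ∑ i, c i * pv (R P) (F i) = (1 - lam P) * ∑ i, c i * pv P.1 (F i) ∧
            ∑ i, c i * pv (R P) (D (F i)) = -β P * ∑ i, c i * pv P.1 (F i) := fun c h1 h2 => by
          constructor
          · rw [Finset.sum_congr rfl fun i _ => show c i * pv (R P) (F i) =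
              lam P * (c i * pv Q (F i)) + (1 - lam P) * (c i * pv P.1 (F i)) by linear_combination (c i) * (hrel P i).1]
            rw [Finset.sum_add_distrib, ← Finset.mul_sum, ← Finset.mul_sum, h1, mul_zero, zero_add]
          · rw [Finset.sum_congr rfl fun i _ => show c i * pv (R P) (D (F i)) =
              α P * (c i * pv Q (D (F i))) + β P * (c i * pv Q (F i)) + -β P * (c i * pv P.1 (F i)) by
                linear_combination (c i) * (hrel P i).2]
            rw [Finset.sum_add_distrib, Finset.sum_add_distrib, ← Finset.mul_sum, ← Finset.mul_sum, ← Finset.mul_sum,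
              h1, h2, mul_zero, mul_zero, zero_add, zero_add]
        rw [(hex a ha1 ha2).1, (hex a ha1 ha2).2, (hex b hb1 hb2).1, (hex b hb1 hb2).2]
        ring
  have hA0 : A ≠ 0 := hFne a (hab.ne_zero 0)
  obtain ⟨c, hc⟩ := hD (B / A) (by
    have h1 : D (B / A * A) = B / A * D A + A * D (B / A) := by
      rw [Derivation.leibniz, smul_eq_mul, smul_eq_mul]
    rw [div_mul_cancel₀ _ hA0] at h1
    have h2 : A * (A * D (B / A)) = A * D B - B * D A := by
      linear_combination (-A) * h1 - (D A) * (div_mul_cancel₀ B hA0)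
    rw [hM] at h2
    simpa [hA0] using h2)
  refine hFne (b - c • a) (fun h => ?_) ?_
  · have := (LinearIndependent.pair_iff.1 hab) (-c) 1 (by rw [one_smul, neg_smul, neg_add_eq_sub]; exact h)
    exact one_ne_zero this.2
  · simp only [Pi.sub_apply, Pi.smul_apply, smul_eq_mul, sub_smul, mul_smul, Finset.sum_sub_distrib, ← Finset.smul_sum]
    rw [← hA, ← hB, Algebra.smul_def, hc, div_mul_cancel₀ _ hA0, sub_self]

end Groth.Agent.LS17
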