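import Groth.Agent.LS17.MapSeries

/-! The series of a map birational onto its image generates the function field. -/

noncomputable section

set_option linter.style.haveILetI false
set_option linter.unusedSectionVars false
set_option backward.isDefEq.respectTransparency false
set_option backward.isDefEq.respectTransparency.types false

universe u

open CategoryTheory CategoryTheory.Limits AlgebraicGeometry TopologicalSpace Opposite

namespace Groth.Agent.LS17

attribute [local instance] CurveFF.ffAlg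

variable (k : Type u) [Field k] [IsAlgClosed k] {X : Scheme.{u}} [X.Over (Spec (CommRingCat.of k))]
  [IsIntegral X] [IsProper (X ↘ Spec (CommRingCat.of k))] [Smooth (X ↘ Spec (CommRingCat.of k))]
  {n : ℕ}

theorem seriesGen_of_birational {Y : Scheme.{u}} [IsIntegral Y] (j : Y ⟶ CohB1.ProjSpace n k) [IsClosedImmersion j]
    (φ : X ⟶ Y) (hφ : φ ≫ j ≫ CohB1.ProjSpace.toSpec n k = X ↘ Spec (CommRingCat.of k))
    (hbir : ∃ U : Y.Opens, (U : Set Y).Nonempty ∧ IsIso (φ ∣_ U))
    (f : Fin (n + 1) → X.functionField)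
    (hf : ∀ (i l : Fin (n + 1)) (W : X.Opens) (h : W ≤ (φ ≫ j) ⁻¹ᵁ chartD k l) (hη : genericPoint X ∈ W),
      (X.presheaf.germ W _ hη (ProjUPX.ratioOf (φ ≫ j) (ProjPt.X_mem i) (ProjPt.X_mem l) h) : X.functionField) =
        f i / f l) :
    SeriesGen (Submodule.span k (Set.range f)) := by
  obtain ⟨U, ⟨y₀, hy₀⟩, hiso⟩ := hbir
  obtain ⟨x₀, -⟩ := (Scheme.homeoOfIso (asIso (φ ∣_ U))).surjective ⟨y₀, hy₀⟩
  have hηU : φ (genericPoint X) ∈ U :=
    ((genericPoint_spec X).specializes (Set.mem_univ x₀.1)).map φ.continuous |>.mem_open U.2 x₀.2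
  haveI : IsIso (φ.stalkMap (genericPoint X)) := by
    have h1 : IsIso (Arrow.mk ((φ ∣_ U).stalkMap (⟨genericPoint X, hηU⟩ : (φ ⁻¹ᵁ U).toScheme))).hom := inferInstanceAs (IsIso ((φ ∣_ U).stalkMap (⟨genericPoint X, hηU⟩ : (φ ⁻¹ᵁ U).toScheme)))
    exact (Arrow.isIso_hom_iff_isIso_hom_of_isIso
      (morphismRestrictStalkMap φ U ⟨genericPoint X, hηU⟩).hom).mp h1
  obtain ⟨l, hl⟩ := Opens.mem_iSup.1
    ((AmpleEmbed.iSup_basicOpen_X n k).ge (trivial : j (φ (genericPoint X)) ∈ (⊤ : Opens _)))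
  have hD : IsAffineOpen (chartD k l) := Proj.isAffineOpen_basicOpen _ _ (ProjPt.X_mem l) one_pos
  have hV : IsAffineOpen (j ⁻¹ᵁ chartD k l) := hD.preimage j
  set p : (j ⁻¹ᵁ chartD k l : Y.Opens) := ⟨φ (genericPoint X), hl⟩
  set W : X.Opens := (φ ≫ j) ⁻¹ᵁ chartD k l
  have hηW : genericPoint X ∈ W := hl
  refine SeriesGen.of_subset (s := Set.range fun i => f i / f l) (fun z hz => ?_) (top_le_iff.1 fun z _ => ?_)
  · obtain ⟨i, rfl⟩ := hz
    exact ⟨f i, Submodule.subset_span ⟨i, rfl⟩, f l, Submodule.subset_span ⟨l, rfl⟩, rfl⟩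
  obtain ⟨a, rfl⟩ := (ConcreteCategory.bijective_of_isIso (φ.stalkMap (genericPoint X))).2 z
  letI : Algebra Γ(Y, j ⁻¹ᵁ chartD k l) (Y.presheaf.stalk (φ (genericPoint X))) :=
    TopCat.Presheaf.algebra_section_stalk Y.presheaf p
  haveI := hV.isLocalization_stalk p
  obtain ⟨⟨b, c⟩, hbc⟩ := IsLocalization.surj (hV.primeIdealOf p).asIdeal.primeCompl a
  have key : ∀ b : Γ(Y, j ⁻¹ᵁ chartD k l), (φ.stalkMap (genericPoint X)
      (algebraMap _ (Y.presheaf.stalk (φ (genericPoint X))) b) : X.functionField) ∈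
      IntermediateField.adjoin k (Set.range fun i => f i / f l) := fun b => by
    obtain ⟨t, rfl⟩ := j.app_surjective (chartD k l) hD b
    have h := germ_appLE_mem k (φ ≫ j) (by rw [Category.assoc, hφ]) (le_refl W) hηW
      (Set.range fun i => f i / f l) (fun i => ⟨i, (hf i l W le_rfl hηW).symm⟩) t
    convert h using 1
    show φ.stalkMap (genericPoint X) (Y.presheaf.germ _ _ hl (j.app _ t)) = _
    rw [Scheme.Hom.germ_stalkMap_apply]
    congr 1
    rw [Scheme.Hom.appLE_eq_app]
    rfl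
  have hc : IsUnit (φ.stalkMap (genericPoint X) (algebraMap _ (Y.presheaf.stalk (φ (genericPoint X))) c.1)) :=
    (IsLocalization.map_units (Y.presheaf.stalk (φ (genericPoint X))) c).map _
  have h1 := congrArg (fun x => (φ.stalkMap (genericPoint X) x : X.functionField)) hbc
  simp only [map_mul] at h1
  have h0 : (φ.stalkMap (genericPoint X) (algebraMap _ (Y.presheaf.stalk (φ (genericPoint X))) c.1) : X.functionField) ≠ 0 :=
    IsUnit.ne_zero (M₀ := X.functionField) hc
  show (φ.stalkMap (genericPoint X) a : X.functionField) ∈ _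
  rw [← mul_div_cancel_right₀ (M₀ := X.functionField) (φ.stalkMap (genericPoint X) a : X.functionField) h0]
  refine div_mem ?_ (key c.1)
  rw [show ((φ.stalkMap (genericPoint X) a : X.functionField) * _) = _ from h1]
  exact key b

end Groth.Agent.LS17
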