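import Mathlib

/-! The integral fractions of the local ring of an ordinary double point. -/

noncomputable section

set_option linter.style.haveILetI false
set_option linter.unusedSectionVars false

open IsLocalRing Finsupp
open scoped nonZeroDivisors

namespace Groth.Agent.LS17.NodeAlg

universe u

variable (K : Type u) [Field K]

/-- The ideal of the two axes. -/
abbrev axes : Ideal (MvPowerSeries (Fin 2) K) :=
  Ideal.span {(MvPowerSeries.X 0 * MvPowerSeries.X 1 : MvPowerSeries (Fin 2) K)}

/-- The complete double point. -/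
abbrev Node : Type u := MvPowerSeries (Fin 2) K ⧸ axes K

/-- Restriction to an axis. -/
def axisHom (j : Fin 2) : MvPowerSeries (Fin 2) K →+* PowerSeries K where
  toFun f := PowerSeries.mk fun n => MvPowerSeries.coeff (single j n) f
  map_one' := by
    classical
    ext n
    simp [MvPowerSeries.coeff_one, PowerSeries.coeff_one]
  map_mul' f g := by
    classical
    ext n
    simp only [PowerSeries.coeff_mk, MvPowerSeries.coeff_mul, PowerSeries.coeff_mul,
      Finsupp.antidiagonal_single, Finset.sum_map]
    rfl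
  map_zero' := by ext n; simp
  map_add' f g := by ext n; simp

variable {K}

theorem coeff_axisHom (j : Fin 2) (f : MvPowerSeries (Fin 2) K) (n : ℕ) :
    PowerSeries.coeff n (axisHom K j f) = MvPowerSeries.coeff (single j n) f := by
  change PowerSeries.coeff n (PowerSeries.mk fun n => MvPowerSeries.coeff (single j n) f) = _
  rw [PowerSeries.coeff_mk]

theorem axisHom_C (j : Fin 2) (b : K) : axisHom K j (MvPowerSeries.C b) = PowerSeries.C b := by
  classical
  ext n
  rw [coeff_axisHom, MvPowerSeries.coeff_C, PowerSeries.coeff_C]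
  simp only [Finsupp.single_eq_zero]

theorem axisHom_X_other {i j : Fin 2} (h : i ≠ j) : axisHom K j (MvPowerSeries.X i) = 0 := by
  classical
  ext n
  rw [coeff_axisHom, MvPowerSeries.coeff_X, if_neg, map_zero]
  intro e
  have h1 := DFunLike.congr_fun e i
  rw [Finsupp.single_eq_same, Finsupp.single_eq_of_ne h] at h1
  exact absurd h1 zero_ne_one

variable (K)

/-- Restriction of the double point to a branch. -/
def branch (j : Fin 2) : Node K →+* PowerSeries K :=
  Ideal.Quotient.lift _ (axisHom K j) fun x hx => by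
    obtain ⟨c, rfl⟩ := Ideal.mem_span_singleton'.1 hx
    rw [map_mul, map_mul]
    fin_cases j <;> simp [axisHom_X_other]

variable {K}

theorem branch_C (j : Fin 2) (c : K) :
    branch K j (Ideal.Quotient.mk (axes K) (MvPowerSeries.C c)) = PowerSeries.C c :=
  axisHom_C j c

theorem eq_zero_of_branches {r : Node K} (h : ∀ j, branch K j r = 0) : r = 0 := by
  classical
  obtain ⟨f, rfl⟩ := Ideal.Quotient.mk_surjective r
  have hax : ∀ (j : Fin 2) (n : ℕ), MvPowerSeries.coeff (single j n) f = 0 := fun j n => by
    have := congrArg (PowerSeries.coeff n) (show axisHom K j f = 0 from h j)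
    rwa [coeff_axisHom, map_zero] at this
  let mon : Fin 2 →₀ ℕ := single 0 1 + single 1 1
  let g : MvPowerSeries (Fin 2) K := fun m => MvPowerSeries.coeff (mon + m) f
  refine Ideal.Quotient.eq_zero_iff_mem.2 (Ideal.mem_span_singleton'.2 ⟨g, ?_⟩)
  rw [mul_comm, MvPowerSeries.X_def, MvPowerSeries.X_def, MvPowerSeries.monomial_mul_monomial, mul_one]
  ext m
  rw [MvPowerSeries.coeff_monomial_mul, one_mul]
  split_ifs with hm
  · show MvPowerSeries.coeff (mon + (m - mon)) f = _
    rw [add_tsub_cancel_of_le hm]
  · obtain ⟨i, hi⟩ : ∃ i : Fin 2, m i = 0 := by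
      by_contra hne
      push Not at hne
      refine hm fun i => ?_
      have := hne i
      fin_cases i <;> simp_all [mon] <;> omega
    obtain ⟨j, hij⟩ : ∃ j : Fin 2, i ≠ j := ⟨i + 1, by fin_cases i <;> decide⟩
    have hs : m = single j (m j) := by
      ext l
      rcases (by omega : l = i ∨ l = j) with rfl | rfl
      · rw [Finsupp.single_eq_of_ne hij]; exact hi
      · rw [Finsupp.single_eq_same]
    rw [hs, hax]

theorem exists_lift (p : Fin 2 → PowerSeries K)
    (h : PowerSeries.constantCoeff (p 0) = PowerSeries.constantCoeff (p 1)) :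
    ∃ r : Node K, ∀ j, branch K j r = p j := by
  classical
  let g : MvPowerSeries (Fin 2) K := fun m =>
    if m 1 = 0 then PowerSeries.coeff (m 0) (p 0) else if m 0 = 0 then PowerSeries.coeff (m 1) (p 1) else 0
  refine ⟨Ideal.Quotient.mk _ g, fun j => ?_⟩
  ext n
  show PowerSeries.coeff n (axisHom K j g) = _
  rw [coeff_axisHom, MvPowerSeries.coeff_apply]
  fin_cases j
  · show g (single 0 n) = _
    simp [g]
  · show g (single 1 n) = _
    rcases Nat.eq_zero_or_pos n with rfl | hn
    · simp [g, h]
    · simp [g, hn.ne']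

theorem constantCoeff_branch (r : Node K) (i j : Fin 2) :
    PowerSeries.constantCoeff (branch K i r) = PowerSeries.constantCoeff (branch K j r) := by
  obtain ⟨f, rfl⟩ := Ideal.Quotient.mk_surjective r
  show PowerSeries.constantCoeff (axisHom K i f) = PowerSeries.constantCoeff (axisHom K j f)
  rw [← PowerSeries.coeff_zero_eq_constantCoeff_apply, ← PowerSeries.coeff_zero_eq_constantCoeff_apply,
    coeff_axisHom, coeff_axisHom, Finsupp.single_zero, Finsupp.single_zero]

theorem isUnit_of_constantCoeff_ne {r : Node K} {j : Fin 2}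
    (h : PowerSeries.constantCoeff (branch K j r) ≠ 0) : IsUnit r := by
  obtain ⟨f, rfl⟩ := Ideal.Quotient.mk_surjective r
  refine (MvPowerSeries.isUnit_iff_constantCoeff.2 ?_).map _
  refine IsUnit.mk0 _ ?_
  change PowerSeries.constantCoeff (axisHom K j f) ≠ 0 at h
  rw [← PowerSeries.coeff_zero_eq_constantCoeff_apply, coeff_axisHom, Finsupp.single_zero] at h
  exact h

/-- `mk` of a series. -/
theorem exists_witness : ∃ x : Fin 2 → Node K, ∀ j, x j ≠ 0 ∧ ∀ i, i ≠ j → branch K i (x j) = 0 := by
  classical
  have h : ∀ j : Fin 2, ∃ r : Node K, ∀ i, branch K i r = if i = j then PowerSeries.X else 0 := fun j =>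
    exists_lift (fun i => if i = j then PowerSeries.X else 0) (by split_ifs <;> simp)
  choose x hx using h
  refine ⟨x, fun j => ⟨fun h0 => ?_, fun i hi => by rw [hx, if_neg hi]⟩⟩
  have := hx j j
  rw [h0, map_zero, if_pos rfl] at this
  exact PowerSeries.X_ne_zero this.symm

/-- The properties of the completion map of an ordinary double point that are used. -/
structure IsNodeMap {A : Type u} [CommRing A] [IsLocalRing A] [Algebra K A] (ι : A →+* Node K) : Prop where
  const : ∀ c : K, ι (algebraMap K A c) = Ideal.Quotient.mk (axes K) (MvPowerSeries.C c)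
  closed : ∀ (I : Ideal A) (a : A), ι a ∈ I.map ι → a ∈ I
  approx : ∀ (r : Node K) (n : ℕ), ∃ a : A,
    r - ι a ∈ (Ideal.span {x : Node K | ∀ j, PowerSeries.constantCoeff (branch K j x) = 0}) ^ n
  reg : ∀ s : A, s ∈ A⁰ → ι s ∈ (Node K)⁰

theorem isNodeMap_of_completion {A : Type u} [CommRing A] [IsLocalRing A] [IsNoetherianRing A]
    [Algebra K A] (e : AdicCompletion (maximalIdeal A) A ≃+* Node K)
    (he : ∀ c : K, e (algebraMap A (AdicCompletion (maximalIdeal A) A) (algebraMap K A c)) =
      Ideal.Quotient.mk _ (MvPowerSeries.C c)) :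
    IsNodeMap (e.toRingHom.comp (algebraMap A (AdicCompletion (maximalIdeal A) A))) where
  const := he
  closed I a ha := by
    haveI : Module.FaithfullyFlat A (AdicCompletion (maximalIdeal A) A) :=
      Module.FaithfullyFlat.of_flat_of_isLocalHom
    rw [← Ideal.map_map] at ha
    have h1 : algebraMap A (AdicCompletion (maximalIdeal A) A) a ∈
        (I.map (algebraMap A (AdicCompletion (maximalIdeal A) A))) := by
      obtain ⟨y, hy, hye⟩ := (Ideal.mem_map_iff_of_surjective e.toRingHom e.surjective).1 ha
      exact e.injective hye ▸ hy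
    rw [← Ideal.comap_map_eq_self_of_faithfullyFlat (B := AdicCompletion (maximalIdeal A) A) I]
    exact h1
  approx r n := by
    obtain ⟨a, ha⟩ := Submodule.Quotient.mk_surjective _ ((e.symm r).1 n)
    refine ⟨a, ?_⟩
    have h1 : e.symm r - algebraMap A (AdicCompletion (maximalIdeal A) A) a ∈
        (AdicCompletion.eval (maximalIdeal A) A n).ker := by
      rw [LinearMap.mem_ker, map_sub, sub_eq_zero]
      exact ha.symm
    rw [← AdicCompletion.pow_smul_top_eq_ker_eval (maximalIdeal A).fg_of_isNoetherianRing,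
      Ideal.smul_top_eq_map, Submodule.restrictScalars_mem, Ideal.map_pow] at h1
    have h2 := Ideal.mem_map_of_mem e.toRingHom h1
    rw [Ideal.map_pow, Ideal.map_map, map_sub, RingEquiv.toRingHom_eq_coe, RingEquiv.coe_toRingHom,
      e.apply_symm_apply] at h2
    refine (Ideal.pow_right_mono ?_ n) h2
    refine Ideal.map_le_iff_le_comap.2 fun m hm => Ideal.subset_span fun j => ?_
    by_contra hne
    have hu : IsUnit (algebraMap A (AdicCompletion (maximalIdeal A) A) m) := by
      simpa using (isUnit_of_constantCoeff_ne hne).map e.symm.toRingHom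
    exact hm (isUnit_of_map_unit (algebraMap A (AdicCompletion (maximalIdeal A) A)) m hu)
  reg s hs := by
    have h : IsSMulRegular (AdicCompletion (maximalIdeal A) A) s :=
      IsSMulRegular.of_flat (isRegular_iff_mem_nonZeroDivisors.2 hs).left.isSMulRegular
    refine mem_nonZeroDivisors_iff_right.2 fun z hz => ?_
    obtain ⟨w, rfl⟩ := e.surjective z
    rw [RingHom.comp_apply, RingEquiv.toRingHom_eq_coe, RingEquiv.coe_toRingHom, ← map_mul,
      map_eq_zero_iff e e.injective] at hz
    rw [h (show s • w = s • (0 : AdicCompletion (maximalIdeal A) A) by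
      rw [smul_zero, Algebra.smul_def, mul_comm, hz]), map_zero]

section Main

variable {A : Type u} [CommRing A] [IsLocalRing A] [Algebra K A] {ι : A →+* Node K} (hι : IsNodeMap ι)

include hι

theorem ι_injective : Function.Injective ι := (injective_iff_map_eq_zero ι).2 fun a ha =>
  Ideal.mem_bot.1 (hι.closed ⊥ a (by rw [ha]; exact Submodule.zero_mem _))

theorem branch_ne_zero {s : A} (hs : s ∈ A⁰) (j : Fin 2) : branch K j (ι s) ≠ 0 := fun h => by
  obtain ⟨x, hx⟩ := exists_witness (K := K)
  refine (hx j).1 (mem_nonZeroDivisors_iff_right.1 (hι.reg s hs) _ (eq_zero_of_branches fun i => ?_))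
  rw [map_mul]
  by_cases hij : i = j
  · subst hij; rw [h, mul_zero]
  · rw [(hx j).2 i hij, zero_mul]

theorem mem_nonZeroDivisors_of_branch {s : A} (h : ∀ j, branch K j (ι s) ≠ 0) : s ∈ A⁰ :=
  mem_nonZeroDivisors_iff_right.2 fun z hz => ι_injective hι (by
    rw [map_zero]
    refine eq_zero_of_branches fun j => ?_
    have := congrArg (fun t => branch K j (ι t)) hz
    simp only [map_mul, map_zero] at this
    exact (mul_eq_zero.1 this).resolve_right (h j))

variable {B : Type u} [CommRing B] [Algebra A B]
  (hinj : Function.Injective (algebraMap A B)) [Algebra.IsIntegral A B]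
  (hfrac : ∀ b : B, ∃ (s a : A), s ∈ A⁰ ∧ algebraMap A B s ∈ B⁰ ∧ algebraMap A B s * b = algebraMap A B a)
  (hclos : ∀ s a c₁ c₀ : A, algebraMap A B s ∈ B⁰ → a ^ 2 + c₁ * s * a + c₀ * s ^ 2 = 0 →
    ∃ b : B, algebraMap A B s * b = algebraMap A B a)

include hinj hfrac

theorem existsUnique_value (j : Fin 2) (b : B) :
    ∃! p : PowerSeries K, ∀ s a : A, s ∈ A⁰ → algebraMap A B s * b = algebraMap A B a →
      branch K j (ι s) * p = branch K j (ι a) := by
  obtain ⟨s, a, hs, -, hb⟩ := hfrac b
  let L : A →+* PowerSeries K := (branch K j).comp ι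
  let F := FractionRing (PowerSeries K)
  let LF : A →+* F := (algebraMap (PowerSeries K) F).comp L
  have hLs : LF s ≠ 0 := fun h => branch_ne_zero hι hs j
    (IsFractionRing.injective (PowerSeries K) F (h.trans (map_zero _).symm))
  let z : F := LF a / LF s
  have hz : IsIntegral (PowerSeries K) z := by
    obtain ⟨P, hP, hPb⟩ := Algebra.IsIntegral.isIntegral (R := A) b
    refine ⟨P.map L, hP.map L, ?_⟩
    have h2 : (P.scaleRoots s).eval₂ (algebraMap A B) (algebraMap A B a) = 0 := by
      rw [← hb]
      exact Polynomial.scaleRoots_eval₂_eq_zero (algebraMap A B) hPb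
    rw [Polynomial.eval₂_hom, map_eq_zero_iff _ hinj] at h2
    have h3 : (P.scaleRoots s).eval₂ LF (LF a) = 0 := by
      rw [Polynomial.eval₂_hom, h2, map_zero]
    rw [show LF a = LF s * z from (mul_div_cancel₀ _ hLs).symm,
      Polynomial.scaleRoots_eval₂_mul] at h3
    rw [Polynomial.eval₂_map]
    exact (mul_eq_zero.1 h3).resolve_left (pow_ne_zero _ hLs)
  obtain ⟨p, hp⟩ := IsIntegrallyClosed.isIntegral_iff.1 hz
  have key : L s * p = L a := IsFractionRing.injective (PowerSeries K) F (by
    rw [map_mul, hp]; exact mul_div_cancel₀ _ hLs)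
  refine ⟨p, fun s' a' hs' hb' => ?_, fun q hq => ?_⟩
  · have h1 : s' * a = s * a' := hinj (by rw [map_mul, map_mul, ← hb, ← hb']; ring)
    refine mul_left_cancel₀ (branch_ne_zero hι hs j) ?_
    calc L s * (L s' * p) = L s' * (L s * p) := by ring
      _ = L (s' * a) := by rw [key, map_mul]
      _ = L s * L a' := by rw [h1, map_mul]
  · exact mul_left_cancel₀ (branch_ne_zero hι hs j) ((hq s a hs hb).trans key.symm)

/-- The value on a branch of an integral fraction. -/
def value (j : Fin 2) : B →+* PowerSeries K where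
  toFun b := (existsUnique_value hι hinj hfrac j b).choose
  map_one' := ((existsUnique_value hι hinj hfrac j 1).choose_spec.2 1 fun s a _ h => by
    rw [mul_one] at h
    rw [mul_one, hinj h]).symm
  map_zero' := ((existsUnique_value hι hinj hfrac j 0).choose_spec.2 0 fun s a _ h => by
    rw [mul_zero] at h
    rw [mul_zero, hinj (h.symm.trans (map_zero _).symm), map_zero, map_zero]).symm
  map_add' b b' := by
    obtain ⟨s, a, hs, -, hb⟩ := hfrac b
    obtain ⟨s', a', hs', -, hb'⟩ := hfrac b'
    have h := (existsUnique_value hι hinj hfrac j (b + b')).choose_spec.1 (s * s') (a * s' + a' * s)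
      (mul_mem hs hs') (by rw [map_mul, map_add, map_mul, map_mul, ← hb, ← hb']; ring)
    have h1 := (existsUnique_value hι hinj hfrac j b).choose_spec.1 s a hs hb
    have h2 := (existsUnique_value hι hinj hfrac j b').choose_spec.1 s' a' hs' hb'
    refine mul_left_cancel₀ (branch_ne_zero hι (mul_mem hs hs') j) (h.trans ?_)
    simp only [map_add, map_mul, ← h1, ← h2]
    ring
  map_mul' b b' := by
    obtain ⟨s, a, hs, -, hb⟩ := hfrac b
    obtain ⟨s', a', hs', -, hb'⟩ := hfrac b'
    have h := (existsUnique_value hι hinj hfrac j (b * b')).choose_spec.1 (s * s') (a * a')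
      (mul_mem hs hs') (by rw [map_mul, map_mul, ← hb, ← hb']; ring)
    have h1 := (existsUnique_value hι hinj hfrac j b).choose_spec.1 s a hs hb
    have h2 := (existsUnique_value hι hinj hfrac j b').choose_spec.1 s' a' hs' hb'
    refine mul_left_cancel₀ (branch_ne_zero hι (mul_mem hs hs') j) (h.trans ?_)
    simp only [map_mul, ← h1, ← h2]
    ring

theorem value_spec (j : Fin 2) {b : B} {s a : A} (hs : s ∈ A⁰)
    (hb : algebraMap A B s * b = algebraMap A B a) :
    branch K j (ι s) * value hι hinj hfrac j b = branch K j (ι a) :=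
  (existsUnique_value hι hinj hfrac j b).choose_spec.1 s a hs hb

theorem value_algebraMap (j : Fin 2) (a : A) :
    value hι hinj hfrac j (algebraMap A B a) = branch K j (ι a) := by
  have := value_spec hι hinj hfrac j (b := algebraMap A B a) (s := 1) (a := a) (one_mem _)
    (by rw [map_one, one_mul])
  rwa [map_one, map_one, one_mul] at this

/-- The values of a fraction at the two preimages of the double point. -/
def vals : B →+* K × K :=
  (PowerSeries.constantCoeff.comp (value hι hinj hfrac 0)).prod
    (PowerSeries.constantCoeff.comp (value hι hinj hfrac 1))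

theorem mem_range_iff (b : B) :
    b ∈ (algebraMap A B).range ↔ (vals hι hinj hfrac b).1 = (vals hι hinj hfrac b).2 := by
  refine ⟨?_, fun h => ?_⟩
  · rintro ⟨a, rfl⟩
    show PowerSeries.constantCoeff (value hι hinj hfrac 0 _) =
      PowerSeries.constantCoeff (value hι hinj hfrac 1 _)
    rw [value_algebraMap, value_algebraMap]
    exact constantCoeff_branch _ _ _
  · obtain ⟨r, hr⟩ := exists_lift (fun j => value hι hinj hfrac j b) h
    obtain ⟨s, a, hs, hsB, hb⟩ := hfrac b
    have hra : ι s * r = ι a := sub_eq_zero.1 (eq_zero_of_branches fun j => by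
      rw [map_sub, map_mul, hr, value_spec hι hinj hfrac j hs hb, sub_self])
    obtain ⟨a', ha'⟩ := Ideal.mem_span_singleton'.1 (hι.closed (Ideal.span {s}) a (by
      rw [Ideal.map_span, Set.image_singleton, ← hra]
      exact Ideal.mul_mem_right _ _ (Ideal.mem_span_singleton_self _)))
    exact ⟨a', (mul_cancel_left_mem_nonZeroDivisors hsB).1 (by
      rw [hb, ← ha', map_mul, mul_comm])⟩

include hclos

theorem vals_surjective : Function.Surjective (vals hι hinj hfrac) := by
  set M : Ideal (Node K) :=
    Ideal.span {x : Node K | ∀ j, PowerSeries.constantCoeff (branch K j x) = 0}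
  have hM : ∀ (n : ℕ) (x : Node K), x ∈ M ^ n → ∀ j, PowerSeries.X ^ n ∣ branch K j x := by
    intro n x hx j
    rw [← Ideal.mem_span_singleton, ← Ideal.span_singleton_pow]
    have h1 : M.map (branch K j) ≤ Ideal.span {PowerSeries.X} := by
      rw [Ideal.map_span, Ideal.span_le]
      rintro _ ⟨y, hy, rfl⟩
      exact Ideal.mem_span_singleton.2 (PowerSeries.X_dvd_iff.2 (hy j))
    have h2 := Ideal.mem_map_of_mem (branch K j) hx
    rw [Ideal.map_pow] at h2
    exact (Ideal.pow_right_mono h1 n) h2
  obtain ⟨x, hx⟩ := exists_lift (fun _ => (PowerSeries.X : PowerSeries K)) rfl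
  obtain ⟨s, hs⟩ := hι.approx x 2
  have hsX : ∀ j, ∃ u, branch K j (ι s) = PowerSeries.X * u ∧ IsUnit u := fun j => by
    obtain ⟨v, hv⟩ := hM 2 _ hs j
    rw [map_sub, hx] at hv
    refine ⟨1 - PowerSeries.X * v, ?_, PowerSeries.isUnit_iff_constantCoeff.2 (by simp)⟩
    linear_combination -hv
  have hsne : ∀ j, branch K j (ι s) ≠ 0 := fun j h => by
    obtain ⟨u, hu, hu'⟩ := hsX j
    rw [h] at hu
    exact mul_ne_zero PowerSeries.X_ne_zero hu'.ne_zero hu.symm
  obtain ⟨r, hr⟩ := exists_lift (fun j : Fin 2 => if j = 0 then branch K 0 (ι s) else 0) (by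
    obtain ⟨u, hu, -⟩ := hsX 0
    simp [hu])
  obtain ⟨a, ha⟩ := hι.approx r 2
  have hdvd : ∀ j, ∃ t, branch K j (r - ι a) = branch K j (ι s) * t ∧ PowerSeries.constantCoeff t = 0 := fun j => by
    obtain ⟨u, hu, hu'⟩ := hsX j
    obtain ⟨v, hv⟩ := hM 2 _ ha j
    obtain ⟨w, rfl⟩ := hu'
    refine ⟨PowerSeries.X * v * ((w⁻¹ : (PowerSeries K)ˣ) : PowerSeries K), ?_, by simp⟩
    rw [hu, hv]
    linear_combination -(PowerSeries.X ^ 2 * v) * w.mul_inv
  choose t ht ht0 using hdvd
  obtain ⟨τ, hτ⟩ := exists_lift t (by rw [ht0, ht0])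
  have hrτ : ι a = r - ι s * τ := sub_eq_zero.1 (eq_zero_of_branches fun j => by
    rw [map_sub, map_sub, map_mul, hτ, ← ht j, map_sub]
    ring)
  have hrr : r * r = ι s * r := sub_eq_zero.1 (eq_zero_of_branches fun j => by
    rw [map_sub, map_mul, map_mul, hr]
    fin_cases j <;> simp)
  obtain ⟨c₁, c₀, hc⟩ : ∃ c₁ c₀ : A, c₁ * (s * a) + c₀ * s ^ 2 = a ^ 2 := by
    refine Ideal.mem_span_pair.1 (hι.closed (Ideal.span {s * a, s ^ 2}) (a ^ 2) ?_)
    rw [Ideal.map_span, Set.image_pair]
    refine Ideal.mem_span_pair.2 ⟨1 - 2 * τ, τ - τ ^ 2, ?_⟩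
    rw [map_mul, map_pow, map_pow, hrτ]
    linear_combination (-1 : Node K) * hrr
  have hsA : s ∈ A⁰ := mem_nonZeroDivisors_of_branch hι hsne
  have hsB : algebraMap A B s ∈ B⁰ := mem_nonZeroDivisors_iff_right.2 fun b hb => by
    obtain ⟨g, d, -, hgB, hd⟩ := hfrac b
    have : d * s = 0 := hinj (by rw [map_mul, ← hd, mul_assoc, hb, mul_zero, map_zero])
    rw [mem_nonZeroDivisors_iff_right.1 hsA d this, map_zero, mul_comm] at hd
    exact mem_nonZeroDivisors_iff_right.1 hgB b hd
  obtain ⟨b, hb⟩ := hclos s a (-c₁) (-c₀) hsB (by linear_combination -hc)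
  have hb1 : vals hι hinj hfrac b = (1, 0) := by
    have hv : ∀ j, value hι hinj hfrac j b = (if j = 0 then 1 else 0) - t j := fun j =>
      mul_left_cancel₀ (hsne j) (by
        rw [value_spec hι hinj hfrac j hsA hb, hrτ, map_sub, map_mul, hτ, hr]
        fin_cases j <;> simp [mul_sub])
    show (PowerSeries.constantCoeff (value hι hinj hfrac 0 b),
      PowerSeries.constantCoeff (value hι hinj hfrac 1 b)) = _
    rw [hv, hv]
    simp [ht0]
  have hc : ∀ c : K, vals hι hinj hfrac (algebraMap A B (algebraMap K A c)) = (c, c) := fun c => by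
    show (PowerSeries.constantCoeff (value hι hinj hfrac 0 _),
      PowerSeries.constantCoeff (value hι hinj hfrac 1 _)) = _
    rw [value_algebraMap, value_algebraMap, hι.const, branch_C, branch_C]
    simp
  rintro ⟨p, q⟩
  exact ⟨algebraMap A B (algebraMap K A q) + algebraMap A B (algebraMap K A (p - q)) * b, by
    rw [map_add, map_mul, hc, hc, hb1]; simp⟩

/-- At an ordinary double point the integral fractions are cut out by equality of two values. -/
theorem exists_vals :
    ∃ ψ : B →+* K × K, Function.Surjective ψ ∧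
      (∀ b, b ∈ (algebraMap A B).range ↔ (ψ b).1 = (ψ b).2) ∧
      ∀ c : K, ψ (algebraMap A B (algebraMap K A c)) = (c, c) :=
  ⟨vals hι hinj hfrac, vals_surjective hι hinj hfrac hclos, mem_range_iff hι hinj hfrac, fun c => by
    show (PowerSeries.constantCoeff (value hι hinj hfrac 0 _),
      PowerSeries.constantCoeff (value hι hinj hfrac 1 _)) = _
    rw [value_algebraMap, value_algebraMap, hι.const, branch_C, branch_C]
    simp⟩

end Main

end Groth.Agent.LS17.NodeAlg
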