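import Groth.Agent.CurveVA.Separation
import Groth.Agent.LS17.Point

/-! Embeddings by a complete linear series, into projective space of its dimension. -/

noncomputable section

set_option linter.style.haveILetI false
set_option linter.unusedSectionVars false
set_option backward.isDefEq.respectTransparency false
set_option backward.isDefEq.respectTransparency.types false

universe u

open CategoryTheory CategoryTheory.Limits AlgebraicGeometry TopologicalSpace Opposite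
open Groth.Agent.PnCoh.Finite (mapLin)

namespace Groth.Agent.LS17

open Groth.Agent Groth.Agent.InvX Groth.Agent.H23 Groth.Agent.CurvePoint Groth.Agent.CurveVA

attribute [local instance] CurveFF.ffAlg

variable (k : Type u) [Field k] [IsAlgClosed k] {X : Scheme.{u}} [X.Over (Spec (CommRingCat.of k))]
  [IsIntegral X] [IsProper (X ↘ Spec (CommRingCat.of k))] [Smooth (X ↘ Spec (CommRingCat.of k))]
  {L : X.Modules}

/-- Sections separating points and tangent vectors embed into the space of that dimension. -/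
theorem exists_embedding_rank (hdim : topologicalKrullDim X = 1) (hL : PicF.IsInvertible L)
    {n : ℕ} (hn : Module.finrank k (Coh.HH X L 0) = n + 1)
    (hgg : ∀ {U : X.Opens} {e : Γ(L, U)} (he : IsFrame e) {a : X} (ha : a ∈ U), IsClosed ({a} : Set X) →
      ∃ z : Γ(L, ⊤), coord he ha (L.presheaf.germ ⊤ a trivial z) ∉ IsLocalRing.maximalIdeal (X.presheaf.stalk a))
    (hsep : ∀ {U : X.Opens} {e : Γ(L, U)} (he : IsFrame e) {a b : X} (ha : a ∈ U) (hb : b ∈ U),
      IsClosed ({a} : Set X) → IsClosed ({b} : Set X) → b ≠ a →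
      ∃ z : Γ(L, ⊤), coord he ha (L.presheaf.germ ⊤ a trivial z) ∈ IsLocalRing.maximalIdeal (X.presheaf.stalk a) ∧
        coord he hb (L.presheaf.germ ⊤ b trivial z) ∉ IsLocalRing.maximalIdeal (X.presheaf.stalk b))
    (htan : ∀ {U : X.Opens} {e : Γ(L, U)} (he : IsFrame e) {a : X} (ha : a ∈ U), IsClosed ({a} : Set X) →
      ∀ N : Ideal (X.presheaf.stalk a), IsLocalRing.maximalIdeal (X.presheaf.stalk a) ^ 2 ≤ N →
      ¬ IsLocalRing.maximalIdeal (X.presheaf.stalk a) ≤ N →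
      ∃ z : Γ(L, ⊤), coord he ha (L.presheaf.germ ⊤ a trivial z) ∈ IsLocalRing.maximalIdeal (X.presheaf.stalk a) ∧
        coord he ha (L.presheaf.germ ⊤ a trivial z) ∉ N) :
    ∃ (i : X ⟶ CohB1.ProjSpace n k), IsClosedImmersion i ∧
      i ≫ CohB1.ProjSpace.toSpec n k = X ↘ Spec (CommRingCat.of k) ∧
      Nonempty ((Scheme.Modules.pullback i).obj (Twist.twistProjSpace n k 1) ≅ L) := by
  classical
  let f := X ↘ Spec (CommRingCat.of k)
  haveI := CurveCohLib.isNoetherian_of_proper (k := k) (X := X)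
  haveI : JacobsonSpace X := LocallyOfFiniteType.jacobsonSpace f
  haveI := CurveCohLib.finite_HH (k := k) (CurveDeg.isCoh_of_isInvertible hL) 0
  let e₀ := Sheaf.H.equiv₀ (Coh.toAb L) isTerminalTop
  let b := Module.finBasisOfFinrankEq k (Coh.HH X L 0) hn
  let σ : Fin (n + 1) → Γ(L, ⊤) := fun i => (e₀ (b i) : Γ(L, ⊤))
  let sc : k → Γ(X, ⊤) := fun c => Coh.resTop X (op ⊤) (Coh.toGlobal f c)
  have hcomb : ∀ z : Γ(L, ⊤), ∃ c : Fin (n + 1) → k, z = ∑ i, sc (c i) • σ i := fun z => by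
    refine ⟨fun i => b.repr (e₀.symm z) i, ?_⟩
    conv_lhs => rw [← e₀.apply_symm_apply z, ← b.sum_repr (e₀.symm z)]
    exact (map_sum e₀ _ _).trans (Finset.sum_congr rfl fun i _ => CurveCohLib.h0Equiv_smul L _ _)
  have hcov : ∀ x : X, ∃ i, x ∈ TrivBasic.locus (σ i) := by
    by_contra! hne
    obtain ⟨x, hx⟩ := hne
    obtain ⟨a, hay, hac⟩ := nonempty_inter_closedPoints (Z := ((⨆ i, TrivBasic.locus (σ i) : X.Opens) : Set X)ᶜ)
      ⟨x, fun h => by
        obtain ⟨i, hi⟩ := Opens.mem_iSup.1 h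
        exact hx i hi⟩ (⨆ i, TrivBasic.locus (σ i) : X.Opens).2.isClosed_compl.isLocallyClosed
    obtain ⟨U, haU, e, he⟩ := exists_frame hL a
    obtain ⟨z, hz⟩ := hgg he haU hac
    obtain ⟨c, rfl⟩ := hcomb z
    apply hz
    rw [map_sum, map_sum]
    refine Ideal.sum_mem _ fun i _ => ?_
    rw [QCoh.germ_smul' L (U := ⊤) (hx := (trivial : a ∈ (⊤ : X.Opens))), coord_smul]
    refine Ideal.mul_mem_left _ _ ((IsLocalRing.mem_maximalIdeal _).2 fun hu => hay ?_)
    refine Opens.mem_iSup.2 ⟨i, ?_⟩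
    obtain ⟨γ, hγ⟩ := he.exists_coord le_rfl (AModX.res L (le_top : U ≤ ⊤) (σ i))
    rw [AModX.res_self] at hγ
    have h2 : a ∈ TrivBasic.locus (σ i) ⊓ U := by
      rw [TrivBasic.locus_eq_basicOpen he hγ, X.mem_basicOpen _ a haU]
      rw [← InvX.germ_res' (le_top : U ≤ ⊤) haU (σ i), hγ, QCoh.germ_smul', coord_smul_germ] at hu
      exact hu
    exact h2.1
  obtain ⟨r, hr, τ, hτ⟩ := S3572.result n f L hL σ (AVAmple.generatedBy_of_locus σ hcov)
  refine ⟨r, ?_, hr, ⟨τ⟩⟩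
  haveI : IsProper (CohB1.ProjSpace.toSpec n k) := PnCoh.Chow.isProper_toSpec n k
  refine isClosedImmersion_of_separation k hsep htan (CohB1.ProjSpace.toSpec n k) r hr fun y => ?_
  obtain ⟨j, hj⟩ := Opens.mem_iSup.1 ((AmpleEmbed.iSup_basicOpen_X n k).ge (trivial : y ∈ (⊤ : Opens _)))
  let D : (CohB1.ProjSpace n k).Opens := Proj.basicOpen (CohB1.polyGrading n k) (MvPolynomial.X j)
  have hpre : r ⁻¹ᵁ D = TrivBasic.locus (σ j) := AmpleEmbed.preimage_chart r τ j (hτ j)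
  let e : Γ(L, r ⁻¹ᵁ D) := AModX.res L (le_top : r ⁻¹ᵁ D ≤ ⊤) (σ j)
  have he : IsFrame e := TrivBasic.isFrame_res_of_le_locus hpre.le
  refine ⟨D, hj, e, he, fun z => ?_⟩
  let S : Subring Γ(X, r ⁻¹ᵁ D) := (r.app D).hom.range
  have hconst : ∀ c : k, AModX.resR (le_top : r ⁻¹ᵁ D ≤ ⊤) (sc c) ∈ S := fun c => by
    refine ⟨(CohB1.ProjSpace.toSpec n k).appLE ⊤ D le_top ((Scheme.ΓSpecIso (CommRingCat.of k)).inv c), ?_⟩
    rw [← Scheme.Hom.appLE_eq_app, ← CommRingCat.comp_apply, Scheme.Hom.appLE_comp_appLE]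
    simp only [hr]
    show f.appLE ⊤ (r ⁻¹ᵁ D) _ ((Scheme.ΓSpecIso (CommRingCat.of k)).inv c) =
      X.presheaf.map _ (X.presheaf.map (𝟙 (op ⊤)) (f.appTop _))
    rw [CategoryTheory.Functor.map_id]
    rfl
  have hs : ∀ i, ∃ β ∈ S, AModX.res L (le_top : r ⁻¹ᵁ D ≤ ⊤) (σ i) = β • e := fun i => by
    obtain ⟨β, hβ⟩ := he.exists_coord le_rfl (AModX.res L (le_top : r ⁻¹ᵁ D ≤ ⊤) (σ i))
    rw [AModX.res_self] at hβ
    obtain ⟨t, ht⟩ : ∃ t : Γ(CohB1.ProjSpace n k, D), r.appLE D (r ⁻¹ᵁ D) le_rfl t = β :=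
      ⟨_, AmpleEmbed.ratioOf_eq r τ j i (hτ j) (hτ i) le_rfl β hβ⟩
    rw [Scheme.Hom.appLE_eq_app] at ht
    exact ⟨β, ⟨t, ht⟩, hβ⟩
  obtain ⟨c, rfl⟩ := hcomb z
  suffices ∃ β ∈ S, AModX.res L (le_top : r ⁻¹ᵁ D ≤ ⊤) (∑ i, sc (c i) • σ i) = β • e by
    obtain ⟨β, ⟨t, rfl⟩, hβ⟩ := this
    exact ⟨t, hβ⟩
  rw [map_sum]
  refine Finset.sum_induction _ (fun w => ∃ β ∈ S, w = β • e) ?_ ⟨0, S.zero_mem, (zero_smul _ _).symm⟩ fun i _ => ?_
  · rintro _ _ ⟨β, hβ, rfl⟩ ⟨γ, hγ, rfl⟩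
    exact ⟨β + γ, S.add_mem hβ hγ, (add_smul _ _ _).symm⟩
  · obtain ⟨β, hβ, hiβ⟩ := hs i
    refine ⟨_, S.mul_mem (hconst (c i)) hβ, ?_⟩
    rw [AModX.res_smul, hiβ, mul_smul]

/-- A divisor class separating all pairs of points embeds the curve. -/
theorem exists_closedImmersion_of_sep (hdim : topologicalKrullDim X = 1) {D : FunFld.Divisor k X.functionField}
    (hD : HasDiv k hdim L D) {n : ℕ} (hn : FunFld.ell D = n + 1)
    (hsep : ∀ P Q : FunFld.Place k X.functionField,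
      FunFld.ell (D - Finsupp.single P 1 - Finsupp.single Q 1) + 2 ≤ FunFld.ell D) :
    ∃ i : X ⟶ CohB1.ProjSpace n k, IsClosedImmersion i ∧
      i ≫ CohB1.ProjSpace.toSpec n k = X ↘ Spec (CommRingCat.of k) := by
  have hC : ∀ (a b : X) (hac : IsClosed ({a} : Set X)) (hbc : IsClosed ({b} : Set X)),
      Module.finrank k (Coh.HH X (CohB1.tensorMod L (CohB1.tensorMod (ptMod a hac) (ptMod b hbc))) 0) + 2 =
        Module.finrank k (Coh.HH X L 0) := by
    intro a b hac hbc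
    have hK := CurveFF.isFunctionField k X hdim
    rw [(hD.tensor k hdim ((hasDiv_ptMod k hdim a hac).tensor k hdim (hasDiv_ptMod k hdim b hbc))).h0 k hdim,
      hD.h0 k hdim, show ∀ x y : FunFld.Divisor k X.functionField, D + (-x + -y) = D - x - y from
        fun x y => by abel]
    have h1 := hsep (CurveFF.pl k X hdim ⟨a, hac⟩) (CurveFF.pl k X hdim ⟨b, hbc⟩)
    have h2 := (FFLib.ell_le_of_le hK.1 (D := D - Finsupp.single (CurveFF.pl k X hdim ⟨a, hac⟩) 1 -
      Finsupp.single (CurveFF.pl k X hdim ⟨b, hbc⟩) 1) (E := D) (by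
        intro P
        simp only [Finsupp.sub_apply]
        have h3 : (0 : ℤ) ≤ Finsupp.single (CurveFF.pl k X hdim ⟨a, hac⟩) 1 P := Finsupp.single_nonneg.mpr zero_le_one P
        have h4 : (0 : ℤ) ≤ Finsupp.single (CurveFF.pl k X hdim ⟨b, hbc⟩) 1 P := Finsupp.single_nonneg.mpr zero_le_one P
        omega)).2
    rw [FFLib.Divisor.deg_sub, FFLib.Divisor.deg_sub, FFLib.Divisor.deg_single, FFLib.Divisor.deg_single,
      FFLib.deg_eq_one hK.1, FFLib.deg_eq_one hK.1] at h2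
    omega
  obtain ⟨i, hi, hi', -⟩ := exists_embedding_rank k hdim hD.1 ((hD.h0 k hdim).trans hn)
    (fun he _ ha hac => exists_not_mem_self k hdim hD.1 hC he ha hac)
    (fun he _ _ ha hb hac hbc hne => separate k hdim hD.1 hC he ha hb hac hbc hne)
    (fun he _ ha hac N h1 h2 => tangent k hdim hD.1 hC he ha hac N h1 h2)
  exact ⟨i, hi, hi'⟩

end Groth.Agent.LS17
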