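import Groth.Agent.LS17.FFBase

/-! Divisors of small Clifford index. -/

namespace Groth.Agent.LS17

open FunFld WithZero
open Groth.Agent.FFLib

variable {k K : Type*} [Field k] [Field K] [Algebra k K]

/-- Every special divisor of positive dimension has `2ℓ(D) + e ≤ deg D`. -/
def CliffMin (C : Divisor k K) (e : ℤ) : Prop :=
  ∀ D : Divisor k K, 2 ≤ ell D → 2 ≤ ell (C - D) → 2 * (ell D : ℤ) + e ≤ D.deg

/-- Some special divisor of positive dimension attains `2ℓ(D) + e = deg D`. -/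
def CliffAtt (C : Divisor k K) (e : ℤ) : Prop :=
  ∃ D : Divisor k K, 2 ≤ ell D ∧ 2 ≤ ell (C - D) ∧ D.deg = 2 * (ell D : ℤ) + e

variable [IsAlgClosed k] (hK : IsFunctionField k K) {C : Divisor k K} (hC : IsCanonical k K C)

include hK

theorem ell_le_one_of_deg_zero {D : Divisor k K} (hd : D.deg = 0) : ell D ≤ 1 := by
  by_contra h
  obtain ⟨E, hE, hl⟩ := exists_effective hK.1 (D := D) (by omega)
  rw [hl.ell_eq hK.1, eq_zero_of_deg_zero hK hE (by rw [← hl.deg_eq hK.1, hd]), ell_zero hK] at h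
  omega

include hC

/-- The attaining divisor may be taken of degree at most `g − 1`. -/
theorem CliffAtt.small {e : ℤ} (h : CliffAtt C e) :
    ∃ D : Divisor k K, 2 ≤ ell D ∧ 2 ≤ ell (C - D) ∧ D.deg = 2 * (ell D : ℤ) + e ∧
      D.deg ≤ (genus k K : ℤ) - 1 := by
  obtain ⟨D, h1, h2, h3⟩ := h
  obtain ⟨r1, r2, r3, r4⟩ := rr_C hK hC D
  rcases le_or_gt D.deg ((genus k K : ℤ) - 1) with h | h
  · exact ⟨D, h1, h2, h3, h⟩
  · exact ⟨C - D, h2, by rwa [r4], by omega, by omega⟩

/-- Pencils of small degree are special. -/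
theorem CliffMin.deg_pencil {e : ℤ} (h : CliffMin C e) {A : Divisor k K} (hA : 2 ≤ ell A)
    (hd : A.deg ≤ (genus k K : ℤ) - 1) : 4 + e ≤ A.deg := by
  have := rr_C hK hC A
  have := h A hA (by omega)
  omega

/-- Bound on sections from a lower bound on the Clifford index. -/
theorem CliffMin.ell_le {e : ℤ} (h : CliffMin C e) {D : Divisor k K} (hD : 2 ≤ ell D) :
    2 * (ell D : ℤ) + e ≤ D.deg ∨ (ell D : ℤ) ≤ D.deg + 2 - genus k K := by
  have := rr_C hK hC D
  rcases le_or_gt 2 (ell (C - D)) with h2 | h2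
  · exact Or.inl (h D hD h2)
  · exact Or.inr (by omega)

omit hC in
/-- Common part of a divisor in `|D|` and one in `|C − D|` through `S`. -/
theorem exists_inf (_hC : IsCanonical k K C) {D E S : Divisor k K} (hl : Lin D E) (hSE : S ≤ E)
    (hup : ell (C - D - E) < ell (C - D - S)) :
    ∃ M : Divisor k K, S ≤ M ∧ M.deg < E.deg ∧ ell D + ell (C - D) ≤ ell (C - M) + ell M ∧
      ell (C - E) ≤ ell (C - M) := by
  obtain ⟨z, hz, hz'⟩ := SetLike.not_le_iff_exists.mp (fun hle : L (C - D - S) ≤ L (C - D - E) => by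
    have := L_finite hK.1 (C - D - E)
    have := Submodule.finrank_mono hle
    simp only [ell] at hup
    omega)
  have hz0 : z ≠ 0 := fun h0 => hz' (h0 ▸ Submodule.zero_mem _)
  let F : Divisor k K := C - D + FunFld.div k z
  have hlF : Lin (C - D) F := ⟨z, hz0, rfl⟩
  have hSF : S ≤ F := fun R => by
    have := (mem_L_iff_ord hz0).mp hz R
    simp only [F, Finsupp.add_apply, Finsupp.sub_apply, div_apply hK.1] at this ⊢
    omega
  have hEF : ¬ E ≤ F := fun hle => hz' ((mem_L_iff_ord hz0).mpr fun R => by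
    have := hle R
    simp only [F, Finsupp.add_apply, Finsupp.sub_apply, div_apply hK.1] at this ⊢
    omega)
  let M : Divisor k K := E ⊓ F
  have hsum : Lin C (E + F) := by
    simpa using hl.add hK.1 hlF
  have hsup : E ⊔ F = E + F - M := by
    ext R
    simp only [M, Finsupp.sup_apply, Finsupp.sub_apply, Finsupp.add_apply, Finsupp.inf_apply]
    omega
  have key := ell_add_le_sup_inf hK E F
  rw [hsup, ← ((hsum.sub hK.1 (Lin.refl hK.1 M)).ell_eq hK.1), ← hl.ell_eq hK.1, ← hlF.ell_eq hK.1] at key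
  change ell D + ell (C - D) ≤ ell (C - M) + ell M at key
  have hME : M.deg < E.deg := by
    refine lt_of_le_of_ne (Divisor.deg_mono inf_le_left) fun heq => hEF ?_
    have := eq_zero_of_deg_zero hK (sub_nonneg.mpr (inf_le_left : M ≤ E)) (by rw [Divisor.deg_sub, heq]; omega)
    rw [sub_eq_zero] at this
    exact this.le.trans inf_le_right
  exact ⟨M, le_inf hSE hSF, hME, key, (ell_le_of_le hK.1 (sub_le_sub_left (inf_le_left : M ≤ E) C)).1⟩

/-- Equality in Clifford's inequality gives a pencil of degree two. -/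
theorem hyperelliptic_of_clifford {D : Divisor k K} (h1 : 2 ≤ ell D) (h2 : 2 ≤ ell (C - D))
    (h3 : D.deg + 2 ≤ 2 * (ell D : ℤ)) : ∃ A : Divisor k K, A.deg = 2 ∧ 2 ≤ ell A := by
  classical
  obtain ⟨P₀⟩ := exists_place hK.1
  have hcl : ∀ D : Divisor k K, 0 ≤ D.deg → D.deg ≤ 2 * (genus k K : ℤ) → 2 * (ell D : ℤ) ≤ D.deg + 2 :=
    fun D => clifford hK (deg_eq_one hK.1 P₀)
  have hdeg : 0 ≤ D.deg := deg_nonneg_of_ell_pos hK.1 (by omega)
  have hdeg' : 0 ≤ (C - D).deg := deg_nonneg_of_ell_pos hK.1 (by omega)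
  obtain ⟨p1, p2, p3, p4⟩ := rr_C hK hC D
  have hc := hcl D hdeg (by omega)
  have ha : CliffAtt C (-2) := ⟨D, h1, h2, by omega⟩
  have hex : ∃ n : ℕ, ∃ D : Divisor k K, ell D = n ∧ 2 ≤ ell D ∧ 2 ≤ ell (C - D) ∧
      D.deg = 2 * (ell D : ℤ) + -2 ∧ D.deg ≤ (genus k K : ℤ) - 1 := by
    obtain ⟨D, hD⟩ := ha.small hK hC
    exact ⟨_, D, rfl, hD⟩
  obtain ⟨D, hn, h1, h2, h3, h4⟩ := Nat.find_spec hex
  obtain ⟨r1, r2, r3, r4⟩ := rr_C hK hC D
  rcases (show ell D = 2 ∨ 3 ≤ ell D by omega) with e2 | e3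
  · exact ⟨D, by omega, h1⟩
  exfalso
  obtain ⟨E, hE, hl⟩ := exists_effective hK.1 (D := D) (by omega)
  have hdE : E.deg = D.deg := (hl.deg_eq hK.1).symm
  obtain ⟨P, hP⟩ := exists_single_le hK hE (by omega)
  have hlow := ell_le_sub_pt hK (C - D) P
  have hlE : Lin (C - D - D) (C - D - E) := (Lin.refl hK.1 _).sub hK.1 hl
  have hup : ell (C - D - E) < ell (C - D - Finsupp.single P 1) := by
    rw [← hlE.ell_eq hK.1, sub_sub C D D]
    have q := rr_C hK hC (D + D)
    have q' := hcl (D + D) (by rw [Divisor.deg_add]; omega) (by rw [Divisor.deg_add]; omega)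
    rw [Divisor.deg_add] at q q'
    omega
  obtain ⟨M, hSM, hME, key, hmono⟩ := exists_inf hK hC hl hP hup
  obtain ⟨m1, m2, m3, m4⟩ := rr_C hK hC M
  have hM1 := Divisor.deg_mono hSM
  rw [deg_pt hK] at hM1
  rw [← ((Lin.refl hK.1 C).sub hK.1 hl).ell_eq hK.1] at hmono
  have hMe := hcl M (by omega) (by omega)
  exact Nat.find_min hex (show ell M < Nat.find hex by omega)
    ⟨M, rfl, by omega, by omega, by omega, by omega⟩

/-- Clifford index one: trigonal or plane quintic. -/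
theorem trigonal_or_quintic (h : CliffMin C (-1)) (ha : CliffAtt C (-1)) :
    (∃ D : Divisor k K, D.deg = 3 ∧ 2 ≤ ell D) ∨
      (genus k K = 6 ∧ ∃ D : Divisor k K, D.deg = 5 ∧ ell D = 3 ∧
        ∀ P Q : Place k K, ell (D - Finsupp.single P 1 - Finsupp.single Q 1) + 2 ≤ ell D) := by
  classical
  have hex : ∃ n : ℕ, ∃ D : Divisor k K, ell D = n ∧ 2 ≤ ell D ∧ 2 ≤ ell (C - D) ∧
      D.deg = 2 * (ell D : ℤ) + -1 ∧ D.deg ≤ (genus k K : ℤ) - 1 := by
    obtain ⟨D, hD⟩ := ha.small hK hC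
    exact ⟨_, D, rfl, hD⟩
  obtain ⟨D, hn, h1, h2, h3, h4⟩ := Nat.find_spec hex
  obtain ⟨r1, r2, r3, r4⟩ := rr_C hK hC D
  rcases (show ell D = 2 ∨ ell D = 3 ∨ 4 ≤ ell D by omega) with e2 | e3 | e4
  · exact Or.inl ⟨D, by omega, h1⟩
  · by_cases hsep : ∀ P Q : Place k K, ell (D - Finsupp.single P 1 - Finsupp.single Q 1) + 2 ≤ ell D
    · have hg := genus_of_sep hK e3 (by omega) hsep
      rw [h3, e3] at hg
      exact Or.inr ⟨by norm_num at hg; omega, D, by omega, e3, hsep⟩
    · push Not at hsep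
      obtain ⟨P, Q, hPQ⟩ := hsep
      exact Or.inl ⟨D - Finsupp.single P 1 - Finsupp.single Q 1,
        by rw [deg_sub_pt hK, deg_sub_pt hK]; omega, by omega⟩
  exfalso
  obtain ⟨E, hE, hl⟩ := exists_effective hK.1 (D := D) (by omega)
  have hdE : E.deg = D.deg := (hl.deg_eq hK.1).symm
  obtain ⟨P, hP⟩ := exists_single_le hK hE (by omega)
  obtain ⟨Q, hQ⟩ := exists_single_le hK (sub_nonneg.mpr hP) (by rw [deg_sub_pt hK]; omega)
  let S : Divisor k K := Finsupp.single P 1 + Finsupp.single Q 1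
  have hSE : S ≤ E := le_sub_iff_add_le'.mp hQ
  have hdS : S.deg = 2 := by
    show (Finsupp.single P 1 + Finsupp.single Q 1 : Divisor k K).deg = 2
    rw [Divisor.deg_add, deg_pt hK, deg_pt hK]; norm_num
  have hlE : Lin (C - D - D) (C - D - E) := (Lin.refl hK.1 _).sub hK.1 hl
  have hlow := (ell_le_of_le hK.1 (sub_le_self (C - D) (show (0 : Divisor k K) ≤ S from
    add_nonneg (Finsupp.single_nonneg.mpr zero_le_one) (Finsupp.single_nonneg.mpr zero_le_one)))).2
  rw [Divisor.deg_sub (C - D) S, hdS] at hlow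
  have hup : ell (C - D - E) < ell (C - D - S) := by
    rw [← hlE.ell_eq hK.1, sub_sub C D D]
    have q := rr_C hK hC (D + D)
    rw [Divisor.deg_add] at q
    have hh := hopf hK (D := D) (E := D) (by omega) (by omega)
    rcases CliffMin.ell_le hK hC h (D := D + D) (by omega) with hb | hb <;> rw [Divisor.deg_add] at hb <;> omega
  obtain ⟨M, hSM, hME, key, hmono⟩ := exists_inf hK hC hl hSE hup
  obtain ⟨m1, m2, m3, m4⟩ := rr_C hK hC M
  have hM2 : 2 ≤ M.deg := hdS ▸ Divisor.deg_mono hSM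
  rw [← ((Lin.refl hK.1 C).sub hK.1 hl).ell_eq hK.1] at hmono
  have hMe := h M (by omega) (by omega)
  exact Nat.find_min hex (show ell M < Nat.find hex by omega)
    ⟨M, rfl, by omega, by omega, by omega, by omega⟩

variable [CharZero k]

/-- Clifford index two in genus nine: a pencil of degree four. -/
theorem tetragonal (hg : genus k K = 9) (h : CliffMin C 0) (ha : CliffAtt C 0) :
    ∃ D : Divisor k K, D.deg = 4 ∧ 2 ≤ ell D := by
  obtain ⟨D, h1, h2, h3, h4⟩ := ha.small hK hC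
  have q := rr_C hK hC (D + D)
  rw [Divisor.deg_add] at q
  have split : 2 * ell (D + D) < ell D * (ell D + 1) → (ell D = 3 ∨ ell D = 4) →
      ∃ A : Divisor k K, A.deg = 4 ∧ 2 ≤ ell A := fun hlt hn => by
    obtain ⟨A, B, hA, hB, hl⟩ := exists_pencils_of_few_quadrics hK hn hlt
    have hd := hl.deg_eq hK.1
    rw [Divisor.deg_add] at hd
    rcases le_total A.deg B.deg with hle | hle
    · have := CliffMin.deg_pencil hK hC h hA (by omega)
      exact ⟨A, by omega, hA⟩
    · have := CliffMin.deg_pencil hK hC h hB (by omega)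
      exact ⟨B, by omega, hB⟩
  rcases (show ell D = 2 ∨ ell D = 3 ∨ ell D = 4 by omega) with e | e | e
  · exact ⟨D, by omega, h1⟩
  · rcases le_or_gt 2 (ell (C - (D + D))) with h' | h'
    · exact ⟨C - (D + D), by omega, h'⟩
    · exact split (by rw [e]; omega) (Or.inl e)
  · refine split ?_ (Or.inr e)
    have := ell_le_one_of_deg_zero hK (D := C - (D + D)) (by omega)
    rw [e]; omega

omit [CharZero k] in
/-- Clifford index three in genus nine: a pencil of degree five. -/
theorem pentagonal (hg : genus k K = 9) (ha : CliffAtt C 1) :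
    ∃ D : Divisor k K, D.deg = 5 ∧ 2 ≤ ell D := by
  obtain ⟨D, h1, h2, h3, h4⟩ := ha.small hK hC
  rcases (show ell D = 2 ∨ ell D = 3 by omega) with e | e
  · exact ⟨D, by omega, h1⟩
  · by_cases hsep : ∀ P Q : Place k K, ell (D - Finsupp.single P 1 - Finsupp.single Q 1) + 2 ≤ ell D
    · have := genus_of_sep hK e (by omega) hsep
      rw [h3, e, hg] at this
      norm_num at this
    · push Not at hsep
      obtain ⟨P, Q, hPQ⟩ := hsep
      exact ⟨D - Finsupp.single P 1 - Finsupp.single Q 1,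
        by rw [deg_sub_pt hK, deg_sub_pt hK]; omega, by omega⟩

end Groth.Agent.LS17
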