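import Groth.Agent.LS17.Point
import Groth.Agent.LS17.FFCliff
import Groth.Agent.CurveCohLib.Pencil

/-! From modules to divisor classes, and back to linear series. -/

noncomputable section

set_option linter.style.haveILetI false
set_option linter.unusedSectionVars false
set_option backward.isDefEq.respectTransparency false
set_option backward.isDefEq.respectTransparency.types false

universe u

open CategoryTheory CategoryTheory.Limits AlgebraicGeometry TopologicalSpace Opposite

namespace Groth.Agent.LS17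

attribute [local instance] CurveFF.ffAlg

variable (k : Type u) [Field k] [IsAlgClosed k] {X : Scheme.{u}} [X.Over (Spec (CommRingCat.of k))]
  [IsIntegral X] [IsProper (X ↘ Spec (CommRingCat.of k))] [Smooth (X ↘ Spec (CommRingCat.of k))]
  (hdim : topologicalKrullDim X = 1)

include hdim in
theorem cliffMin_of {C : FunFld.Divisor k X.functionField} (hC : FunFld.IsCanonical k X.functionField C) {e : ℤ}
    (hmin : ∀ M : X.Modules, PicF.IsInvertible M → 2 ≤ Module.finrank k (Coh.HH X M 0) →
      2 ≤ Module.finrank k (Coh.HH X M 1) → 2 * (Module.finrank k (Coh.HH X M 0) : ℤ) + e ≤ Curv2.deg k X M 1) :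
    CliffMin C e := by
  intro D h1 h2
  obtain ⟨M, hM⟩ := exists_mod k hdim D
  have := hmin M hM.1 (by rw [hM.h0 k hdim]; exact h1) (by rw [hM.rr k hdim hC]; exact h2)
  rwa [hM.h0 k hdim, hM.deg k hdim] at this

include hdim in
theorem cliffAtt_of {C : FunFld.Divisor k X.functionField} (hC : FunFld.IsCanonical k X.functionField C) {e : ℤ}
    (hex : ∃ M : X.Modules, PicF.IsInvertible M ∧ 2 ≤ Module.finrank k (Coh.HH X M 0) ∧
      2 ≤ Module.finrank k (Coh.HH X M 1) ∧ Curv2.deg k X M 1 = 2 * (Module.finrank k (Coh.HH X M 0) : ℤ) + e) :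
    CliffAtt C e := by
  obtain ⟨M, hM, h1, h2, h3⟩ := hex
  obtain ⟨D, hD⟩ := exists_hasDiv k hdim hM
  rw [hD.h0 k hdim] at h1 h3
  rw [hD.rr k hdim hC] at h2
  rw [hD.deg k hdim] at h3
  exact ⟨D, h1, h2, h3⟩

omit [IsAlgClosed k] [IsIntegral X] [Smooth (X ↘ Spec (CommRingCat.of k))] in
/-- Independent sections from a lower bound on `h⁰`. -/
theorem exists_linIndep {L : X.Modules} (hL : Coh.IsCoh L) {n : ℕ}
    (h : n ≤ Module.finrank k (Coh.HH X L 0)) :
    ∃ s : Fin n → LinSer.Sect X L, LinSer.LinIndep k X L s := by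
  haveI := CurveCohLib.finite_HH (k := k) hL 0
  let e := Sheaf.H.equiv₀ (Coh.toAb L) isTerminalTop
  obtain ⟨v, hv⟩ := exists_linearIndependent_of_le_finrank h
  refine ⟨fun i => e (v i), fun c hc => funext (Fintype.linearIndependent_iff.1 hv c ?_)⟩
  apply e.injective
  rw [map_sum, map_zero]
  refine Eq.trans (Finset.sum_congr rfl fun j _ => ?_) hc
  refine (CurveCohLib.h0Equiv_smul L (c j) (v j)).trans ?_
  exact congrArg (· • (show LinSer.Sect X L from e (v j))) (show Coh.resTop X (op ⊤) _ = _ from
    ConcreteCategory.congr_hom (X.presheaf.map_id (op ⊤)) _)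

include hdim in
/-- A divisor gives a linear series. -/
theorem exists_linSer {D : FunFld.Divisor k X.functionField} {d r : ℕ} (hd : D.deg = d)
    (hr : r + 1 ≤ FunFld.ell D) :
    ∃ (L : X.Modules) (s : Fin (r + 1) → LinSer.Sect X L), LinSer.IsLinSer k X L d r s := by
  obtain ⟨M, hM⟩ := exists_mod k hdim D
  haveI := CurveCohLib.isNoetherian_of_proper (k := k) (X := X)
  obtain ⟨s, hs⟩ := exists_linIndep k (CurveDeg.isCoh_of_isInvertible hM.1) (n := r + 1)
    (by rw [hM.h0 k hdim]; exact hr)
  exact ⟨M, s, hM.1, by rw [hM.deg k hdim, hd], hs⟩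

include k hdim in
/-- A cofactor of invertible modules is invertible. -/
theorem isInvertible_of_tensor_iso {D N H : X.Modules} (hD : PicF.IsInvertible D) (hH : PicF.IsInvertible H)
    (e : CohB1.tensorMod D N ≅ H) : PicF.IsInvertible N := by
  obtain ⟨J, hJ, -, ⟨f⟩⟩ := CurveDuality.exists_inverse_deg k hdim hD
  exact H23.PicMul.isInvertible_of_iso
    (((DCoh.tensorBi.obj J).mapIso e).symm ≪≫ (CurveRR.cancelIso (CurveTensor.commIso J D ≪≫ f)).app N)
    (InvX.isInvertible_tensorMod hJ hH)

end Groth.Agent.LS17
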