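import Groth.Agent.LS17.Bridge
import Groth.Agent.CurveCohLib.PolarHom

/-! Every divisor class is the class of an invertible module. -/

noncomputable section

set_option linter.style.haveILetI false
set_option linter.unusedSectionVars false
set_option backward.isDefEq.respectTransparency false
set_option backward.isDefEq.respectTransparency.types false

universe u

open CategoryTheory CategoryTheory.Limits AlgebraicGeometry TopologicalSpace Opposite
open Groth.Agent.CurveCohLib.Polar (InR gη eta_mem Eqns)

namespace Groth.Agent.LS17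

open Groth.Agent.CurveFF
open Groth.Agent.AModX (res resR)

attribute [local instance] CurveFF.ffAlg

variable (k : Type u) [Field k] [IsAlgClosed k] {X : Scheme.{u}} [X.Over (Spec (CommRingCat.of k))]
  [IsIntegral X] [IsProper (X ↘ Spec (CommRingCat.of k))] [Smooth (X ↘ Spec (CommRingCat.of k))]
  (hdim : topologicalKrullDim X = 1)

/-- A function whose order at each closed point is the coefficient there. -/
def eqnFun (E : FunFld.Divisor k X.functionField) (z : X) : X.functionField :=
  open Classical in
  if hz : IsClosed ({z} : Set X) then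
    (if E (pl k X hdim ⟨z, hz⟩) = 0 then 1
     else (FFLib.exists_val_eq_exp (pl k X hdim ⟨z, hz⟩) (-E (pl k X hdim ⟨z, hz⟩))).choose)
  else 1

theorem val_eqnFun (E : FunFld.Divisor k X.functionField) (z : Pt X) :
    (pl k X hdim z).1 (eqnFun k hdim E z.1) = WithZero.exp (-E (pl k X hdim z)) := by
  classical
  rw [eqnFun, dif_pos z.2]
  split_ifs with h
  · rw [map_one, h, neg_zero, WithZero.exp_zero]
  · exact (FFLib.exists_val_eq_exp _ _).choose_spec.2

theorem eqnFun_ne (E : FunFld.Divisor k X.functionField) (z : X) : eqnFun k hdim E z ≠ 0 := by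
  classical
  rw [eqnFun]
  split_ifs with hz h
  · exact one_ne_zero
  · exact (FFLib.exists_val_eq_exp _ _).choose_spec.1
  · exact one_ne_zero

theorem eqnFun_generic_inR (E : FunFld.Divisor k X.functionField) (c : X.functionField) :
    InR (genericPoint X) c := ⟨c, algebraMap_generic X c⟩

/-- The local equations of an effective divisor. -/
def eqns (E : FunFld.Divisor k X.functionField) (hE : 0 ≤ E) : Eqns X where
  A := eqnFun k hdim E
  ne := eqnFun_ne k hdim E
  inR z := by
    rcases eq_or_isClosed k X hdim z with rfl | hz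
    · exact eqnFun_generic_inR k E _
    · refine (inR_iff k X hdim ⟨z, hz⟩ _).2 ?_
      rw [val_eqnFun k hdim E ⟨z, hz⟩, ← WithZero.exp_zero, WithZero.exp_le_exp]
      have := hE (pl k X hdim ⟨z, hz⟩)
      rw [Finsupp.zero_apply] at this
      omega
  loc x := by
    classical
    have hK := (isFunctionField k X hdim).1
    let a := eqnFun k hdim E x
    let S : Set (Pt X) := {z | z.1 ≠ x ∧ (E (pl k X hdim z) ≠ 0 ∨ (pl k X hdim z).1 a ≠ 1)}
    have hS : S.Finite := by
      refine ((E.finite_support.union (FFLib.finite_support_ord hK a)).preimage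
        (pl k X hdim).injective.injOn).subset fun z hz => ?_
      rcases hz.2 with h | h
      · exact Or.inl h
      · refine Or.inr fun h0 => h ?_
        rw [FFLib.val_eq_exp _ (eqnFun_ne k hdim E x), show (pl k X hdim z).ord a = 0 from h0,
          neg_zero, WithZero.exp_zero]
    let T : Set X := ⋃ z ∈ S, {z.1}
    have hT : IsClosed T := hS.isClosed_biUnion fun z _ => z.2
    refine ⟨⟨Tᶜ, hT.isOpen_compl⟩, fun h => ?_, fun z hz => ?_⟩
    · obtain ⟨w, hw, hwx⟩ := Set.mem_iUnion₂.1 h
      exact hw.1 (Set.mem_singleton_iff.1 hwx).symm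
    · rcases eq_or_isClosed k X hdim z with rfl | hzc
      · exact ⟨eqnFun_generic_inR k E _, eqnFun_generic_inR k E _⟩
      have hzS : (⟨z, hzc⟩ : Pt X) ∉ S := fun h => hz (Set.mem_iUnion₂.2 ⟨_, h, rfl⟩)
      have key : (pl k X hdim ⟨z, hzc⟩).1 (eqnFun k hdim E x) =
          (pl k X hdim ⟨z, hzc⟩).1 (eqnFun k hdim E z) := by
        by_cases hzx : z = x
        · subst hzx; rfl
        simp only [S, Set.mem_ite_empty_right, Set.mem_setOf_eq, ne_eq, not_and, not_or, not_not] at hzS
        obtain ⟨h1, h2⟩ := hzS hzx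
        rw [val_eqnFun k hdim E ⟨z, hzc⟩, h1, neg_zero, WithZero.exp_zero]
        exact h2
      have hne := FFLib.val_ne_zero (pl k X hdim ⟨z, hzc⟩) (eqnFun_ne k hdim E z)
      constructor <;> refine (inR_iff k X hdim ⟨z, hzc⟩ _).2 (le_of_eq ?_) <;>
        rw [map_div₀, key, div_self hne]

/-- The module of an effective divisor has that class. -/
theorem hasDiv_mod (E : FunFld.Divisor k X.functionField) (hE : 0 ≤ E) :
    HasDiv k hdim (CurveCohLib.Polar.mod (eqns k hdim E hE) 1) E := by
  classical
  let D := eqns k hdim E hE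
  have hM := CurveCohLib.Polar.isInvertible_mod D 1
  obtain ⟨U, hU, e, he, hev⟩ := CurveCohLib.Polar.exists_mod_frame D 1 (genericPoint X)
  have hAη : D.A (genericPoint X) = 1 := by
    show eqnFun k hdim E _ = 1
    rw [eqnFun, dif_neg]
    intro h
    have huniv : ({genericPoint X} : Set X) = Set.univ :=
      h.closure_eq.symm.trans (genericPoint_spec X)
    haveI : Subsingleton X := ⟨fun a b => by
      have ha : a ∈ ({genericPoint X} : Set X) := huniv ▸ Set.mem_univ a
      have hb : b ∈ ({genericPoint X} : Set X) := huniv ▸ Set.mem_univ b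
      rw [Set.mem_singleton_iff.1 ha, Set.mem_singleton_iff.1 hb]⟩
    have := topologicalKrullDim_zero_of_discreteTopology X
    rw [hdim] at this
    exact absurd this (by norm_num)
  refine ⟨hM, U, e, he, hU, ?_⟩
  have hdiv : divisor k hdim hM he hU = E := by
    ext P
    obtain ⟨z, rfl⟩ := (pl k X hdim).surjective P
    obtain ⟨V, hzV, f, hf, hfv⟩ := CurveCohLib.Polar.exists_mod_frame D 1 z.1
    have hVη := eta_mem hzV
    have hW : genericPoint X ∈ U ⊓ V := ⟨hU, hVη⟩
    obtain ⟨r, hr, hr'⟩ := exists_coord_ratio he (inf_le_left : U ⊓ V ≤ U) hW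
      (res (CurveCohLib.Polar.mod D 1) (inf_le_right : U ⊓ V ≤ V) f)
    have hrat : ratio he hU hVη f = X.presheaf.germ (U ⊓ V) _ hW r :=
      (ratio_eq he (by rw [ratio_spec, gM_res])).trans hr'
    have h1 := congrArg (CurveCohLib.Polar.v D hW) hr
    rw [CurveCohLib.Polar.v_res _ hW hVη, hfv hVη, CurveCohLib.Polar.v_smul,
      CurveCohLib.Polar.v_res _ hW hU, hev hU, pow_one, pow_one, hAη, inv_one, mul_one] at h1
    refine WithZero.exp_injective ?_
    rw [exp_divisor k hdim hM he hU hf hVη hzV, hrat]
    erw [← h1]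
    rw [map_inv₀, show D.A z.1 = eqnFun k hdim E z.1 from rfl, val_eqnFun k hdim E z,
      ← WithZero.exp_neg, neg_neg]
  rw [hdiv]
  exact Lin.refl (isFunctionField k X hdim).1 _

/-- Every divisor is the divisor of an invertible module. -/
theorem exists_mod (D : FunFld.Divisor k X.functionField) : ∃ M : X.Modules, HasDiv k hdim M D := by
  have hK := (isFunctionField k X hdim).1
  let Ep : FunFld.Divisor k X.functionField := D.mapRange (fun n => max n 0) (by simp)
  let En : FunFld.Divisor k X.functionField := D.mapRange (fun n => max (-n) 0) (by simp)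
  have hp : 0 ≤ Ep := fun P => by simp [Ep]
  have hn : 0 ≤ En := fun P => by simp [En]
  obtain ⟨J, hJ, -, ⟨e⟩⟩ := CurveDuality.exists_inverse_deg k hdim (hasDiv_mod k hdim En hn).1
  obtain ⟨D', hD'⟩ := exists_hasDiv k hdim hJ
  have hl := (hasDiv_mod k hdim En hn).inverse k hdim hD' e
  refine ⟨_, ((hasDiv_mod k hdim Ep hp).tensor k hdim (hD'.congr k hdim hl)).congr k hdim ?_⟩
  have : Ep + -En = D := by
    ext P
    simp only [Ep, En, Finsupp.add_apply, Finsupp.neg_apply, Finsupp.mapRange_apply]
    omega
  rw [this]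
  exact Lin.refl hK D

end Groth.Agent.LS17
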