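import Groth.Agent.LS17.Trisecant
import Groth.Agent.LS17.FFCliff

/-! Castelnuovo's bound on quadrics through a birationally embedded curve. -/

namespace Groth.Agent.LS17

open FunFld WithZero IntermediateField
open Groth.Agent.FFLib

variable {k K : Type*} [Field k] [IsAlgClosed k] [CharZero k] [Field K] [Algebra k K] (hK : IsFunctionField k K)

/-- The ratios of a series generate the function field. -/
def SeriesGen (V : Submodule k K) : Prop := adjoin k {z : K | ∃ a ∈ V, ∃ b ∈ V, z = a / b} = ⊤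

omit [IsAlgClosed k] [CharZero k] in
theorem SeriesGen.of_subset {V : Submodule k K} {s : Set K}
    (hs : ∀ z ∈ s, ∃ a ∈ V, ∃ b ∈ V, z = a / b) (h : adjoin k s = ⊤) : SeriesGen V :=
  top_le_iff.1 (h ▸ adjoin.mono k _ _ hs)

omit [IsAlgClosed k] [CharZero k] in
theorem SeriesGen.adjoin_ratios {V : Submodule k K} (hG : SeriesGen V) {n : ℕ} {φ : Fin (n + 1) → K}
    (hφ : Submodule.span k (Set.range φ) = V) (h0 : φ 0 ≠ 0) :
    adjoin k (Set.range fun i => φ i / φ 0) = ⊤ := by
  refine top_le_iff.1 (hG ▸ adjoin_le_iff.2 ?_)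
  rintro _ ⟨a, ha, b, hb, rfl⟩
  have key : ∀ v ∈ V, v / φ 0 ∈ adjoin k (Set.range fun i => φ i / φ 0) := fun v hv => by
    rw [← hφ] at hv
    induction hv using Submodule.span_induction with
    | mem x hx => obtain ⟨i, rfl⟩ := hx; exact subset_adjoin k _ ⟨i, rfl⟩
    | zero => rw [_root_.zero_div]; exact zero_mem _
    | add x y _ _ hx hy => rw [add_div]; exact add_mem hx hy
    | smul c x _ hx =>
      rw [Algebra.smul_def, mul_div_assoc]; exact mul_mem (IntermediateField.algebraMap_mem _ c) hx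
  show a / b ∈ adjoin k _
  rw [← div_div_div_cancel_right₀ h0 a b]
  exact div_mem (key a ha) (key b hb)

include hK

/-- A general projection of a birational series. -/
theorem exists_drop {m : ℕ} (hm : 1 ≤ m) {D : Divisor k K} {V : Submodule k K} (h : IsBpfSeries D V)
    (hd : 0 < D.deg) (hV : Module.finrank k V = m + 2) (hG : SeriesGen V)
    (S : Set (Place k K)) (hS : S.Finite) :
    ∃ P ∉ S, IsBpfSeries (D - Finsupp.single P 1) (V ⊓ L (D - Finsupp.single P 1)) ∧
      Module.finrank k ↥(V ⊓ L (D - Finsupp.single P 1)) = m + 1 ∧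
      (2 ≤ m → SeriesGen (V ⊓ L (D - Finsupp.single P 1))) := by
  classical
  haveI : FiniteDimensional k ↥V :=
    have := L_finite hK.1 D
    Submodule.finiteDimensional_of_le h.le
  let b := Module.finBasisOfFinrankEq k V hV
  set φ : Fin (m + 2) → K := fun i => (b i : K) with hφdef
  have hli : LinearIndependent k φ := b.linearIndependent.map' V.subtype (Submodule.ker_subtype V)
  have hspan : Submodule.span k (Set.range φ) = V := by
    have hr : Set.range φ = V.subtype '' Set.range b := by rw [← Set.range_comp]; rfl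
    rw [hr, Submodule.span_image, b.span_eq, Submodule.map_top, Submodule.range_subtype]
  have hφ0 : φ 0 ≠ 0 := hli.ne_zero 0
  have hgen := hG.adjoin_ratios hspan hφ0
  have hbpf : IsBpfSeries D (Submodule.span k (Set.range φ)) := by rw [hspan]; exact h
  set F : Fin (m + 2) → K := fun i => φ i / φ 0 with hF
  have hFli : LinearIndependent k F := by
    have h1 := hli.map' (LinearMap.mulRight k (φ 0)⁻¹) (LinearMap.ker_eq_bot.2 fun a c hac =>
      mul_right_cancel₀ (inv_ne_zero hφ0) hac)
    simpa [hF, Function.comp_def, div_eq_mul_inv] using h1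
  set S' : Set (Place k K) := S ∪ {P | ¬ IsNonsingularAt φ P} ∪ ↑(D + FunFld.div k (φ 0)).support
  have hS' : S'.Finite :=
    (hS.union (finite_singular hK (by omega) hli hgen)).union (Finset.finite_toSet _)
  have good : ∀ P ∉ S', P ∉ S ∧ IsBpfSeries (D - Finsupp.single P 1) (V ⊓ L (D - Finsupp.single P 1)) ∧
      Module.finrank k ↥(V ⊓ L (D - Finsupp.single P 1)) = m + 1 ∧ P.ord (φ 0) = -D P := by
    intro P hP
    simp only [S', Set.mem_union, Set.mem_setOf_eq, Finset.mem_coe, Finsupp.mem_support_iff, not_or,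
      not_not] at hP
    obtain ⟨⟨hPS, hns⟩, hP0⟩ := hP
    rw [Finsupp.add_apply, div_apply hK.1] at hP0
    have hP0' : P.ord (φ 0) = -D P := by omega
    refine ⟨hPS, ?_, ?_, hP0'⟩
    · have h1 := (isNonsingularAt_iff_bpf hK hbpf hd P).1 hns
      rwa [hspan] at h1
    · have h1 := finrank_inf_step hK.1 V D P
      rw [deg_eq_one hK.1, inf_eq_left.mpr h.le] at h1
      have h2 : V ⊓ L (D - Finsupp.single P 1) < V := lt_of_le_of_ne inf_le_left fun e =>
        (not_mem_L_sub_iff (h.le (hspan ▸ Submodule.subset_span ⟨0, rfl⟩))).mpr ⟨hφ0, hP0'⟩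
          (e.symm.le (hspan ▸ Submodule.subset_span ⟨0, rfl⟩ : φ 0 ∈ V)).2
      have := Submodule.finrank_lt_finrank_of_lt h2
      omega
  by_cases hm2 : 2 ≤ m
  · obtain ⟨P, hP, hreg, htop⟩ := exists_birational_projection hK hm2 F (div_self hφ0) hFli hgen S' hS'
    obtain ⟨h1, h2, h3, h4⟩ := good P hP
    refine ⟨P, h1, h2, h3, fun _ => SeriesGen.of_subset ?_ htop⟩
    have e : ∀ i, φ i - pv P (F i) • φ 0 = (F i - algebraMap k K (pv P (F i))) * φ 0 := fun i => by
      rw [Algebra.smul_def, sub_mul, hF]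
      simp only [div_mul_cancel₀ _ hφ0]
    have hψ : ∀ i : Fin (m + 1), φ i.succ - pv P (F i.succ) • φ 0 ∈ V ⊓ L (D - Finsupp.single P 1) := by
      intro i
      have hmem : φ i.succ - pv P (F i.succ) • φ 0 ∈ V := V.sub_mem (hspan ▸ Submodule.subset_span ⟨_, rfl⟩)
        (V.smul_mem _ (hspan ▸ Submodule.subset_span ⟨0, rfl⟩))
      refine ⟨hmem, (mem_L_sub_single zero_le_one).mpr ⟨h.le hmem, ?_⟩⟩
      rw [← lt_exp_iff_le_exp_pred, e, map_mul, val_eq_exp P hφ0, h4, neg_neg]
      exact (mul_lt_mul_of_pos_right (pv_spec hK (hreg _)) (zero_lt_iff.mpr exp_ne_zero)).trans_eq (one_mul _)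
    rintro _ ⟨i, rfl⟩
    refine ⟨_, hψ i, _, hψ 0, ?_⟩
    rw [e, e, mul_div_mul_right _ _ hφ0]
    rfl
  · obtain ⟨P, hP⟩ := ((infinite_places' hK.1).sdiff hS').nonempty
    obtain ⟨h1, h2, h3, -⟩ := good P hP.2
    exact ⟨P, h1, h2, h3, fun h' => absurd h' hm2⟩

/-- Repeated general projection down to a pencil. -/
theorem exists_chain : ∀ (m : ℕ), 1 ≤ m → ∀ {D : Divisor k K} {V : Submodule k K}, IsBpfSeries D V →
    Module.finrank k V = m + 1 → (2 ≤ m → SeriesGen V) → ∀ A C : Divisor k K, D + D ≤ A →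
    ∃ E : Divisor k K, E.deg = (m : ℤ) - 1 ∧ NoBase (D - E) ∧ 0 < (D - E).deg ∧
      ell (A - E) + (m - 1) ≤ ell A ∧ ell (C - E) ≤ ell C - (m - 1) := by
  intro m
  induction m with
  | zero => intro h; omega
  | succ m ih =>
    intro _ D V h hV hG A C hA
    haveI := L_finite hK.1 D
    have hℓ : m + 2 ≤ ell D := hV ▸ Submodule.finrank_mono h.le
    have hd : 0 < D.deg := by
      rcases lt_trichotomy D.deg 0 with hneg | h0 | hpos
      · have := ell_eq_zero_of_deg_neg hK.1 hneg; omega
      · have := ell_le_one_of_deg_zero hK h0; omega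
      · exact hpos
    rcases Nat.eq_zero_or_pos m with rfl | hm
    · refine ⟨0, by simp, ?_, by rwa [sub_zero], by rw [sub_zero]; simp, by rw [sub_zero]; simp⟩
      rw [sub_zero]
      intro P
      obtain ⟨v, hv, hv'⟩ := h.exact P
      exact ⟨v, h.le hv, hv'⟩
    classical
    obtain ⟨Z, hZ⟩ : ∃ Z : Finset (Place k K), ∀ P ∉ Z, ell (C - Finsupp.single P 1) ≤ ell C - 1 := by
      rcases Nat.eq_zero_or_pos (ell C) with h0 | h0
      · exact ⟨∅, fun P _ => by have := ell_sub_pt_le hK C P; omega⟩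
      · obtain ⟨z, hz0, hzL, -⟩ := exists_le_add_div hK.1 (D := C) h0
        refine ⟨(C + FunFld.div k z).support, fun P hP => ?_⟩
        rw [Finsupp.notMem_support_iff, Finsupp.add_apply, div_apply hK.1] at hP
        have := L_finite hK.1 C
        have hlt : L (C - Finsupp.single P 1) < L C := lt_of_le_not_ge
          (L_mono (sub_le_self _ (Finsupp.single_nonneg.mpr zero_le_one))) fun hle =>
            (not_mem_L_sub_iff hzL).mpr ⟨hz0, by omega⟩ (hle hzL)
        have := Submodule.finrank_lt_finrank_of_lt hlt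
        show Module.finrank k ↥(L (C - Finsupp.single P 1)) ≤ Module.finrank k ↥(L C) - 1
        omega
    obtain ⟨P, hP, hb, hdim, hgen⟩ := exists_drop hK hm h hd hV (hG (by omega))
      (↑(Z ∪ (A - (D + D)).support)) (Finset.finite_toSet _)
    simp only [Finset.mem_coe, Finset.mem_union, not_or, Finsupp.notMem_support_iff] at hP
    obtain ⟨hPZ, hPA⟩ := hP
    rw [Finsupp.sub_apply, Finsupp.add_apply] at hPA
    obtain ⟨E, hE1, hE2, hE3, hE4, hE5⟩ := ih hm hb hdim hgen (A - Finsupp.single P 1) (C - Finsupp.single P 1)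
      (fun Q => by
        have h1 := hA Q
        simp only [Finsupp.add_apply, Finsupp.sub_apply] at h1 ⊢
        rcases eq_or_ne P Q with rfl | hQ
        · simp only [Finsupp.single_eq_same]; omega
        · simp only [Finsupp.single_eq_of_ne (Ne.symm hQ)]; omega)
    have hdrop : ell (A - Finsupp.single P 1) + 1 ≤ ell A := by
      obtain ⟨v, hv, hv0, hvP⟩ := h.exact P
      have hvv : v * v ∈ L A := L_mono hA (mul_mem_L (h.le hv) (h.le hv))
      haveI := L_finite hK.1 A
      have hlt : L (A - Finsupp.single P 1) < L A := lt_of_le_not_ge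
        (L_mono (sub_le_self _ (Finsupp.single_nonneg.mpr zero_le_one))) fun hle =>
          (not_mem_L_sub_iff hvv).mpr ⟨mul_ne_zero hv0 hv0, by rw [ord_mul P hv0 hv0, hvP]; omega⟩ (hle hvv)
      exact Submodule.finrank_lt_finrank_of_lt hlt
    refine ⟨Finsupp.single P 1 + E, ?_, ?_, ?_, ?_, ?_⟩
    · rw [Divisor.deg_add, deg_pt hK, hE1]; push_cast; ring
    · rwa [← sub_sub]
    · rwa [← sub_sub]
    · rw [← sub_sub]; omega
    · rw [← sub_sub]; have := hZ P hPZ; omega

/-- Castelnuovo: a birational series of dimension `r` imposes at least `2r-1` conditions on quadrics. -/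
theorem three_mul_le_ell {r : ℕ} {D : Divisor k K} {V : Submodule k K} (h : IsBpfSeries D V)
    (hV : Module.finrank k V = r + 1) (hG : SeriesGen V) (hr : r ≤ genus k K + 1) :
    3 * r ≤ ell (D + D) := by
  haveI := L_finite hK.1 D
  have hℓ : r + 1 ≤ ell D := hV ▸ Submodule.finrank_mono h.le
  have h2 := hopf hK (D := D) (E := D) (by omega) (by omega)
  rcases le_or_gt r 1 with hr1 | hr1
  · omega
  obtain ⟨C, hC⟩ := exists_canonical hK
  obtain ⟨E, hE1, hE2, hE3, hE4, hE5⟩ := exists_chain hK r (by omega) h hV (fun _ => hG) (D + D) C le_rfl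
  have h3 := pencil_trick hK hE2 hE3 D
  rw [sub_sub_cancel, show D - E + D = D + D - E by abel] at h3
  have h4 := (rr_C hK hC E).1
  rw [ell_canonical hK hC] at hE5
  omega

end Groth.Agent.LS17
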