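import Groth.Agent.PnCoh.TwistH0
import Groth.Prelude.Def_ProjUP

/-! The coordinates are independent sections of `O(1)`. -/

noncomputable section

universe u

open CategoryTheory CategoryTheory.Limits AlgebraicGeometry TopologicalSpace Opposite

namespace Groth.Agent.LS17

set_option synthInstance.maxHeartbeats 400000
set_option maxHeartbeats 1000000

variable (k : Type u) [Field k] {n : ℕ}

theorem linearIndependent_coord (c : Fin (n + 1) → k)
    (h : ∑ i, (CohB1.ProjSpace.toSpec n k).appTop ((Scheme.ΓSpecIso (CommRingCat.of k)).inv (c i)) •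
      (ProjUP.coord n k i : Γ(Twist.twistProjSpace n k 1, ⊤)) = 0) : ∀ i, c i = 0 := by
  letI := MvPolynomial.gradedAlgebra (σ := Fin (n + 1)) (R := k)
  let X' : Fin (n + 1) → MvPolynomial.homogeneousSubmodule (Fin (n + 1)) k 1 := fun i =>
    ⟨MvPolynomial.X i, MvPolynomial.isHomogeneous_X k i⟩
  let g : ↥(MvPolynomial.homogeneousSubmodule (Fin (n + 1)) k 1) →+ PnCoh.TwTop (Fin (n + 1)) k ((1 : ℕ) : ℤ) :=
    AddMonoidHom.mk' PnCoh.globalOfEquiv PnCoh.globalOf_add
  have h2 : g (∑ i, c i • X' i) = g 0 := by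
    rw [map_sum, map_zero]
    refine Eq.trans (Finset.sum_congr rfl fun i _ => ?_) h
    refine (PnCoh.globalOf_smul (c i) (X' i)).trans ?_
    refine congrArg (fun a : Γ(CohB1.ProjSpace n k, ⊤) => a • (ProjUP.coord n k i : Γ(Twist.twistProjSpace n k 1, ⊤))) ?_
    exact congr($((CohB1.ProjSpace n k).presheaf.map_id (op ⊤)) _)
  have h3 := congrArg Subtype.val (PnCoh.globalOfEquiv.injective h2)
  intro i
  refine Fintype.linearIndependent_iff.1 (MvPolynomial.linearIndependent_X (Fin (n + 1)) k) c ?_ i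
  simpa [X'] using h3

end Groth.Agent.LS17
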