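import Groth.Agent.LS17.CoverMap
import Groth.Agent.LS17.CastBound
import Groth.Agent.Lib.AmpleEmbed
import Groth.Agent.LS17.CoordIndep
import Groth.Agent.ProjPt.Poly
import Groth.Agent.PnCoh.TwistH0
import Groth.Agent.PnCoh.Global

/-! The series of a non-degenerate map to projective space. -/

noncomputable section

set_option linter.style.haveILetI false
set_option linter.unusedSectionVars false
set_option backward.isDefEq.respectTransparency false
set_option backward.isDefEq.respectTransparency.types false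

universe u

open CategoryTheory CategoryTheory.Limits AlgebraicGeometry TopologicalSpace Opposite
open Groth.Agent.CurveCohLib.Polar (InR gη eta_mem)
open Groth.Agent.AModX (res resR)

namespace Groth.Agent.LS17

open Groth.Agent.CurveFF

attribute [local instance] CurveFF.ffAlg

variable (k : Type u) [Field k] [IsAlgClosed k] {X : Scheme.{u}} [X.Over (Spec (CommRingCat.of k))]
  [IsIntegral X] [IsProper (X ↘ Spec (CommRingCat.of k))] [Smooth (X ↘ Spec (CommRingCat.of k))]
  {n : ℕ}

/-- The standard chart. -/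
abbrev chartD (j : Fin (n + 1)) : (CohB1.ProjSpace n k).Opens :=
  Proj.basicOpen (CohB1.polyGrading n k) (MvPolynomial.X j)

omit [IsAlgClosed k] in
theorem toSpec_res_cst (j : Fin (n + 1)) (c : k) :
    (CohB1.ProjSpace.toSpec n k).appLE ⊤ (chartD k j) le_top ((Scheme.ΓSpecIso (CommRingCat.of k)).inv c) =
      (Proj.awayToSection (CohB1.polyGrading n k) (MvPolynomial.X j)).hom (ProjPt.cst j c) := by
  have h := PnCoh.toSpecR_appTop_res (ι := Fin (n + 1)) (R := k) (g := Finsupp.single j 1)
    (PnCoh.single_one_ne_zero j) ((Scheme.ΓSpecIso (CommRingCat.of k)).inv c) (homOfLE le_top)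
  rw [show ((Scheme.ΓSpecIso (CommRingCat.of k)).hom.hom ((Scheme.ΓSpecIso (CommRingCat.of k)).inv c)) = c from
    ConcreteCategory.congr_hom (Scheme.ΓSpecIso (CommRingCat.of k)).inv_hom_id c] at h
  exact h

theorem germ_const {W : X.Opens} (hη : genericPoint X ∈ W) (c : k) :
    X.presheaf.germ W _ hη ((X ↘ Spec (CommRingCat.of k)).appLE ⊤ W le_top
      ((Scheme.ΓSpecIso (CommRingCat.of k)).inv c)) = algebraMap k X.functionField c :=
  TopCat.Presheaf.germ_res_apply X.presheaf (homOfLE (le_top : W ≤ ⊤)) (genericPoint X) hη _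

variable (r : X ⟶ CohB1.ProjSpace n k)
  (hr : r ≫ CohB1.ProjSpace.toSpec n k = X ↘ Spec (CommRingCat.of k))

include hr in
/-- Functions from a chart are rational in the coordinate ratios. -/
theorem germ_appLE_mem {j : Fin (n + 1)} {W : X.Opens} (hW : W ≤ r ⁻¹ᵁ chartD k j)
    (hη : genericPoint X ∈ W) (s : Set X.functionField)
    (hs : ∀ i, (X.presheaf.germ W _ hη (ProjUPX.ratioOf r (ProjPt.X_mem i) (ProjPt.X_mem j) hW) :
      X.functionField) ∈ s)
    (t : Γ(CohB1.ProjSpace n k, chartD k j)) :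
    (X.presheaf.germ W _ hη (r.appLE (chartD k j) W hW t) : X.functionField) ∈ IntermediateField.adjoin k s := by
  haveI : IsIso (Proj.awayToSection (CohB1.polyGrading n k) (MvPolynomial.X j)) :=
    inferInstanceAs (IsIso (Proj.basicOpenIsoAway (CohB1.polyGrading n k) (MvPolynomial.X j) (ProjPt.X_mem j) Nat.one_pos).hom)
  obtain ⟨a, rfl⟩ := (ConcreteCategory.bijective_of_isIso
    (Proj.awayToSection (CohB1.polyGrading n k) (MvPolynomial.X j))).2 t
  obtain ⟨m, b, hb, rfl⟩ := HomogeneousLocalization.Away.mk_surjective (CohB1.polyGrading n k) (ProjPt.X_mem j) a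
  let ψ : HomogeneousLocalization.Away (CohB1.polyGrading n k) (MvPolynomial.X j) →+* X.functionField :=
    ((Proj.awayToSection (CohB1.polyGrading n k) (MvPolynomial.X j)) ≫ r.appLE (chartD k j) W hW ≫
      X.presheaf.germ W _ hη).hom
  show ψ _ ∈ _
  rw [ProjPt.mk_eq_eval, MvPolynomial.map_eval₂Hom]
  have hc : ∀ c, (ψ.comp (ProjPt.cst j)) c = algebraMap k X.functionField c := fun c => by
    refine Eq.trans ?_ (germ_const k hη c)
    show X.presheaf.germ W _ hη (r.appLE (chartD k j) W hW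
      ((Proj.awayToSection (CohB1.polyGrading n k) (MvPolynomial.X j)).hom (ProjPt.cst j c))) = _
    rw [← toSpec_res_cst k j c, ← CommRingCat.comp_apply ((CohB1.ProjSpace.toSpec n k).appLE _ _ _),
      Scheme.Hom.appLE_comp_appLE]
    simp only [hr]
  induction b using MvPolynomial.induction_on' with
  | monomial d c =>
    rw [MvPolynomial.eval₂Hom_monomial, hc]
    exact mul_mem (IntermediateField.algebraMap_mem _ c)
      (prod_mem fun i _ => pow_mem (IntermediateField.subset_adjoin k s (hs i)) _)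
  | add p q hp hq =>
    rw [map_add]
    have : ∀ x : MvPolynomial (Fin (n + 1)) k, MvPolynomial.eval₂Hom (ψ.comp (ProjPt.cst j))
        (fun i => ψ (ProjPt.crd j i)) x ∈ IntermediateField.adjoin k s := fun x => by
      induction x using MvPolynomial.induction_on with
      | C c => rw [MvPolynomial.eval₂Hom_C, hc]; exact IntermediateField.algebraMap_mem _ c
      | add p q hp hq => rw [map_add]; exact add_mem hp hq
      | mul_X p i hp => rw [map_mul, MvPolynomial.eval₂Hom_X']; exact mul_mem hp (IntermediateField.subset_adjoin k s (hs i))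
    exact add_mem (this p) (this q)

/-- The coordinate sections of the map. -/
def mapSec (i : Fin (n + 1)) : Γ((Scheme.Modules.pullback r).obj (Twist.twistProjSpace n k 1), ⊤) :=
  ProjUP.pullSec r (Twist.twistProjSpace n k 1) (ProjUP.coord n k i)

variable (hdim : topologicalKrullDim X = 1)

include hr in
/-- The functions of a map to projective space. -/
theorem exists_functions_of_map :
    ∃ (D : FunFld.Divisor k X.functionField) (f : Fin (n + 1) → X.functionField),
      HasDiv k hdim ((Scheme.Modules.pullback r).obj (Twist.twistProjSpace n k 1)) D ∧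
      (∀ c : Fin (n + 1) → k, ∑ i, c i • f i = 0 → OmegaSh.pullSect r (Twist.twistProjSpace n k 1) ⊤
        (∑ i, (CohB1.ProjSpace.toSpec n k).appTop ((Scheme.ΓSpecIso (CommRingCat.of k)).inv (c i)) •
          ProjUP.coord n k i : Γ(Twist.twistProjSpace n k 1, ⊤)) = 0) ∧
      FFLib.IsBpfSeries D (Submodule.span k (Set.range f)) ∧
      ∀ (i j : Fin (n + 1)) (W : X.Opens) (h : W ≤ r ⁻¹ᵁ chartD k j) (hη : genericPoint X ∈ W),
        f j ≠ 0 ∧
        (X.presheaf.germ W _ hη (ProjUPX.ratioOf r (ProjPt.X_mem i) (ProjPt.X_mem j) h) : X.functionField) =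
          f i / f j := by
  have hK := (CurveFF.isFunctionField k X hdim).1
  set M := (Scheme.Modules.pullback r).obj (Twist.twistProjSpace n k 1) with hMdef
  have hM : PicF.IsInvertible M := PicClLib.isInvertible_pullback r (isInvertible_O1 k n)
  obtain ⟨U₀, h₀, e₀, he₀⟩ := InvX.exists_frame hM (genericPoint X)
  let σ : Fin (n + 1) → Γ(M, ⊤) := mapSec k r
  have htop : genericPoint X ∈ (⊤ : X.Opens) := trivial
  set f : Fin (n + 1) → X.functionField := fun i => CurveFF.ratio he₀ h₀ htop (σ i) with hf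
  have hτ : ∀ i, (Iso.refl M).hom.app ⊤ (ProjUP.pullSec r (Twist.twistProjSpace n k 1) (ProjUP.coord n k i)) = σ i :=
    fun i => rfl
  have hpre : ∀ i, r ⁻¹ᵁ chartD k i = H23.TrivBasic.locus (σ i) := fun i =>
    AmpleEmbed.preimage_chart r (Iso.refl M) i (hτ i)
  have hfr : ∀ i, InvX.IsFrame (res M (le_top : r ⁻¹ᵁ chartD k i ≤ ⊤) (σ i)) := fun i =>
    H23.TrivBasic.isFrame_res_of_le_locus (hpre i).le
  have hres : ∀ i (hη : genericPoint X ∈ r ⁻¹ᵁ chartD k i),
      CurveFF.ratio he₀ h₀ hη (res M (le_top : r ⁻¹ᵁ chartD k i ≤ ⊤) (σ i)) = f i := fun i hη =>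
    CurveFF.ratio_eq he₀ (by
      show CurveFF.ratio he₀ h₀ htop (σ i) • _ = _
      rw [CurveFF.ratio_spec, CurveFF.gM_res])
  refine ⟨CurveFF.divisor k hdim hM he₀ h₀, f, HasDiv.of_frame k hdim hM he₀ h₀, ?_, ⟨?_, fun P => ?_⟩, ?_⟩
  · intro c hc
    let sP : Γ(Twist.twistProjSpace n k 1, ⊤) :=
      ∑ i, (CohB1.ProjSpace.toSpec n k).appTop ((Scheme.ΓSpecIso (CommRingCat.of k)).inv (c i)) • ProjUP.coord n k i
    refine CurveFF.ext_gM hM (W := ⊤) htop ?_
    show CurveFF.gM (U := (⊤ : X.Opens)) htop (OmegaSh.pullSect r (Twist.twistProjSpace n k 1) ⊤ sP) = _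
    refine Eq.trans ?_ (map_zero (CurveFF.gM htop)).symm
    have h1 : OmegaSh.pullSect r (Twist.twistProjSpace n k 1) ⊤ sP =
        ∑ i, (show Γ(X, ⊤) from r.app ⊤ ((CohB1.ProjSpace.toSpec n k).appTop ((Scheme.ΓSpecIso (CommRingCat.of k)).inv (c i)))) • σ i := by
      refine (map_sum (((Scheme.Modules.pullbackPushforwardAdjunction r).unit.app _).app ⊤).hom _ _).trans ?_
      exact Finset.sum_congr rfl fun i _ => OmegaSh.pullSect_smul r _ ⊤ _ _
    refine (congrArg (CurveFF.gM (U := (⊤ : X.Opens)) htop) h1).trans ?_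
    rw [map_sum]
    refine Eq.trans (Finset.sum_congr rfl fun i _ => ?_) (Finset.sum_smul (s := Finset.univ)
      (f := fun i => ((c i • f i : X.functionField) : X.presheaf.stalk (genericPoint X))) (x := CurveFF.gM h₀ e₀)).symm
      |>.trans (by rw [show (∑ i, (c i • f i : X.functionField) : X.presheaf.stalk (genericPoint X)) = 0 from hc]; exact zero_smul _ _)
    have hg : (X.presheaf.germ ⊤ _ htop (r.app ⊤ ((CohB1.ProjSpace.toSpec n k).appTop
        ((Scheme.ΓSpecIso (CommRingCat.of k)).inv (c i)))) : X.functionField) = algebraMap k X.functionField (c i) := by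
      refine Eq.trans ?_ (rfl : X.presheaf.germ ⊤ _ htop ((X ↘ Spec (CommRingCat.of k)).appTop
        ((Scheme.ΓSpecIso (CommRingCat.of k)).inv (c i))) = algebraMap k X.functionField (c i))
      rw [← hr, Scheme.Hom.comp_appTop]
      rfl
    show CurveFF.gM htop ((show Γ(X, ⊤) from r.app ⊤ _) • σ i) = _
    rw [CurveFF.gM_smul, Algebra.smul_def, ← hg, mul_smul]
    show _ = _ • CurveFF.ratio he₀ h₀ htop (σ i) • _
    rw [CurveFF.ratio_spec]
  · refine Submodule.span_le.mpr ?_
    rintro _ ⟨i, rfl⟩ P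
    obtain ⟨z, rfl⟩ := (CurveFF.pl k X hdim).surjective P
    have hU := eta_mem (CurveFF.mem_chartU hM z)
    rw [CurveFF.exp_divisor k hdim hM he₀ h₀ (CurveFF.isFrame_chartE hM z) hU (CurveFF.mem_chartU hM z)]
    show (CurveFF.pl k X hdim z).1 (CurveFF.ratio he₀ h₀ htop (σ i)) ≤ _
    rw [CurveFF.ratio_trans he₀ h₀ (CurveFF.isFrame_chartE hM z) hU, map_mul]
    exact mul_le_of_le_one_left' ((CurveFF.inR_iff k X hdim z _).1
      (CurveFF.inR_ratio (CurveFF.isFrame_chartE hM z) hU _ (σ i) (CurveFF.mem_chartU hM z) trivial))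
  · obtain ⟨z, rfl⟩ := (CurveFF.pl k X hdim).surjective P
    obtain ⟨j, hj⟩ := Opens.mem_iSup.1 ((AmpleEmbed.iSup_basicOpen_X n k).ge (trivial : r z.1 ∈ (⊤ : Opens _)))
    have hη : genericPoint X ∈ r ⁻¹ᵁ chartD k j := eta_mem (show z.1 ∈ r ⁻¹ᵁ chartD k j from hj)
    have hne : f j ≠ 0 := by
      rw [← hres j hη]; exact CurveFF.ratio_ne_zero he₀ h₀ (hfr j) hη
    refine ⟨f j, Submodule.subset_span ⟨j, rfl⟩, hne, ?_⟩
    have h1 := CurveFF.exp_divisor k hdim hM he₀ h₀ (hfr j) hη (z := z) hj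
    rw [hres j hη, FFLib.val_eq_exp _ hne, WithZero.exp_inj] at h1
    omega
  · intro i j W h hη
    have h1 := congrArg (CurveFF.gM hη) (ProjUPX.res_pullG r (ProjPt.X_mem (R := k) i) (ProjPt.X_mem j) h)
    rw [CurveFF.gM_smul, CurveFF.gM_res, CurveFF.gM_res] at h1
    have hne : f j ≠ 0 := by
      rw [← hres j (h hη)]; exact CurveFF.ratio_ne_zero he₀ h₀ (hfr j) (h hη)
    refine ⟨hne, ?_⟩
    rw [eq_div_iff hne]
    refine (CurveFF.ratio_eq he₀ ?_).symm
    rw [mul_smul]
    show _ • CurveFF.ratio he₀ h₀ htop (σ j) • _ = _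
    rw [CurveFF.ratio_spec]
    exact h1.symm

include hr in
/-- The series of a non-degenerate map. -/
theorem exists_series_of_map
    (hnd : ∀ s : LinSer.Sect (CohB1.ProjSpace n k) (Twist.twistProjSpace n k 1), s ≠ 0 →
      OmegaSh.pullSect r (Twist.twistProjSpace n k 1) ⊤ s ≠ 0) :
    ∃ (D : FunFld.Divisor k X.functionField) (f : Fin (n + 1) → X.functionField),
      HasDiv k hdim ((Scheme.Modules.pullback r).obj (Twist.twistProjSpace n k 1)) D ∧
      LinearIndependent k f ∧ FFLib.IsBpfSeries D (Submodule.span k (Set.range f)) ∧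
      ∀ (i j : Fin (n + 1)) (W : X.Opens) (h : W ≤ r ⁻¹ᵁ chartD k j) (hη : genericPoint X ∈ W),
        (X.presheaf.germ W _ hη (ProjUPX.ratioOf r (ProjPt.X_mem i) (ProjPt.X_mem j) h) : X.functionField) =
          f i / f j := by
  obtain ⟨D, f, hD, hker, hb, hrat⟩ := exists_functions_of_map k r hr hdim
  refine ⟨D, f, hD, Fintype.linearIndependent_iff.2 fun c hc => linearIndependent_coord k (n := n) c ?_, hb,
    fun i j W h hη => (hrat i j W h hη).2⟩
  by_contra hne
  exact hnd _ hne (hker c hc)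

end Groth.Agent.LS17
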