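import Groth.Agent.GrothVanish.Main
import Groth.Agent.Lib.RegEpiGen
import Groth.Agent.Lib.CurveTensor
import Groth.Agent.Lib.CurveVanish
import Groth.Agent.CurveCohLib.PointTwist
import Groth.Agent.CurveVA.Sky
import Groth.Agent.SBBundle.Types
import Groth.Agent.SurfInt.Ideal
import Groth.Agent.KFlatLib.Scheme.TensorAssoc

/-! `H¹` is right exact on a one-dimensional proper scheme; consequences for generated modules. -/

noncomputable section

set_option linter.style.haveILetI false
set_option linter.unusedSectionVars false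
set_option backward.isDefEq.respectTransparency false
set_option backward.isDefEq.respectTransparency.types false

universe u

open CategoryTheory CategoryTheory.Limits AlgebraicGeometry TopologicalSpace Opposite MonoidalCategory
open Groth.Agent.PnCoh.Finite (mapLin)

namespace Groth.Agent.LS17.CurveH1

open Groth.Agent

variable {X : Scheme.{u}}

theorem shortExact_kernel {M N : X.Modules} (g : M ⟶ N) [Epi g] :
    (ShortComplex.mk (kernel.ι g) g (kernel.condition g)).ShortExact :=
  { exact := ShortComplex.exact_of_f_is_kernel _ (kernelIsKernel g) }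

variable (k : Type u) [Field k] [X.Over (Spec (CommRingCat.of k))]
  [IsProper (X ↘ Spec (CommRingCat.of k))]

include k in
theorem subsingleton_HH_two (hdim : topologicalKrullDim X ≤ 1) (M : X.Modules) (n : ℕ) :
    Subsingleton (Coh.HH X M (n + 2)) := by
  haveI := CurveCohLib.isNoetherian_of_proper (k := k) (X := X)
  haveI : NoetherianSpace X.toPresheafedSpace.carrier := (inferInstance : NoetherianSpace X)
  exact GrothVanish.subsingleton_H_of_dim_lt (X := X.toPresheafedSpace.carrier) (d := 1)
    (by exact_mod_cast hdim) (Coh.toAb M) (by omega)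

include k in
/-- `H¹` of a quotient vanishes with `H¹`. -/
theorem subsingleton_H1_of_epi (hdim : topologicalKrullDim X ≤ 1) {M N : X.Modules} (g : M ⟶ N)
    [Epi g] (h : Subsingleton (Coh.HH X M 1)) : Subsingleton (Coh.HH X N 1) :=
  PnCoh.Finite.subsingleton_HH_X₃ (shortExact_kernel g) 1 h (subsingleton_HH_two k hdim _ 0)

include k in
/-- The middle term of a right exact sequence. -/
theorem subsingleton_H1_middle (hdim : topologicalKrullDim X ≤ 1) {S : ShortComplex X.Modules}
    (hS : S.Exact) [Epi S.g] (h₁ : Subsingleton (Coh.HH X S.X₁ 1))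
    (h₃ : Subsingleton (Coh.HH X S.X₃ 1)) : Subsingleton (Coh.HH X S.X₂ 1) :=
  haveI := hS.epi_kernelLift
  QCoh.subsingleton_HH_X₂ (shortExact_kernel S.g) 1
    (subsingleton_H1_of_epi k hdim (kernel.lift S.g S.f S.zero) h₁) h₃

omit [X.Over (Spec (CommRingCat.of k))] [IsProper (X ↘ Spec (CommRingCat.of k))] in
theorem isFinLocFree_tensorPow {E : X.Modules} (hE : FlatMod.IsFinLocFree E) :
    ∀ n : ℕ, FlatMod.IsFinLocFree (CohB1.tensorPow E n)
  | 0 => SBBundle.isFinLocFree_of_isInvertible CurveDeg.isInvertible_structureModule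
  | n + 1 => SBBundle.isFinLocFree_tensorMod (isFinLocFree_tensorPow hE n) hE

include k in
theorem exists_epi_sigma {E : X.Modules} (hE : Coh.IsCoh E) (hgg : Curv2.IsGloballyGenerated E) :
    ∃ (b : ℕ) (ψ : (∐ fun _ : Fin b => Coh.structureModule X) ⟶ E), Epi ψ := by
  haveI := CurveCohLib.finite_HH (k := k) hE 0
  obtain ⟨b, ψ, -, h⟩ := RegEpi.exists_sigma_hom k E
  exact ⟨b, ψ, h hgg⟩

include k in
/-- The vanishing of `H¹(E ⊗ W)` for a generated `E` follows from that of `H¹(W)`. -/
theorem subsingleton_H1_tensor (hdim : topologicalKrullDim X ≤ 1) {E : X.Modules} (hE : Coh.IsCoh E)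
    (hgg : Curv2.IsGloballyGenerated E) {W : X.Modules} (hW : Subsingleton (Coh.HH X W 1)) :
    Subsingleton (Coh.HH X (CohB1.tensorMod E W) 1) := by
  obtain ⟨b, ψ, hψ⟩ := exists_epi_sigma k hE hgg
  haveI := hψ
  let G := DCoh.tensorBi.flip.obj W
  let e : (∐ fun _ : Fin b => W) ≅ G.obj (∐ fun _ : Fin b => Coh.structureModule X) :=
    (Sigma.mapIso fun _ => (CurveTensor.structureTensorIso W).symm) ≪≫
      (PreservesCoproduct.iso G _).symm
  haveI : Epi (G.map ψ) := inferInstance
  exact subsingleton_H1_of_epi k hdim (e.hom ≫ G.map ψ)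
    (RegEpi.subsingleton_HH_sigma (fun _ : Fin b => W) 1 fun _ => hW)

include k in
theorem subsingleton_H1_of_gg (hdim : topologicalKrullDim X ≤ 1) {E : X.Modules} (hE : Coh.IsCoh E)
    (hgg : Curv2.IsGloballyGenerated E) (hg : Subsingleton (Coh.HH X (Coh.structureModule X) 1)) :
    Subsingleton (Coh.HH X E 1) := by
  obtain ⟨b, ψ, hψ⟩ := exists_epi_sigma k hE hgg
  haveI := hψ
  exact subsingleton_H1_of_epi k hdim ψ
    (RegEpi.subsingleton_HH_sigma (fun _ : Fin b => Coh.structureModule X) 1 fun _ => hg)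

omit [X.Over (Spec (CommRingCat.of k))] [IsProper (X ↘ Spec (CommRingCat.of k))] in
theorem gg_of_isGloballyGenerated {M : X.Modules} (h : Curv2.IsGloballyGenerated M) : Euler.GG M := by
  obtain ⟨ι, q, hq⟩ := h
  intro T g hg
  rw [← cancel_epi q, comp_zero]
  refine Sigma.hom_ext (f := fun _ : ι => SheafOfModules.unit X.ringCatSheaf) _ _ fun i => ?_
  rw [comp_zero]
  exact (Category.assoc _ _ _).symm.trans
    (hg (Sigma.ι (fun _ : ι => SheafOfModules.unit X.ringCatSheaf) i ≫ q))

omit [X.Over (Spec (CommRingCat.of k))] [IsProper (X ↘ Spec (CommRingCat.of k))] in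
/-- A middle term is generated if the ends are and `H¹` of the left end vanishes. -/
theorem gg_X₂ {S : ShortComplex X.Modules} (hS : S.ShortExact) (h₁ : Euler.GG S.X₁)
    (hH : Subsingleton (Coh.HH X S.X₁ 1)) (h₃ : Euler.GG S.X₃) : Euler.GG S.X₂ := by
  intro T g hg
  have hfg : S.f ≫ g = 0 := h₁ T _ fun s => by simpa using hg (s ≫ S.f)
  haveI := hS.epi_g
  obtain ⟨g', rfl⟩ : ∃ g', S.g ≫ g' = g := ⟨hS.exact.desc g hfg, hS.exact.g_desc _ _⟩
  rw [h₃ T g' fun s => ?_, Limits.comp_zero]
  obtain ⟨y, hy⟩ := QCoh.app_top_surjective_of_HH_one hS hH (RegEpi.one s)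
  have hs : InvX.ofSect y ≫ S.g = s := RegEpi.hom_eq_of_one_eq _ _ (by
    rw [← hy]
    exact congrArg (S.g.app ⊤) (RegEpi.one_ofSect y))
  rw [← hs, Category.assoc]
  exact hg _

include k in
/-- The middle of a right exact sequence of coherent modules. -/
theorem gg_middle (hdim : topologicalKrullDim X ≤ 1) (hg : Subsingleton (Coh.HH X (Coh.structureModule X) 1))
    {S : ShortComplex X.Modules} (hS : S.Exact) [Epi S.g] (hc : Coh.IsCoh S.X₁)
    (h₁ : Curv2.IsGloballyGenerated S.X₁) (h₃ : Euler.GG S.X₃) : Curv2.IsGloballyGenerated S.X₂ := by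
  haveI := hS.epi_kernelLift
  refine Euler.GG.isGloballyGenerated
    (gg_X₂ (S := ShortComplex.mk (kernel.ι S.g) S.g (kernel.condition S.g)) (shortExact_kernel S.g) ?_ ?_ h₃)
  · show Euler.GG (kernel S.g)
    intro T g hT
    rw [← cancel_epi (kernel.lift S.g S.f S.zero), comp_zero]
    exact gg_of_isGloballyGenerated h₁ T _ fun s => by simpa using hT (s ≫ kernel.lift S.g S.f S.zero)
  · exact subsingleton_H1_of_epi k hdim (kernel.lift S.g S.f S.zero)
      (subsingleton_H1_of_gg k hdim hc h₁ hg)

omit [X.Over (Spec (CommRingCat.of k))] [IsProper (X ↘ Spec (CommRingCat.of k))] in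
theorem gg_structureModule : Curv2.IsGloballyGenerated (Coh.structureModule X) :=
  Euler.GG.isGloballyGenerated fun _ g hg => (Category.id_comp g).symm.trans (hg (𝟙 _))

include k in
theorem gg_tensor {E F : X.Modules} (hE : Curv2.IsGloballyGenerated E)
    (hF : Curv2.IsGloballyGenerated F) (hEc : Coh.IsCoh E) :
    Curv2.IsGloballyGenerated (CohB1.tensorMod E F) := by
  obtain ⟨b, ψ, hψ⟩ := exists_epi_sigma k hEc hE
  haveI := hψ
  refine Euler.GG.isGloballyGenerated fun T g hg => ?_
  let G := DCoh.tensorBi.flip.obj F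
  let e : (∐ fun _ : Fin b => F) ≅ G.obj (∐ fun _ : Fin b => Coh.structureModule X) :=
    (Sigma.mapIso fun _ => (CurveTensor.structureTensorIso F).symm) ≪≫
      (PreservesCoproduct.iso G _).symm
  haveI : Epi (G.map ψ) := inferInstance
  rw [← cancel_epi (e.hom ≫ G.map ψ), comp_zero]
  refine Sigma.hom_ext _ _ fun i => ?_
  rw [comp_zero]
  refine gg_of_isGloballyGenerated hF T _ fun s => ?_
  exact (congrArg (s ≫ ·) (Category.assoc _ _ _).symm).trans ((Category.assoc _ _ _).symm.trans (hg _))

include k in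
theorem gg_tensorPow {E : X.Modules} (hE : FlatMod.IsFinLocFree E) (hgg : Curv2.IsGloballyGenerated E) :
    ∀ n : ℕ, Curv2.IsGloballyGenerated (CohB1.tensorPow E n)
  | 0 => gg_structureModule
  | n + 1 => by
      haveI := CurveCohLib.isNoetherian_of_proper (k := k) (X := X)
      exact gg_tensor k (gg_tensorPow hE hgg n) hgg
        (CurveDeg.isCoh_of_isFinLocFree (isFinLocFree_tensorPow hE n))

include k in
/-- The ideal of a rational point has no first cohomology. -/
theorem subsingleton_H1_ptMod [IsAlgClosed k] (hg : Subsingleton (Coh.HH X (Coh.structureModule X) 1))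
    (p : X) (hp : IsClosed ({p} : Set X)) :
    Subsingleton (Coh.HH X (CurvePoint.ptMod p hp) 1) := by
  haveI := CurveCohLib.isNoetherian_of_proper (k := k) (X := X)
  let I := CurvePoint.ptIdeal p hp
  let q := ClSub.toSubscheme I
  have hQ : Coh.IsCoh (ClSub.quotMod I) := ParShLib.isCoh_quotMod I
  haveI := CurveCohLib.finite_HH (k := k) hQ 0
  have hone : Module.finrank k (Coh.HH X (ClSub.quotMod I) 0) = 1 := by
    have h := CurveVA.euler_quot_pt k hp
    rw [CurveCohLib.euler_eq_finrank_zero hQ (fun x hx => Set.mem_singleton_iff.1 (CurvePoint.support_quot_subset p hp hx) ▸ hp)] at h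
    exact_mod_cast h
  have hne : mapLin k q 0 ≠ 0 := fun h0 => by
    have hq : q = 0 := (RegEpi.evalOneLin_bijective k _).1
      ((show RegEpi.evalOneLin k _ q = 0 from LinearMap.congr_fun h0 _).trans (map_zero _).symm)
    haveI := CurvePoint.epi_toSubscheme I
    have hz : IsZero (ClSub.quotMod I) := IsZero.of_epi_eq_zero q hq
    exact CurvePoint.not_subsingleton_stalk p hp
      (ModuleCat.subsingleton_of_isZero (Functor.map_isZero (DerSch.stalkFunctor X p) hz))
  have hsurj : Function.Surjective (mapLin k q 0) := by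
    rw [← LinearMap.range_eq_top]
    by_contra hne'
    have hlt := Submodule.finrank_lt hne'
    rw [hone] at hlt
    exact hne (LinearMap.range_eq_bot.1 (Submodule.finrank_eq_zero.1 (Nat.lt_one_iff.1 hlt)))
  have hS := SurfInt.idealSeq_shortExact I
  refine subsingleton_of_forall_eq 0 fun x => ?_
  have hx : x ∈ LinearMap.ker (mapLin k (SurfInt.idealSeq I).f (0 + 1)) :=
    LinearMap.mem_ker.2 (hg.elim _ _)
  rw [CurveCohLib.ker_mapLin_f_succ k hS 0] at hx
  obtain ⟨y, rfl⟩ := hx
  obtain ⟨z, hz⟩ := hsurj y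
  exact LinearMap.mem_ker.1 ((CurveCohLib.ker_deltaLin k hS 0).ge ⟨z, hz⟩)

end Groth.Agent.LS17.CurveH1
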