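import Groth.Agent.CurveFF.Facts
import Groth.Agent.LS17.Lin

/-! Invertible modules on a smooth proper curve and divisor classes of its function field. -/

noncomputable section

set_option linter.style.haveILetI false
set_option linter.unusedSectionVars false
set_option backward.isDefEq.respectTransparency false
set_option backward.isDefEq.respectTransparency.types false

universe u

open CategoryTheory CategoryTheory.Limits AlgebraicGeometry TopologicalSpace Opposite
open Groth.Agent.CurveCohLib.Polar (InR gη eta_mem)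

namespace Groth.Agent.LS17

open Groth.Agent.CurveFF
open Groth.Agent.AModX (res resR)

attribute [local instance] CurveFF.ffAlg

variable (k : Type u) [Field k] [IsAlgClosed k] {X : Scheme.{u}} [X.Over (Spec (CommRingCat.of k))]
  [IsIntegral X] [IsProper (X ↘ Spec (CommRingCat.of k))] [Smooth (X ↘ Spec (CommRingCat.of k))]
  (hdim : topologicalKrullDim X = 1)


/-- `D` is in the divisor class of the invertible module `M`. -/
def HasDiv (M : X.Modules) (D : FunFld.Divisor k X.functionField) : Prop :=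
  ∃ (hM : PicF.IsInvertible M) (U₀ : X.Opens) (e₀ : Γ(M, U₀)) (he₀ : InvX.IsFrame e₀)
    (h₀ : genericPoint X ∈ U₀), Lin (divisor k hdim hM he₀ h₀) D

variable {M N : X.Modules}

theorem HasDiv.inv {D : FunFld.Divisor k X.functionField} (h : HasDiv k hdim M D) :
    PicF.IsInvertible M := h.1

/-- Changing the frame changes the divisor by a principal one. -/
theorem lin_divisor (hM : PicF.IsInvertible M) {U₀ U₁ : X.Opens} {e₀ : Γ(M, U₀)}
    (he₀ : InvX.IsFrame e₀) (h₀ : genericPoint X ∈ U₀) {e₁ : Γ(M, U₁)} (he₁ : InvX.IsFrame e₁)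
    (h₁ : genericPoint X ∈ U₁) :
    Lin (divisor k hdim hM he₀ h₀) (divisor k hdim hM he₁ h₁) := by
  have hK := (isFunctionField k X hdim).1
  refine ⟨ratio he₀ h₀ h₁ e₁, ratio_ne_zero he₀ h₀ he₁ h₁, ?_⟩
  ext P
  obtain ⟨z, rfl⟩ := (pl k X hdim).surjective P
  have hU := eta_mem (mem_chartU hM z)
  have e0 := exp_divisor k hdim hM he₀ h₀ (isFrame_chartE hM z) hU (mem_chartU hM z)
  have e1 := exp_divisor k hdim hM he₁ h₁ (isFrame_chartE hM z) hU (mem_chartU hM z)
  rw [ratio_trans he₀ h₀ he₁ h₁ hU, map_mul, ← e1,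
    FFLib.val_eq_exp _ (ratio_ne_zero he₀ h₀ he₁ h₁), ← WithZero.exp_add, WithZero.exp_inj] at e0
  rw [Finsupp.add_apply, FFLib.div_apply hK]
  omega

theorem exists_hasDiv (hM : PicF.IsInvertible M) : ∃ D, HasDiv k hdim M D := by
  obtain ⟨U, hU, e, he⟩ := InvX.exists_frame hM (genericPoint X)
  exact ⟨_, hM, U, e, he, hU, Lin.refl (isFunctionField k X hdim).1 _⟩

theorem HasDiv.of_frame (hM : PicF.IsInvertible M) {U₀ : X.Opens} {e₀ : Γ(M, U₀)}
    (he₀ : InvX.IsFrame e₀) (h₀ : genericPoint X ∈ U₀) :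
    HasDiv k hdim M (divisor k hdim hM he₀ h₀) :=
  ⟨hM, U₀, e₀, he₀, h₀, Lin.refl (isFunctionField k X hdim).1 _⟩

theorem HasDiv.congr {D E : FunFld.Divisor k X.functionField} (h : HasDiv k hdim M D) (hl : Lin D E) :
    HasDiv k hdim M E := by
  obtain ⟨hM, U, e, he, hU, hl'⟩ := h
  exact ⟨hM, U, e, he, hU, hl'.trans (isFunctionField k X hdim).1 hl⟩

theorem HasDiv.unique {D E : FunFld.Divisor k X.functionField} (h : HasDiv k hdim M D)
    (h' : HasDiv k hdim M E) : Lin D E := by
  have hK := (isFunctionField k X hdim).1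
  obtain ⟨hM, U, e, he, hU, hl⟩ := h
  obtain ⟨hM', U', e', he', hU', hl'⟩ := h'
  exact (hl.symm hK).trans hK ((lin_divisor k hdim hM he hU he' hU').trans hK hl')

theorem HasDiv.map_iso {D : FunFld.Divisor k X.functionField} (h : HasDiv k hdim M D) (φ : M ≅ N)
    (hN : PicF.IsInvertible N) : HasDiv k hdim N D := by
  obtain ⟨hM, U, e, he, hU, hl⟩ := h
  exact ⟨hN, U, _, he.map_iso φ, hU, by rw [divisor_iso k hdim hM he hU hN φ]; exact hl⟩

theorem HasDiv.h0 {D : FunFld.Divisor k X.functionField} (h : HasDiv k hdim M D) :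
    Module.finrank k (Coh.HH X M 0) = FunFld.ell D := by
  obtain ⟨hM, U, e, he, hU, hl⟩ := h
  rw [finrank_h0_eq_ell k hdim hM he hU, hl.ell_eq (isFunctionField k X hdim).1]

theorem HasDiv.deg {D : FunFld.Divisor k X.functionField} (h : HasDiv k hdim M D) :
    Curv2.deg k X M 1 = D.deg := by
  obtain ⟨hM, U, e, he, hU, hl⟩ := h
  rw [← deg_divisor k hdim hM he hU, hl.deg_eq (isFunctionField k X hdim).1]

theorem HasDiv.tensor {D E : FunFld.Divisor k X.functionField} (h : HasDiv k hdim M D)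
    (h' : HasDiv k hdim N E) : HasDiv k hdim (CohB1.tensorMod M N) (D + E) := by
  have hK := (isFunctionField k X hdim).1
  obtain ⟨hM, U, e, he, hU, hl⟩ := h
  obtain ⟨hN, U', e', he', hU', hl'⟩ := h'
  refine ⟨InvX.isInvertible_tensorMod hM hN, U ⊓ U', _,
    InvX.isFrame_tmul (he.res inf_le_left) (he'.res inf_le_right), ⟨hU, hU'⟩, ?_⟩
  rw [divisor_tensor k hdim hM (he.res inf_le_left) ⟨hU, hU'⟩ hN (he'.res inf_le_right),
    divisor_res k hdim hM he hU inf_le_left ⟨hU, hU'⟩, divisor_res k hdim hN he' hU' inf_le_right ⟨hU, hU'⟩]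
  exact hl.add hK hl'

theorem hasDiv_structure : HasDiv k hdim (Coh.structureModule X) 0 := by
  have h1 := InvX.isFrame_one (X := X) ⊤
  have hO : PicF.IsInvertible (Coh.structureModule X) := CurveDeg.isInvertible_structureModule
  refine ⟨hO, ⊤, _, h1, trivial, ?_⟩
  have : divisor k hdim hO h1 (show genericPoint X ∈ (⊤ : X.Opens) from trivial) = 0 := by
    ext P
    obtain ⟨z, rfl⟩ := (pl k X hdim).surjective P
    rw [Finsupp.zero_apply]
    show ordFun k hdim hO h1 (show genericPoint X ∈ (⊤ : X.Opens) from trivial)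
      ((pl k X hdim).symm (pl k X hdim z)) = 0
    exact ordFun_eq_zero k hdim hO h1 _ trivial
  rw [this]
  exact Lin.refl (isFunctionField k X hdim).1 _

theorem HasDiv.tensorPow {D : FunFld.Divisor k X.functionField} (h : HasDiv k hdim M D) :
    ∀ n : ℕ, HasDiv k hdim (CohB1.tensorPow M n) (n • D)
  | 0 => by rw [zero_nsmul]; exact hasDiv_structure k hdim
  | n + 1 => by rw [succ_nsmul]; exact (h.tensorPow n).tensor k hdim h

theorem HasDiv.inverse {D E : FunFld.Divisor k X.functionField} (h : HasDiv k hdim M D)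
    (h' : HasDiv k hdim N E) (e : CohB1.tensorMod M N ≅ Coh.structureModule X) : Lin E (-D) := by
  have hK := (isFunctionField k X hdim).1
  have h1 := (h.tensor k hdim h').map_iso k hdim e CurveDeg.isInvertible_structureModule
  have h2 := (h1.unique k hdim (hasDiv_structure k hdim)).sub hK (Lin.refl hK D)
  rwa [add_sub_cancel_left, zero_sub] at h2

theorem exists_canonical_hasDiv : ∃ C, FunFld.IsCanonical k X.functionField C ∧
    HasDiv k hdim (Ωm k X) C := by
  have hΩ := isInvertible_Ωm k X hdim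
  obtain ⟨U, hU, e, he⟩ := InvX.exists_frame hΩ (genericPoint X)
  exact ⟨_, isCanonical_divisor k X hdim he hU, HasDiv.of_frame k hdim hΩ he hU⟩

theorem HasDiv.rr {D C : FunFld.Divisor k X.functionField} (h : HasDiv k hdim M D)
    (hC : FunFld.IsCanonical k X.functionField C) :
    Module.finrank k (Coh.HH X M 1) = FunFld.ell (C - D) := by
  have hK := isFunctionField k X hdim
  have h1 := CurveCohLib.Clifford.deg_eq k hdim h.1
  have h2 := FFLib.riemann_roch hK hC D
  rw [h.h0 k hdim, h.deg k hdim] at h1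
  rw [genus_eq k hdim] at h2
  omega

/-- A nonzero map gives an effective difference. -/
theorem lin_of_hom {D E : FunFld.Divisor k X.functionField} (hD : HasDiv k hdim M D)
    (hE : HasDiv k hdim N E) (φ : M ⟶ N) (hφ : φ ≠ 0) : 0 < FunFld.ell (E - D) := by
  have hK := (isFunctionField k X hdim).1
  obtain ⟨M', hM', -, ⟨e⟩⟩ := CurveDuality.exists_inverse_deg k hdim hD.1
  obtain ⟨D', hD'⟩ := exists_hasDiv k hdim hM'
  have hl := hD.inverse k hdim hD' e
  have hT : HasDiv k hdim ((DCoh.tensorBi.obj M').obj N) (E - D) :=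
    (hD'.tensor k hdim hE).congr k hdim (by
      simpa [sub_eq_add_neg, add_comm] using hl.add hK (Lin.refl hK E))
  have e' : (DCoh.tensorBi.obj M').obj M ≅ Coh.structureModule X := CurveTensor.commIso M' M ≪≫ e
  let ψ : Coh.structureModule X ⟶ (DCoh.tensorBi.obj M').obj N :=
    e'.inv ≫ (DCoh.tensorBi.obj M').map φ
  have hψ : ψ ≠ 0 := fun h0 => hφ (CurveRR.eq_zero_of_map_eq_zero e φ
    ((cancel_epi e'.inv).1 (h0.trans comp_zero.symm)))
  by_contra hcon
  have h0 : Module.finrank k (Coh.HH X ((DCoh.tensorBi.obj M').obj N) 0) = 0 := by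
    rw [hT.h0 k hdim]; omega
  haveI := CurveCohLib.isNoetherian_of_proper (k := k) (X := X)
  haveI := CurveCohLib.finite_HH (k := k) (CurveDeg.isCoh_of_isInvertible hT.1) 0
  haveI := (Module.finrank_zero_iff (R := k) (M := Coh.HH X ((DCoh.tensorBi.obj M').obj N) 0)).1 h0
  refine hψ (CurveRR.hom_ext_one ?_)
  exact (Sheaf.H.equiv₀ (Coh.toAb ((DCoh.tensorBi.obj M').obj N)) isTerminalTop).symm.injective
    (Subsingleton.elim _ _)

/-- Classes of linearly equivalent divisors are isomorphic. -/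
theorem nonempty_iso {D : FunFld.Divisor k X.functionField} (hM : HasDiv k hdim M D)
    (hN : HasDiv k hdim N D) : Nonempty (M ≅ N) := by
  have hK := (isFunctionField k X hdim).1
  obtain ⟨M', hM', -, ⟨e⟩⟩ := CurveDuality.exists_inverse_deg k hdim hM.1
  obtain ⟨D', hD'⟩ := exists_hasDiv k hdim hM'
  have hl := hM.inverse k hdim hD' e
  have hT : HasDiv k hdim ((DCoh.tensorBi.obj M').obj N) 0 :=
    (hD'.tensor k hdim hN).congr k hdim (by simpa using hl.add hK (Lin.refl hK D))
  obtain ⟨s, hs⟩ := CurveRR.exists_hom_ne_zero k (P := (DCoh.tensorBi.obj M').obj N)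
    (by rw [hT.h0 k hdim, FFLib.ell_zero (isFunctionField k X hdim)]; omega)
  haveI := (CurveDeg.deg_le_and_isIso k hdim.le CurveDeg.isInvertible_structureModule hT.1 s hs).2
    (by rw [CurveDeg.deg_structureModule, hT.deg k hdim, FFLib.Divisor.deg_zero])
  exact ⟨(KFlatLib.tensorUnitIso M).symm ≪≫ (DCoh.tensorBi.obj M).mapIso (asIso s) ≪≫
    (CurveRR.cancelIso e).app N⟩

end Groth.Agent.LS17
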