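import Groth.Agent.LS17.Noether
import Groth.Agent.LS17.Bridge
import Groth.Agent.CurveFF.Omega
import Groth.Agent.InvX.Tensor
import Groth.Agent.CurveCohLib.Hopf

/-! Multiplication of sections on a curve. -/

noncomputable section

set_option linter.style.haveILetI false
set_option linter.unusedSectionVars false
set_option backward.isDefEq.respectTransparency false
set_option backward.isDefEq.respectTransparency.types false

universe u

open CategoryTheory CategoryTheory.Limits AlgebraicGeometry TopologicalSpace Opposite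
open Groth.Agent.CurveCohLib.Polar (InR gη eta_mem)
open Groth.Agent.AModX (res resR)

namespace Groth.Agent.LS17

open Groth.Agent.CurveFF

attribute [local instance] CurveFF.ffAlg

section
variable {X : Scheme.{u}} [IsIntegral X] {M N : X.Modules}

theorem ratio_add {U₀ U : X.Opens} {e₀ : Γ(M, U₀)} (he₀ : InvX.IsFrame e₀) (h₀ : genericPoint X ∈ U₀)
    (hU : genericPoint X ∈ U) (s t : Γ(M, U)) :
    CurveFF.ratio he₀ h₀ hU (s + t) = CurveFF.ratio he₀ h₀ hU s + CurveFF.ratio he₀ h₀ hU t :=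
  CurveFF.ratio_eq he₀ (by rw [add_smul, CurveFF.ratio_spec, CurveFF.ratio_spec, map_add])

theorem eq_of_ratio_eq (hM : PicF.IsInvertible M) {U₀ U : X.Opens} {e₀ : Γ(M, U₀)} (he₀ : InvX.IsFrame e₀)
    (h₀ : genericPoint X ∈ U₀) (hU : genericPoint X ∈ U) {s t : Γ(M, U)}
    (h : CurveFF.ratio he₀ h₀ hU s = CurveFF.ratio he₀ h₀ hU t) : s = t := by
  refine CurveFF.ext_gM hM hU ?_
  rw [← CurveFF.ratio_spec he₀ h₀ hU s, h, CurveFF.ratio_spec]

theorem ratio_tmul {U₀ U : X.Opens} {e₀ : Γ(M, U₀)} (he₀ : InvX.IsFrame e₀) {f₀ : Γ(N, U₀)} (hf₀ : InvX.IsFrame f₀)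
    (h₀ : genericPoint X ∈ U₀) (hU : genericPoint X ∈ U) (s : Γ(M, U)) (t : Γ(N, U)) :
    CurveFF.ratio (InvX.isFrame_tmul he₀ hf₀) h₀ hU (InvX.tmul s t) =
      CurveFF.ratio he₀ h₀ hU s * CurveFF.ratio hf₀ h₀ hU t := by
  have hW : genericPoint X ∈ U₀ ⊓ U := ⟨h₀, hU⟩
  obtain ⟨g, hg, hgr⟩ := CurveFF.exists_coord_ratio he₀ (inf_le_left : U₀ ⊓ U ≤ U₀) hW (res M inf_le_right s)
  obtain ⟨g', hg', hgr'⟩ := CurveFF.exists_coord_ratio hf₀ (inf_le_left : U₀ ⊓ U ≤ U₀) hW (res N inf_le_right t)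
  have e1 : CurveFF.ratio he₀ h₀ hU s = X.presheaf.germ (U₀ ⊓ U) _ hW g := by
    rw [← hgr]; exact CurveFF.ratio_eq he₀ (by rw [CurveFF.ratio_spec, CurveFF.gM_res])
  have e2 : CurveFF.ratio hf₀ h₀ hU t = X.presheaf.germ (U₀ ⊓ U) _ hW g' := by
    rw [← hgr']; exact CurveFF.ratio_eq hf₀ (by rw [CurveFF.ratio_spec, CurveFF.gM_res])
  refine CurveFF.ratio_eq _ ?_
  rw [e1, e2, ← map_mul, ← CurveFF.gM_res (inf_le_left : U₀ ⊓ U ≤ U₀) hW, ← CurveFF.gM_smul,
    ← CurveFF.gM_res (inf_le_right : U₀ ⊓ U ≤ U) hW, InvX.res_tmul, InvX.res_tmul, hg, hg',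
    InvX.tmul_smul_left, InvX.tmul_smul_right, ← mul_smul]

end

variable (k : Type u) [Field k] [IsAlgClosed k] {X : Scheme.{u}} [X.Over (Spec (CommRingCat.of k))]
  [IsIntegral X] [IsProper (X ↘ Spec (CommRingCat.of k))] [Smooth (X ↘ Spec (CommRingCat.of k))]
  (hdim : topologicalKrullDim X = 1) {M : X.Modules} (hM : PicF.IsInvertible M) {U₀ : X.Opens} {e₀ : Γ(M, U₀)}
  (he₀ : InvX.IsFrame e₀) (h₀ : genericPoint X ∈ U₀)

include hdim in
theorem ratio_mem_L (s : Γ(M, ⊤)) :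
    (CurveFF.ratio he₀ h₀ (show genericPoint X ∈ (⊤ : X.Opens) from trivial) s : X.functionField) ∈
      FunFld.L (CurveFF.divisor k hdim hM he₀ h₀) := by
  intro P
  obtain ⟨z, rfl⟩ := (CurveFF.pl k X hdim).surjective P
  have hU := eta_mem (CurveFF.mem_chartU hM z)
  rw [CurveFF.exp_divisor k hdim hM he₀ h₀ (CurveFF.isFrame_chartE hM z) hU (CurveFF.mem_chartU hM z),
    CurveFF.ratio_trans he₀ h₀ (CurveFF.isFrame_chartE hM z) hU, map_mul]
  exact mul_le_of_le_one_left' ((CurveFF.inR_iff k X hdim z _).1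
    (CurveFF.inR_ratio (CurveFF.isFrame_chartE hM z) hU _ s (CurveFF.mem_chartU hM z) trivial))

include hdim in
theorem exists_section_of_mem {c : X.functionField} (hc : c ∈ FunFld.L (CurveFF.divisor k hdim hM he₀ h₀)) :
    ∃ s : Γ(M, ⊤), (CurveFF.ratio he₀ h₀ (show genericPoint X ∈ (⊤ : X.Opens) from trivial) s : X.functionField) = c := by
  obtain ⟨Φ, hΦ, hΦ'⟩ := CurveCohLib.Hopf.exists_coordLin k he₀ hM h₀
  letI := (Curv2.stalkMap k X (genericPoint X)).toAlgebra
  have hr : ∀ t, (Φ t : X.functionField) = CurveFF.ratio he₀ h₀ (show genericPoint X ∈ (⊤ : X.Opens) from trivial)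
      (Sheaf.H.equiv₀ (Coh.toAb M) isTerminalTop t : Γ(M, ⊤)) := fun t => (CurveFF.ratio_eq he₀ (hΦ' t)).symm
  have hle : LinearMap.range Φ ≤ FunFld.L (CurveFF.divisor k hdim hM he₀ h₀) := by
    rintro _ ⟨t, rfl⟩
    exact hr t ▸ ratio_mem_L k hdim hM he₀ h₀ _
  haveI := FFLib.L_finite (CurveFF.isFunctionField k X hdim).1 (CurveFF.divisor k hdim hM he₀ h₀)
  have heq := Submodule.eq_of_le_of_finrank_le hle (by
    rw [LinearMap.finrank_range_of_inj hΦ, CurveFF.finrank_h0_eq_ell k hdim hM he₀ h₀]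
    rfl)
  obtain ⟨t, rfl⟩ := heq.ge hc
  exact ⟨_, (hr t).symm⟩

omit hM in
include hdim h₀ he₀ in
theorem exists_frame_pow (hM : PicF.IsInvertible M) :
    ∀ m : ℕ, ∃ (hMm : PicF.IsInvertible (CohB1.tensorPow M m)) (e : Γ(CohB1.tensorPow M m, U₀)) (he : InvX.IsFrame e),
      CurveFF.divisor k hdim hMm he h₀ = m • CurveFF.divisor k hdim hM he₀ h₀
  | 0 => by
    have hO : PicF.IsInvertible (Coh.structureModule X) := CurveDeg.isInvertible_structureModule
    refine ⟨hO, _, (InvX.isFrame_one (X := X) ⊤).res (le_top : U₀ ≤ ⊤), ?_⟩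
    rw [zero_nsmul]
    refine (CurveFF.divisor_res k hdim hO (InvX.isFrame_one (X := X) ⊤)
      (show genericPoint X ∈ (⊤ : X.Opens) from trivial) le_top h₀).trans ?_
    ext P
    obtain ⟨z, rfl⟩ := (CurveFF.pl k X hdim).surjective P
    rw [Finsupp.zero_apply]
    show CurveFF.ordFun k hdim hO (InvX.isFrame_one (X := X) ⊤) (show genericPoint X ∈ (⊤ : X.Opens) from trivial)
      ((CurveFF.pl k X hdim).symm (CurveFF.pl k X hdim z)) = 0
    exact CurveFF.ordFun_eq_zero k hdim hO (InvX.isFrame_one (X := X) ⊤) _ trivial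
  | m + 1 => by
    obtain ⟨hMm, e, he, hd⟩ := exists_frame_pow hM m
    refine ⟨InvX.isInvertible_tensorMod hMm hM, _, InvX.isFrame_tmul he he₀, ?_⟩
    rw [succ_nsmul, ← hd]
    exact CurveFF.divisor_tensor k hdim hMm he h₀ hM he₀

include hdim in
/-- Sheafified multiplication is surjective when multiplication in the function field is. -/
theorem mul_sections_surjective (m : ℕ)
    (h : FunFld.L ((m + 1) • CurveFF.divisor k hdim hM he₀ h₀) ≤
      FunFld.L (m • CurveFF.divisor k hdim hM he₀ h₀) * FunFld.L (CurveFF.divisor k hdim hM he₀ h₀)) :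
    Function.Surjective ((toSheafify (Opens.grothendieckTopology X)
      (CohB1.tensorPre (CohB1.tensorPow M m) M).presheaf).app (op ⊤)) := by
  obtain ⟨hMm, e, he, hd⟩ := exists_frame_pow k hdim he₀ h₀ hM m
  intro u
  let u' : Γ(CohB1.tensorMod (CohB1.tensorPow M m) M, ⊤) := u
  have htop : genericPoint X ∈ (⊤ : X.Opens) := trivial
  have hu := ratio_mem_L k hdim (InvX.isInvertible_tensorMod hMm hM) (InvX.isFrame_tmul he he₀) h₀ u'
  rw [CurveFF.divisor_tensor k hdim hMm he h₀ hM he₀, hd, ← succ_nsmul] at hu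
  have key : ∀ c ∈ FunFld.L (m • CurveFF.divisor k hdim hM he₀ h₀) * FunFld.L (CurveFF.divisor k hdim hM he₀ h₀),
      ∃ v, (CurveFF.ratio (InvX.isFrame_tmul he he₀) h₀ htop
        (show Γ(CohB1.tensorMod (CohB1.tensorPow M m) M, ⊤) from
          (toSheafify (Opens.grothendieckTopology X) (CohB1.tensorPre (CohB1.tensorPow M m) M).presheaf).app (op ⊤) v) :
          X.functionField) = c := by
    intro c hc
    induction hc using Submodule.mul_induction_on' with
    | mem_mul_mem a ha b hb =>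
      rw [← hd] at ha
      obtain ⟨s, hs⟩ := exists_section_of_mem k hdim hMm he h₀ ha
      obtain ⟨t, ht⟩ := exists_section_of_mem k hdim hM he₀ h₀ hb
      refine ⟨KFlatLib.tm s t, ?_⟩
      rw [← hs, ← ht]
      exact ratio_tmul he he₀ h₀ htop s t
    | add x _ y _ hx hy =>
      obtain ⟨v, hv⟩ := hx
      obtain ⟨w, hw⟩ := hy
      refine ⟨v + w, ?_⟩
      rw [← hv, ← hw, map_add]
      exact ratio_add (InvX.isFrame_tmul he he₀) h₀ htop _ _
  obtain ⟨v, hv⟩ := key _ (h hu)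
  exact ⟨v, eq_of_ratio_eq (InvX.isInvertible_tensorMod hMm hM) (InvX.isFrame_tmul he he₀) h₀ htop
    (t := u') hv⟩

end Groth.Agent.LS17
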