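import Groth.Agent.LS17.Castelnuovo

/-! Equality in the Castelnuovo–Severi inequality: separation and hyperelliptic quotients. -/

namespace Groth.Agent.LS17

open FunFld WithZero IntermediateField
open Groth.Agent.FFLib

variable {k K F₁ F₂ : Type*} [Field k] [IsAlgClosed k] [Field K] [Field F₁] [Field F₂] [Algebra k K] [Algebra k F₁] [Algebra k F₂]
  [Algebra F₁ K] [Algebra F₂ K] [IsScalarTower k F₁ K] [IsScalarTower k F₂ K]

section Push

variable [FiniteDimensional F₁ K] (hF₁ : IsFunctionField k F₁)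

/-- The place below. -/
noncomputable def below (Q : Place k K) : Place k F₁ := (exists_over hF₁.1 Q).choose

theorem below_spec (Q : Place k K) : ∃ e, 1 ≤ e ∧ IsOverWith Q (below hF₁ Q) e := (exists_over hF₁.1 Q).choose_spec

/-- The image in the first field of the pullback from the second. -/
noncomputable def push (D : Divisor k F₂) : Divisor k F₁ := Finsupp.mapDomain (below hF₁) (conorm K D)

theorem push_add [FiniteDimensional F₂ K] (hF₂ : IsFunctionField k F₂) (D E : Divisor k F₂) :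
    push (K := K) hF₁ (D + E) = push (K := K) hF₁ D + push (K := K) hF₁ E := by
  rw [push, conorm_add hF₂.1, Finsupp.mapDomain_add]
  rfl

variable [FiniteDimensional F₂ K] (hK : IsFunctionField k K) (hF₂ : IsFunctionField k F₂)

include hK hF₂

omit [FiniteDimensional F₁ K] in
theorem conorm_nonneg {D : Divisor k F₂} (hD : 0 ≤ D) : 0 ≤ conorm K D := fun Q => by
  obtain ⟨P, e, -, he⟩ := exists_over hF₂.1 Q
  rw [conorm_apply hF₂.1 _ he]
  exact mul_nonneg (by positivity) (hD P)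

theorem deg_push (D : Divisor k F₂) : (push (K := K) hF₁ D).deg = Module.finrank F₂ K * D.deg := by
  rw [← deg_conorm (K' := K) hF₂.1 D, push, Divisor.deg, Divisor.deg, Finsupp.sum_mapDomain_index
    (fun _ => by simp) (fun _ _ _ => by ring)]
  refine Finsupp.sum_congr fun Q _ => ?_
  rw [deg_eq_one hK.1, deg_eq_one hF₁.1]

theorem le_push {D : Divisor k F₂} (hD : 0 ≤ D) (Q : Place k K) :
    conorm K D Q ≤ push (K := K) hF₁ D (below hF₁ Q) := by
  classical
  have h0 := conorm_nonneg (K := K) hK hF₂ hD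
  rw [push, Finsupp.mapDomain, Finsupp.sum_apply, Finsupp.sum]
  by_cases hQ : Q ∈ (conorm K D).support
  · refine le_trans ?_ (Finset.single_le_sum (fun Q' _ => ?_) hQ)
    · rw [Finsupp.single_eq_same]
    · by_cases h : below hF₁ Q' = below hF₁ Q
      · rw [h, Finsupp.single_eq_same]; exact h0 Q'
      · rw [Finsupp.single_eq_of_ne (Ne.symm h)]
  · rw [Finsupp.notMem_support_iff.mp hQ]
    refine Finset.sum_nonneg fun Q' _ => ?_
    by_cases h : below hF₁ Q' = below hF₁ Q
    · rw [h, Finsupp.single_eq_same]; exact h0 Q'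
    · rw [Finsupp.single_eq_of_ne (Ne.symm h)]

theorem push_nonneg {D : Divisor k F₂} (hD : 0 ≤ D) : 0 ≤ push (K := K) hF₁ D := fun P => by
  classical
  rw [push, Finsupp.mapDomain, Finsupp.sum_apply, Finsupp.sum]
  refine Finset.sum_nonneg fun Q _ => ?_
  by_cases h : below hF₁ Q = P
  · rw [h, Finsupp.single_eq_same]; exact conorm_nonneg (K := K) hK hF₂ hD Q
  · rw [Finsupp.single_eq_of_ne (Ne.symm h)]

end Push

theorem val_le_neg_one {F : Type*} [Field F] [Algebra k F] (W : Place k F) {w : F} (hw : W.1 w < 1) :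
    W.1 w ≤ exp (-1 : ℤ) := by
  exact (lt_exp_iff_le_exp_pred W w 0).mp (hw.trans_eq exp_zero.symm)

section Equality

variable (hK : IsFunctionField k K) (hF₁ : IsFunctionField k F₁) (hF₂ : IsFunctionField k F₂)
  (hd₁ : Module.finrank F₁ K = 2) (hd₂ : Module.finrank F₂ K = 2)
  (heq : genus k K = 2 * genus k F₁ + 2 * genus k F₂ + 1)

include hK hF₁ hF₂ hd₁ hd₂ heq

/-- In large degree every section is a combination. -/
theorem exists_comb_of_eq {B : Divisor k F₂} (hB : 0 ≤ B) (hBd : B.deg = genus k F₂ + 1) {y : F₂}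
    (hy : y ∈ L B) (hy1 : algebraMap F₂ K y ∉ Set.range (algebraMap F₁ K)) {A : Divisor k F₁}
    (hA : 2 * (genus k K : ℤ) ≤ A.deg) {z : K} (hz : z ∈ L (conorm K A + conorm K B)) :
    ∃ a ∈ L A, ∃ b ∈ L A, z = algebraMap F₁ K a + algebraMap F₁ K b * algebraMap F₂ K y := by
  haveI : FiniteDimensional F₁ K := Module.finite_of_finrank_eq_succ hd₁
  haveI : FiniteDimensional F₂ K := Module.finite_of_finrank_eq_succ hd₂
  obtain ⟨f, hf, hf'⟩ := exists_combMap hF₁ hF₂ hd₁ hd₂ (A := A) hB hy hy1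
  haveI := L_finite hF₁.1 A
  haveI := L_finite hK.1 (conorm K A + conorm K B)
  have hd : Module.finrank k (L A × L A) = Module.finrank k (L (conorm K A + conorm K B)) := by
    rw [Module.finrank_prod]
    show ell A + ell A = ell _
    have h : ((ell A + ell A : ℕ) : ℤ) = ell (conorm K A + conorm K B) := by
      rw [ell_of_deg_gt hK (by rw [Divisor.deg_add, deg_conorm hF₁.1, deg_conorm hF₂.1, hd₁, hd₂, hBd]; push_cast; omega),
        Nat.cast_add, ell_of_deg_gt hF₁ (by omega), Divisor.deg_add, deg_conorm hF₁.1, deg_conorm hF₂.1,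
        hd₁, hd₂, hBd, heq]
      push_cast
      ring
    exact_mod_cast h
  obtain ⟨p, hp⟩ := (LinearMap.injective_iff_surjective_of_finrank_eq_finrank hd).mp hf ⟨z, hz⟩
  exact ⟨p.1, p.1.2, p.2, p.2.2, by rw [← hf' p, hp]⟩

/-- In large degree the pullbacks from the first field split along `y`. -/
theorem exists_split_of_eq [FiniteDimensional F₁ K] {B : Divisor k F₂} (hB : 0 ≤ B)
    (hBd : B.deg = genus k F₂ + 1) {y : F₂} (hy : y ∈ L B)
    (hy1 : algebraMap F₂ K y ∉ Set.range (algebraMap F₁ K)) {A : Divisor k F₁}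
    (hA : 2 * (genus k K : ℤ) + 2 * (genus k F₂ + 1) ≤ A.deg) :
    (∀ b ∈ L (A - push (K := K) hF₁ B), algebraMap F₁ K b * algebraMap F₂ K y ∈ L (conorm K A)) ∧
      ∀ z ∈ L (conorm K A), ∃ a ∈ L A, ∃ b ∈ L (A - push (K := K) hF₁ B),
        z = algebraMap F₁ K a + algebraMap F₁ K b * algebraMap F₂ K y := by
  haveI : FiniteDimensional F₂ K := Module.finite_of_finrank_eq_succ hd₂
  set E := push (K := K) hF₁ B with hE
  have hmem : ∀ b ∈ L (A - E), algebraMap F₁ K b * algebraMap F₂ K y ∈ L (conorm K A) := fun b hb Q => by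
    obtain ⟨P', e', -, he'⟩ := exists_over hF₂.1 Q
    obtain ⟨e, he1, he⟩ := below_spec hF₁ Q
    have h1 := le_push hF₁ hK hF₂ hB Q
    rw [conorm_apply hF₂.1 _ he'] at h1
    have h2 := (push_nonneg hF₁ hK hF₂ hB) (below hF₁ Q)
    rw [map_mul, he b, he' y, conorm_apply hF₁.1 _ he]
    refine (mul_le_mul' (pow_le_pow_left' (hb _) _) (pow_le_pow_left' (hy P') _)).trans ?_
    rw [← exp_nsmul, ← exp_nsmul, ← exp_add, exp_le_exp, nsmul_eq_mul, nsmul_eq_mul, Finsupp.sub_apply, hE]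
    rw [Finsupp.zero_apply] at h2
    have h3 : push (K := K) hF₁ B (below hF₁ Q) ≤ (e : ℤ) * push (K := K) hF₁ B (below hF₁ Q) :=
      le_mul_of_one_le_left h2 (by exact_mod_cast he1)
    rw [mul_sub]
    omega
  refine ⟨hmem, ?_⟩
  haveI := L_finite hF₁.1 A
  haveI := L_finite hF₁.1 (A - E)
  haveI := L_finite hK.1 (conorm K A)
  let f : (L A × L (A - E)) →ₗ[k] L (conorm K A) :=
    { toFun := fun p => ⟨algebraMap F₁ K p.1 + algebraMap F₁ K p.2 * algebraMap F₂ K y,
        add_mem ((mem_conorm_iff hF₁.1).mpr fun P Q e he => by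
          rw [he p.1.1, ← nsmul_eq_mul, exp_nsmul]; exact pow_le_pow_left' (p.1.2 P) _) (hmem _ p.2.2)⟩
      map_add' := fun p q => Subtype.ext (by simp [add_mul]; abel)
      map_smul' := fun c p => Subtype.ext (by
        simp only [Prod.smul_fst, Prod.smul_snd, Submodule.coe_smul, RingHom.id_apply, smul_add]
        rw [Algebra.smul_def, Algebra.smul_def, Algebra.smul_def, Algebra.smul_def, map_mul, map_mul,
          ← IsScalarTower.algebraMap_apply, mul_assoc]) }
  have hf : Function.Injective f := (injective_iff_map_eq_zero f).mpr fun p hp => by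
    obtain ⟨h1, h2⟩ := eq_zero_of_add_mul hd₁ hy1 (congrArg Subtype.val hp)
    exact Prod.ext (Subtype.ext h1) (Subtype.ext h2)
  have hd : Module.finrank k (L A × L (A - E)) = Module.finrank k (L (conorm K A)) := by
    rw [Module.finrank_prod]
    show ell A + ell (A - E) = ell _
    have hEd : E.deg = 2 * ((genus k F₂ : ℤ) + 1) := by
      rw [hE, deg_push hF₁ hK hF₂, hd₂, hBd]; push_cast; ring
    have h : ((ell A + ell (A - E) : ℕ) : ℤ) = ell (conorm K A) := by
      rw [ell_of_deg_gt hK (by rw [deg_conorm hF₁.1, hd₁]; push_cast; omega),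
        Nat.cast_add, ell_of_deg_gt hF₁ (by omega), ell_of_deg_gt hF₁ (by rw [Divisor.deg_sub, hEd]; omega),
        Divisor.deg_sub, hEd, deg_conorm hF₁.1, hd₁, heq]
      push_cast
      ring
    exact_mod_cast h
  intro z hz
  obtain ⟨p, hp⟩ := (LinearMap.injective_iff_surjective_of_finrank_eq_finrank hd).mp hf ⟨z, hz⟩
  exact ⟨p.1, p.1.2, p.2, p.2.2, (congrArg Subtype.val hp).symm⟩

/-- The branch class does not depend on the generator. -/
theorem ell_push_sub_pos [FiniteDimensional F₁ K] {B B' : Divisor k F₂} (hB : 0 ≤ B) (hB' : 0 ≤ B')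
    (hBd : B.deg = genus k F₂ + 1) (hBd' : B'.deg = genus k F₂ + 1) {y y' : F₂} (hy : y ∈ L B)
    (hy' : y' ∈ L B') (hy1 : algebraMap F₂ K y ∉ Set.range (algebraMap F₁ K))
    (hy1' : algebraMap F₂ K y' ∉ Set.range (algebraMap F₁ K)) :
    0 < ell (push (K := K) hF₁ B' - push (K := K) hF₁ B) := by
  haveI : FiniteDimensional F₂ K := Module.finite_of_finrank_eq_succ hd₂
  obtain ⟨a₀, b₀, hab⟩ := exists_eq_add_mul hd₁ hy1 (algebraMap F₂ K y')
  have hb0 : b₀ ≠ 0 := fun h => hy1' ⟨a₀, by rw [← hab, h, map_zero, zero_mul, add_zero]⟩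
  refine pos_iff_ne_zero.mpr fun h0 => ?_
  haveI := L_finite hF₁.1 (push (K := K) hF₁ B' - push (K := K) hF₁ B)
  haveI : Subsingleton (L (push (K := K) hF₁ B' - push (K := K) hF₁ B)) := Module.finrank_zero_iff.mp h0
  suffices hmem : b₀ ∈ L (push (K := K) hF₁ B' - push (K := K) hF₁ B) from
    hb0 (congrArg Subtype.val (Subsingleton.elim (⟨b₀, hmem⟩ : L (push (K := K) hF₁ B' - push (K := K) hF₁ B)) 0))
  rw [mem_L_iff_ord hb0]
  intro P
  obtain ⟨A, -, hA⟩ := exists_ge_deg hF₁.1 (0 : Divisor k F₁)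
    (2 * (genus k K : ℤ) + 2 * genus k F₁ + 2 * (genus k F₂ + 1))
  obtain ⟨b, hb, hbne, hbo⟩ := exists_exact hF₁ (D := A - push (K := K) hF₁ B') (by
    rw [Divisor.deg_sub, deg_push hF₁ hK hF₂, hd₂, hBd']; push_cast; omega) P
  have hs := (exists_split_of_eq hK hF₁ hF₂ hd₁ hd₂ heq hB' hBd' hy' hy1' (A := A) (by omega)).1 b hb
  obtain ⟨a, -, b', hb', hz⟩ :=
    (exists_split_of_eq hK hF₁ hF₂ hd₁ hd₂ heq hB hBd hy hy1 (A := A) (by omega)).2 _ hs
  obtain ⟨-, hbb⟩ := eq_zero_of_add_mul hd₁ hy1 (a := b * a₀ - a) (b := b * b₀ - b') (by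
    rw [← hab] at hz
    simp only [map_sub, map_mul]
    linear_combination hz)
  rw [sub_eq_zero] at hbb
  have h1 := (mem_L_iff_ord (mul_ne_zero hbne hb0)).mp (hbb ▸ hb') P
  rw [ord_mul P hbne hb0, hbo] at h1
  simp only [Finsupp.sub_apply] at h1 ⊢
  omega

/-- The first field is hyperelliptic. -/
theorem exists_pencil_two (hnot : ¬ ∀ y : F₂, algebraMap F₂ K y ∈ Set.range (algebraMap F₁ K)) :
    ∃ D : Divisor k F₁, 0 ≤ D ∧ D.deg = 2 ∧ 2 ≤ ell D := by
  classical
  haveI : FiniteDimensional F₁ K := Module.finite_of_finrank_eq_succ hd₁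
  haveI : FiniteDimensional F₂ K := Module.finite_of_finrank_eq_succ hd₂
  obtain ⟨G, hG0, hGd, hGl, -⟩ := exists_nonspecial hF₂ ∅ Set.finite_empty
  obtain ⟨T, hT, hgen⟩ := exists_gen hF₁ hF₂ hd₂ hnot hG0 hGd hGl
  obtain ⟨P, -, hP⟩ := ((infinite_places' hF₂.1).sdiff hT).nonempty
  obtain ⟨Q, e, hQ⟩ := exists_isOver (K' := K) hF₂.1 P
  -- places of the second field meeting the fibre of the image of `P`
  set N := push (K := K) hF₁ (Finsupp.single P (1 : ℤ)) with hN
  let S : Set (Place k F₂) := (below hF₂) '' {Q' : Place k K | below hF₁ Q' ∈ N.support}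
  have hS : S.Finite := by
    refine Set.Finite.image _ (Set.Finite.subset (N.support.finite_toSet.biUnion fun P₁ _ =>
      over_finite (K' := K) hF₁.1 P₁) fun Q' hQ' => Set.mem_biUnion hQ' ?_)
    obtain ⟨e, -, he⟩ := below_spec hF₁ Q'
    exact ⟨e, he⟩
  obtain ⟨P', -, hP'⟩ := ((infinite_places' hF₂.1).sdiff (hT.union hS)).nonempty
  rw [Set.mem_union, not_or] at hP'
  obtain ⟨-, y, hy, hy1⟩ := hgen P hP
  obtain ⟨-, y', hy', hy1'⟩ := hgen P' hP'.1
  have hs : ∀ R : Place k F₂, 0 ≤ G + Finsupp.single R (1 : ℤ) ∧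
      (G + Finsupp.single R 1 : Divisor k F₂).deg = (genus k F₂ : ℤ) + 1 :=
    fun R => ⟨add_nonneg hG0 (Finsupp.single_nonneg.mpr zero_le_one), by rw [Divisor.deg_add, hGd, deg_pt hF₂]⟩
  have h := ell_push_sub_pos hK hF₁ hF₂ hd₁ hd₂ heq (hs P').1 (hs P).1 (hs P').2 (hs P).2 hy' hy hy1' hy1
  rw [push_add hF₁ hF₂, push_add hF₁ hF₂, add_sub_add_left_eq_sub] at h
  set N' := push (K := K) hF₁ (Finsupp.single P' (1 : ℤ)) with hN'
  have hN0 : ∀ R : Place k F₂, 0 ≤ push (K := K) hF₁ (Finsupp.single R (1 : ℤ)) :=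
    fun R => push_nonneg hF₁ hK hF₂ (Finsupp.single_nonneg.mpr zero_le_one)
  have hNd : ∀ R : Place k F₂, (push (K := K) hF₁ (Finsupp.single R (1 : ℤ))).deg = 2 := fun R => by
    rw [deg_push hF₁ hK hF₂, hd₂, deg_pt hF₂]; rfl
  refine ⟨N, hN0 P, hNd P, ?_⟩
  obtain ⟨z, hz0, hzL, -⟩ := exists_le_add_div hF₁.1 h
  refine two_le_ell hF₁ (hN0 P) (L_mono (sub_le_self _ (hN0 P')) hzL) fun c hc => ?_
  have hle : N' ≤ N := fun R => by
    have := (mem_L_iff_ord hz0).mp hzL R
    rw [hc, ord_algebraMap, Finsupp.sub_apply] at this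
    change N' R ≤ N R
    rw [hN]
    omega
  have hNN : N' = N := deg_eq_of_le hF₁.1 hle (by rw [hN', hNd, hNd])
  obtain ⟨Q', e', hQ'⟩ := exists_isOver (K' := K) hF₂.1 P'
  refine hP'.2 ⟨Q', ?_, ?_⟩
  · show below hF₁ Q' ∈ N.support
    rw [Finsupp.mem_support_iff, ← hNN]
    have h1 := le_push hF₁ hK hF₂ (Finsupp.single_nonneg.mpr zero_le_one : (0 : Divisor k F₂) ≤ Finsupp.single P' 1) Q'
    rw [conorm_apply hF₂.1 _ hQ', Finsupp.single_eq_same] at h1
    have := over_pos hF₂.1 hQ'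
    rw [hN']
    omega
  · obtain ⟨e'', -, he''⟩ := below_spec hF₂ Q'
    exact (over_unique hF₂.1 he'' hQ').1

/-- The two quotient maps separate points and tangent vectors. -/
theorem no_common_pair (hnot : ¬ ∀ y : F₂, algebraMap F₂ K y ∈ Set.range (algebraMap F₁ K))
    {Q Q' : Place k K} {P₁ : Place k F₁} {P₂ : Place k F₂} {e₁ e₂ e₁' e₂' : ℕ}
    (h₁ : IsOverWith Q P₁ e₁) (h₂ : IsOverWith Q P₂ e₂) (h₁' : IsOverWith Q' P₁ e₁') (h₂' : IsOverWith Q' P₂ e₂') :
    Q = Q' ∧ (e₁ = 1 ∨ e₂ = 1) := by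
  classical
  haveI : FiniteDimensional F₁ K := Module.finite_of_finrank_eq_succ hd₁
  haveI : FiniteDimensional F₂ K := Module.finite_of_finrank_eq_succ hd₂
  obtain ⟨G, hG0, hGd, hGl, hGP⟩ := exists_nonspecial hF₂ {P₂} (Set.finite_singleton _)
  obtain ⟨T, hT, hgen⟩ := exists_gen hF₁ hF₂ hd₂ hnot hG0 hGd hGl
  obtain ⟨P, -, hP⟩ := ((infinite_places' hF₂.1).sdiff (hT.insert P₂)).nonempty
  rw [Set.mem_insert_iff, not_or] at hP
  obtain ⟨-, y, hy, hy1⟩ := hgen P hP.2
  obtain ⟨R, -, hR⟩ := ((infinite_places' hF₁.1).sdiff (Set.finite_singleton P₁)).nonempty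
  rw [Set.mem_singleton_iff] at hR
  set B := G + Finsupp.single P 1
  set A : Divisor k F₁ := Finsupp.single R (2 * (genus k K : ℤ) + 2)
  have hB0 : B P₂ = 0 := by
    rw [Finsupp.add_apply, hGP P₂ rfl, Finsupp.single_eq_of_ne (Ne.symm hP.1), add_zero]
  have hA0 : A P₁ = 0 := Finsupp.single_eq_of_ne (Ne.symm hR)
  have hAd : A.deg = 2 * (genus k K : ℤ) + 2 := by rw [Divisor.deg_single, deg_eq_one hF₁.1]; simp
  have hBd : B.deg = genus k F₂ + 1 := by rw [Divisor.deg_add, hGd, deg_pt hF₂]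
  set D := conorm K A + conorm K B
  -- if the pair is not separated, vanishing at the first point implies vanishing at the second
  suffices hkey : Q ≠ Q' ∨ (2 ≤ e₁ ∧ 2 ≤ e₂) → L (D - Finsupp.single Q 1) ≤ L (D - Finsupp.single Q 1 - Finsupp.single Q' 1) → False by
    have hval : ∀ {R : Place k K} {e e' : ℕ}, IsOverWith R P₁ e → IsOverWith R P₂ e' → ∀ {a b : F₁},
        a ∈ L A → b ∈ L A → ∀ ca cb cy : k, P₁.1 (a - algebraMap k F₁ ca) < 1 → P₁.1 (b - algebraMap k F₁ cb) < 1 →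
        P₂.1 (y - algebraMap k F₂ cy) < 1 → R.1 (algebraMap F₁ K a + algebraMap F₁ K b * algebraMap F₂ K y -
          algebraMap k K (ca + cb * cy)) ≤ exp (-(min e e' : ℕ) : ℤ) := by
      intro R e e' he he' a b ha hb ca cb cy hca hcb hcy
      have hb' : R.1 (algebraMap F₁ K b) ≤ 1 := by
        rw [he b]; exact pow_le_one' (by simpa [hA0] using hb P₁) _
      have hpow : ∀ (n : ℕ), min e e' ≤ n → (exp (-1 : ℤ)) ^ n ≤ exp (-(min e e' : ℕ) : ℤ) := fun n hn => by
        rw [← exp_nsmul, exp_le_exp, nsmul_eq_mul]; omega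
      rw [show algebraMap F₁ K a + algebraMap F₁ K b * algebraMap F₂ K y - algebraMap k K (ca + cb * cy) =
          algebraMap F₁ K (a - algebraMap k F₁ ca) + algebraMap F₁ K (b - algebraMap k F₁ cb) * algebraMap k K cy +
            algebraMap F₁ K b * algebraMap F₂ K (y - algebraMap k F₂ cy) by
        simp only [map_sub, map_add, map_mul, ← IsScalarTower.algebraMap_apply]; ring]
      refine (R.1.map_add _ _).trans (max_le ((R.1.map_add _ _).trans (max_le ?_ ?_)) ?_)
      · rw [he]; exact (pow_le_pow_left' (val_le_neg_one P₁ hca) _).trans (hpow e (min_le_left _ _))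
      · rw [map_mul, he]
        exact (mul_le_of_le_one_right' (R.2.1 cy)).trans
          ((pow_le_pow_left' (val_le_neg_one P₁ hcb) _).trans (hpow e (min_le_left _ _)))
      · rw [map_mul, he' (y - algebraMap k F₂ cy)]
        exact (mul_le_of_le_one_left' hb').trans
          ((pow_le_pow_left' (val_le_neg_one P₂ hcy) _).trans (hpow e' (min_le_right _ _)))
    have hD0 : ∀ {R : Place k K} {e e' : ℕ}, IsOverWith R P₁ e → IsOverWith R P₂ e' → D R = 0 := fun he he' => by
      rw [Finsupp.add_apply, conorm_apply hF₁.1 _ he, conorm_apply hF₂.1 _ he', hA0, hB0, mul_zero, mul_zero, add_zero]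
    by_contra hno
    have hcase : Q ≠ Q' ∨ (2 ≤ e₁ ∧ 2 ≤ e₂) := by
      by_cases hQ : Q = Q'
      · have := over_pos hF₁.1 h₁
        have := over_pos hF₂.1 h₂
        refine Or.inr ?_
        have : e₁ ≠ 1 := fun h => hno ⟨hQ, Or.inl h⟩
        have : e₂ ≠ 1 := fun h => hno ⟨hQ, Or.inr h⟩
        omega
      · exact Or.inl hQ
    refine hkey hcase fun z hz => ?_
    obtain ⟨a, ha, b, hb, hzab⟩ := exists_comb_of_eq hK hF₁ hF₂ hd₁ hd₂ heq
      (add_nonneg hG0 (Finsupp.single_nonneg.mpr zero_le_one)) hBd hy hy1 (A := A) (by omega)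
      (L_mono (sub_le_self _ (Finsupp.single_nonneg.mpr zero_le_one)) hz)
    obtain ⟨ca, hca⟩ := exists_value' hF₁ P₁ (x := a) (by simpa [hA0] using ha P₁)
    obtain ⟨cb, hcb⟩ := exists_value' hF₁ P₁ (x := b) (by simpa [hA0] using hb P₁)
    obtain ⟨cy, hcy⟩ := exists_value' hF₂ P₂ (x := y) (by simpa [B, hB0] using hy P₂)
    have h := hval h₁ h₂ ha hb ca cb cy hca hcb hcy
    have h' := hval h₁' h₂' ha hb ca cb cy hca hcb hcy
    rw [← hzab] at h h'
    have he1 := over_pos hF₁.1 h₁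
    have he2 := over_pos hF₂.1 h₂
    have he1' := over_pos hF₁.1 h₁'
    have he2' := over_pos hF₂.1 h₂'
    have hc : ca + cb * cy = 0 := by
      by_contra hc
      have hzQ : Q.1 z ≤ exp (-1 : ℤ) := by simpa [hD0 h₁ h₂] using hz Q
      have h2 : Q.1 (algebraMap k K (ca + cb * cy)) ≤ exp (-1 : ℤ) := by
        rw [← neg_sub] at h
        rw [Valuation.map_neg] at h
        have := (Q.1.map_add (algebraMap k K (ca + cb * cy) - z) z).trans
          (max_le (h.trans (by rw [exp_le_exp]; omega)) hzQ)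
        rwa [sub_add_cancel] at this
      rw [val_algebraMap Q hc, ← exp_zero, exp_le_exp] at h2
      omega
    rw [hc, map_zero, sub_zero] at h h'
    intro R
    simp only [Finsupp.sub_apply]
    by_cases hRQ' : R = Q'
    · subst hRQ'
      rw [hD0 h₁' h₂']
      by_cases hQQ : R = Q
      · subst hQQ
        rw [Finsupp.single_eq_same]
        refine h.trans ?_
        rw [exp_le_exp]
        rcases hcase with hne | ⟨i, j⟩
        · exact absurd rfl hne
        · omega
      · rw [Finsupp.single_eq_same, Finsupp.single_eq_of_ne hQQ]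
        refine h'.trans ?_
        rw [exp_le_exp]; omega
    · rw [Finsupp.single_eq_of_ne hRQ', sub_zero]
      exact hz R
  intro _ hle
  have hDd : D.deg = 2 * A.deg + 2 * B.deg := by
    rw [Divisor.deg_add, deg_conorm hF₁.1, deg_conorm hF₂.1, hd₁, hd₂]; rfl
  have h1 := ell_of_deg_gt hK (D := D - Finsupp.single Q 1) (by rw [deg_sub_pt hK]; omega)
  have h2 := ell_of_deg_gt hK (D := D - Finsupp.single Q 1 - Finsupp.single Q' 1) (by rw [deg_sub_pt hK, deg_sub_pt hK]; omega)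
  rw [deg_sub_pt hK] at h1
  rw [deg_sub_pt hK, deg_sub_pt hK] at h2
  haveI := L_finite hK.1 (D - Finsupp.single Q 1 - Finsupp.single Q' 1)
  have h3 : ell (D - Finsupp.single Q 1) ≤ ell (D - Finsupp.single Q 1 - Finsupp.single Q' 1) := Submodule.finrank_mono hle
  omega

end Equality

end Groth.Agent.LS17
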