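import Groth.Agent.LS17.FFBase
import Groth.Agent.FFLib.Quad.Genus
import Groth.Agent.FFLib.Plucker
import Groth.Agent.FFLib.Ram.Unramified

/-! Castelnuovo–Severi for two quadratic subfields, and the equality case. -/

namespace Groth.Agent.LS17

open FunFld WithZero IntermediateField
open Groth.Agent.FFLib

variable {k : Type*} [Field k] [IsAlgClosed k]

section General

variable {K : Type*} [Field K] [Algebra k K] (hK : IsFunctionField k K)

include hK

/-- An effective divisor with no special linear series, avoiding finitely many places. -/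
theorem exists_nonspecial (S : Set (Place k K)) (hS : S.Finite) :
    ∃ G : Divisor k K, 0 ≤ G ∧ G.deg = genus k K ∧ ell G = 1 ∧ ∀ P ∈ S, G P = 0 := by
  classical
  obtain ⟨C, hC⟩ := exists_canonical hK
  suffices h : ∀ n, n ≤ genus k K → ∃ G : Divisor k K,
      0 ≤ G ∧ G.deg = n ∧ ell (C - G) + n = genus k K ∧ ∀ P ∈ S, G P = 0 by
    obtain ⟨G, hG0, hd, hl, hSG⟩ := h _ le_rfl
    have := (rr_C hK hC G).1
    refine ⟨G, hG0, hd, ?_, hSG⟩
    omega
  intro n
  induction n with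
  | zero => exact fun _ => ⟨0, le_rfl, Divisor.deg_zero, by
      rw [sub_zero, ell_canonical hK hC, add_zero], fun P _ => rfl⟩
  | succ n ih =>
    intro hn
    obtain ⟨G, hG0, hd, hl, hSG⟩ := ih (by omega)
    obtain ⟨z, hz0, hzL, -⟩ := exists_le_add_div hK.1 (D := C - G) (by omega)
    obtain ⟨P, -, hP⟩ := ((infinite_places' hK.1).sdiff
      ((hS.union (C - G).support.finite_toSet).union (FunFld.div k z).support.finite_toSet)).nonempty
    simp only [Set.mem_union, Finset.mem_coe, not_or, Finsupp.notMem_support_iff] at hP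
    obtain ⟨⟨hPS, hPD⟩, hPz⟩ := hP
    rw [div_apply hK.1] at hPz
    have hlt : ell (C - G - Finsupp.single P 1) < ell (C - G) := by
      have := L_finite hK.1 (C - G)
      refine Submodule.finrank_lt_finrank_of_lt (lt_of_le_not_ge
        (L_mono (sub_le_self _ (Finsupp.single_nonneg.mpr zero_le_one))) fun h => ?_)
      have h1 := (mem_L_iff_ord hz0).mp (h hzL) P
      rw [Finsupp.sub_apply, hPD, Finsupp.single_eq_same, hPz] at h1
      omega
    have h2 := ell_le_sub_pt hK (C - G) P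
    refine ⟨G + Finsupp.single P 1, add_nonneg hG0 (Finsupp.single_nonneg.mpr zero_le_one), ?_, ?_,
      fun Q hQ => ?_⟩
    · rw [Divisor.deg_add, deg_pt hK, hd]; push_cast; ring
    · rw [← sub_sub]; omega
    · rw [Finsupp.add_apply, hSG Q hQ, Finsupp.single_eq_of_ne (by rintro rfl; exact hPS hQ), add_zero]

/-- A nonspecial divisor plus a point has a function with a pole there. -/
theorem exists_pole_at {G : Divisor k K} (hG0 : 0 ≤ G) (hd : G.deg = genus k K) (hl : ell G = 1)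
    {P : Place k K} (hP : G P = 0) :
    ell (G + Finsupp.single P 1) = 2 ∧
      ∃ y ∈ L (G + Finsupp.single P 1), y ≠ 0 ∧ P.ord y = -1 := by
  obtain ⟨C, hC⟩ := exists_canonical hK
  have h1 := (rr_C hK hC G).1
  have h2 := (rr_C hK hC (G + Finsupp.single P 1)).1
  have h3 := ell_sub_pt_le hK (C - G) P
  rw [← sub_sub, Divisor.deg_add, deg_pt hK] at h2
  have h4 : ell (G + Finsupp.single P 1) = 2 := by omega
  refine ⟨h4, ?_⟩
  have := L_finite hK.1 G
  have hnot : ¬ L (G + Finsupp.single P 1) ≤ L G := fun h => by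
    have h5 : ell (G + Finsupp.single P 1) ≤ ell G := Submodule.finrank_mono h
    omega
  obtain ⟨y, hy, hyG⟩ := SetLike.not_le_iff_exists.mp hnot
  have hy0 : y ≠ 0 := fun e => hyG (e ▸ zero_mem _)
  have ho := (mem_L_iff_ord hy0).mp hy
  refine ⟨y, hy, hy0, ?_⟩
  by_contra hne
  refine hyG ((mem_L_iff_ord hy0).mpr fun Q => ?_)
  have h5 := ho Q
  rw [Finsupp.add_apply] at h5
  rcases eq_or_ne P Q with rfl | hQ
  · rw [Finsupp.single_eq_same] at h5; omega
  · rwa [Finsupp.single_eq_of_ne (Ne.symm hQ), add_zero] at h5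

/-- Values at a place. -/
theorem exists_value' (P : Place k K) {x : K} (hx : P.1 x ≤ 1) :
    ∃ c : k, P.1 (x - algebraMap k K c) < 1 :=
  exists_value hK.1 (deg_eq_one hK.1 P) hx

/-- In a large degree some section has the maximal pole at a given place. -/
theorem exists_exact {D : Divisor k K} (hD : 2 * (genus k K : ℤ) ≤ D.deg) (P : Place k K) :
    ∃ b ∈ L D, b ≠ 0 ∧ P.ord b = -D P := by
  have h1 := ell_of_deg_gt hK (D := D) (by omega)
  have h2 := ell_of_deg_gt hK (D := D - Finsupp.single P 1) (by rw [deg_sub_pt hK]; omega)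
  rw [deg_sub_pt hK] at h2
  have := L_finite hK.1 (D - Finsupp.single P 1)
  have hnot : ¬ L D ≤ L (D - Finsupp.single P 1) := fun h => by
    have h5 : ell D ≤ ell (D - Finsupp.single P 1) := Submodule.finrank_mono h
    omega
  obtain ⟨b, hb, hb'⟩ := SetLike.not_le_iff_exists.mp hnot
  have hb0 : b ≠ 0 := fun e => hb' (e ▸ zero_mem _)
  have ho := (mem_L_iff_ord hb0).mp hb
  refine ⟨b, hb, hb0, ?_⟩
  by_contra hne
  refine hb' ((mem_L_iff_ord hb0).mpr fun Q => ?_)
  have h5 := ho Q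
  rw [Finsupp.sub_apply]
  rcases eq_or_ne P Q with rfl | hQ
  · rw [Finsupp.single_eq_same]; omega
  · rw [Finsupp.single_eq_of_ne (Ne.symm hQ)]; omega

end General

section Pair

variable {K F₁ F₂ : Type*} [Field K] [Field F₁] [Field F₂] [Algebra k K] [Algebra k F₁] [Algebra k F₂]
  [Algebra F₁ K] [Algebra F₂ K] [IsScalarTower k F₁ K] [IsScalarTower k F₂ K]
  (hK : IsFunctionField k K) (hF₁ : IsFunctionField k F₁) (hF₂ : IsFunctionField k F₂)
  (hd₁ : Module.finrank F₁ K = 2) (hd₂ : Module.finrank F₂ K = 2)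

/-- The sections `a + b y` in the Riemann–Roch space of the sum. -/
theorem comb_mem (hF₁ : IsFunctionField k F₁) (hF₂ : IsFunctionField k F₂) [FiniteDimensional F₁ K]
    [FiniteDimensional F₂ K] {A : Divisor k F₁} {B : Divisor k F₂} (hB : 0 ≤ B) {y : F₂} (hy : y ∈ L B)
    {a b : F₁} (ha : a ∈ L A) (hb : b ∈ L A) :
    algebraMap F₁ K a + algebraMap F₁ K b * algebraMap F₂ K y ∈ L (conorm K A + conorm K B) := by
  intro Q
  obtain ⟨P, e, -, he⟩ := exists_over hF₁.1 Q
  obtain ⟨P', e', -, he'⟩ := exists_over hF₂.1 Q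
  rw [Finsupp.add_apply, conorm_apply hF₁.1 _ he, conorm_apply hF₂.1 _ he', exp_add]
  refine (Q.1.map_add _ _).trans (max_le ?_ ?_)
  · refine le_trans ?_ (mul_le_mul' (le_refl _) (show (1 : WithZero (Multiplicative ℤ)) ≤ exp ((e' : ℤ) * B P') by
      rw [← exp_zero, exp_le_exp]; exact mul_nonneg (by positivity) (hB P')))
    rw [mul_one, he a, ← nsmul_eq_mul, exp_nsmul]
    exact pow_le_pow_left' (ha P) _
  · rw [map_mul, he b, he' y, ← nsmul_eq_mul, ← nsmul_eq_mul, exp_nsmul, exp_nsmul]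
    exact mul_le_mul' (pow_le_pow_left' (hb P) _) (pow_le_pow_left' (hy P') _)

include hd₁ hd₂ hF₁ hF₂

/-- The combination map, injective when `y` is not in the first field. -/
theorem exists_combMap {A : Divisor k F₁} {B : Divisor k F₂} (hB : 0 ≤ B) {y : F₂} (hy : y ∈ L B)
    (hy1 : algebraMap F₂ K y ∉ Set.range (algebraMap F₁ K)) :
    ∃ f : (L A × L A) →ₗ[k] L (conorm K A + conorm K B), Function.Injective f ∧
      ∀ p, (f p : K) = algebraMap F₁ K p.1 + algebraMap F₁ K p.2 * algebraMap F₂ K y := by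
  haveI : FiniteDimensional F₁ K := Module.finite_of_finrank_eq_succ hd₁
  haveI : FiniteDimensional F₂ K := Module.finite_of_finrank_eq_succ hd₂
  let f : (L A × L A) →ₗ[k] L (conorm K A + conorm K B) :=
    { toFun := fun p => ⟨_, comb_mem hF₁ hF₂ hB hy p.1.2 p.2.2⟩
      map_add' := fun p q => Subtype.ext (by simp [add_mul]; abel)
      map_smul' := fun c p => Subtype.ext (by
        simp only [Prod.smul_fst, Prod.smul_snd, Submodule.coe_smul, RingHom.id_apply, smul_add]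
        rw [Algebra.smul_def, Algebra.smul_def, Algebra.smul_def, Algebra.smul_def, map_mul, map_mul,
          ← IsScalarTower.algebraMap_apply, mul_assoc]) }
  refine ⟨f, (injective_iff_map_eq_zero f).mpr fun p hp => ?_, fun p => rfl⟩
  obtain ⟨h1, h2⟩ := eq_zero_of_add_mul hd₁ hy1 (congrArg Subtype.val hp)
  exact Prod.ext (Subtype.ext h1) (Subtype.ext h2)

include hK

/-- The genus bound from one function of the second field. -/
theorem genus_le_of_gen {B : Divisor k F₂} (hB : 0 ≤ B) {y : F₂} (hy : y ∈ L B)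
    (hy1 : algebraMap F₂ K y ∉ Set.range (algebraMap F₁ K)) :
    (genus k K : ℤ) + 1 ≤ 2 * genus k F₁ + 2 * B.deg := by
  haveI : FiniteDimensional F₁ K := Module.finite_of_finrank_eq_succ hd₁
  haveI : FiniteDimensional F₂ K := Module.finite_of_finrank_eq_succ hd₂
  obtain ⟨A, hA0, hA⟩ := exists_ge_deg hF₁.1 (0 : Divisor k F₁)
    (2 * (genus k F₁ : ℤ) + 2 * genus k K)
  obtain ⟨f, hf, -⟩ := exists_combMap hF₁ hF₂ hd₁ hd₂ (A := A) hB hy hy1
  haveI := L_finite hF₁.1 A
  haveI := L_finite hK.1 (conorm K A + conorm K B)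
  have h := LinearMap.finrank_le_finrank_of_injective hf
  rw [Module.finrank_prod] at h
  change ell A + ell A ≤ ell _ at h
  have h' : ((ell A + ell A : ℕ) : ℤ) ≤ ell (conorm K A + conorm K B) := by exact_mod_cast h
  have hBd := Divisor.deg_nonneg hB
  rw [ell_of_deg_gt hK (by rw [Divisor.deg_add, deg_conorm hF₁.1, deg_conorm hF₂.1, hd₁, hd₂]; push_cast; omega),
    Nat.cast_add, ell_of_deg_gt hF₁ (by omega), Divisor.deg_add, deg_conorm hF₁.1, deg_conorm hF₂.1,
    hd₁, hd₂] at h'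
  push_cast at h'
  omega

omit hK hd₁

/-- Nonspecial divisors of the second field give generators over the first. -/
theorem exists_gen (hnot : ¬ ∀ y : F₂, algebraMap F₂ K y ∈ Set.range (algebraMap F₁ K))
    {G : Divisor k F₂} (hG0 : 0 ≤ G) (hGd : G.deg = genus k F₂) (hGl : ell G = 1) :
    ∃ T : Set (Place k F₂), T.Finite ∧ ∀ P ∉ T, G P = 0 ∧
      ∃ y ∈ L (G + Finsupp.single P 1), algebraMap F₂ K y ∉ Set.range (algebraMap F₁ K) := by
  classical
  let F₀ : IntermediateField k F₂ :=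
    (IsScalarTower.toAlgHom k F₁ K).fieldRange.comap (IsScalarTower.toAlgHom k F₂ K)
  have hF₀ : ∀ y : F₂, y ∈ F₀ ↔ algebraMap F₂ K y ∈ Set.range (algebraMap F₁ K) := fun y => Iff.rfl
  by_contra hno
  have hno' : ∀ T : Set (Place k F₂), T.Finite → ∃ P ∉ T, G P = 0 →
      ∀ y ∈ L (G + Finsupp.single P 1), y ∈ F₀ := fun T hT => by
    by_contra! hh
    exact hno ⟨T, hT, fun P hP => ⟨(hh P hP).1, let ⟨y, hy, hy'⟩ := (hh P hP).2; ⟨y, hy, fun h => hy' ((hF₀ y).2 h)⟩⟩⟩
  obtain ⟨P₁, hP₁, hy₁⟩ := hno' G.support G.support.finite_toSet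
  rw [Finset.mem_coe, Finsupp.notMem_support_iff] at hP₁
  obtain ⟨y₁, hy₁L, hy₁0, hy₁o⟩ := (exists_pole_at hF₂ hG0 hGd hGl hP₁).2
  have hy₁m := hy₁ hP₁ y₁ hy₁L
  have htr : Transcendental k (⟨y₁, hy₁m⟩ : F₀) := fun h =>
    transcendental_of_ord_ne_zero P₁ (x := y₁) (by omega) (h.algHom F₀.val)
  have hfin := IsFF.finite_adjoin hF₂.1 (transcendental_of_ord_ne_zero P₁ (x := y₁) (by omega))
  haveI : FiniteDimensional F₀ F₂ := by
    letI := (IntermediateField.inclusion (adjoin_simple_le_iff.mpr hy₁m : k⟮y₁⟯ ≤ F₀)).toRingHom.toAlgebra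
    haveI : IsScalarTower k⟮y₁⟯ F₀ F₂ := IsScalarTower.of_algebraMap_eq fun _ => rfl
    exact Module.Finite.of_restrictScalars_finite k⟮y₁⟯ F₀ F₂
  have hF₀' : IsFF k F₀ := by
    refine ⟨⟨y₁, hy₁m⟩, htr, ?_⟩
    let e := adjoinMapEquiv (k := k) (K := F₀) (K' := F₂) ⟨y₁, hy₁m⟩
    haveI : FiniteDimensional k⟮algebraMap F₀ F₂ (⟨y₁, hy₁m⟩ : F₀)⟯ F₂ := hfin
    haveI : FiniteDimensional k⟮(⟨y₁, hy₁m⟩ : F₀)⟯ F₂ :=
      Module.Finite.of_equiv_equiv e.symm.toRingEquiv (RingEquiv.refl F₂) (RingHom.ext fun z => by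
        obtain ⟨w, rfl⟩ := e.surjective z
        show algebraMap F₀ F₂ ((e.symm (e w) : k⟮(⟨y₁, hy₁m⟩ : F₀)⟯) : F₀) = _
        rw [AlgEquiv.symm_apply_apply]
        exact (adjoinMapEquiv_coe _ w).symm)
    exact FiniteDimensional.left k⟮(⟨y₁, hy₁m⟩ : F₀)⟯ F₀ F₂
  refine hnot fun y => ?_
  by_contra hy
  have he2 : 2 ≤ Module.finrank F₀ F₂ := by
    by_contra hlt
    have h1 : Module.finrank F₀ F₂ = 1 := by
      have : 0 < Module.finrank F₀ F₂ := Module.finrank_pos
      omega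
    obtain ⟨c, hc⟩ := (finrank_eq_one_iff_of_nonzero' (1 : F₂) one_ne_zero).mp h1 y
    exact hy ((hF₀ y).1 (by rw [← hc, IntermediateField.smul_def, smul_eq_mul, mul_one]; exact c.2))
  -- places below those of the support
  have hS₀ : {P₀ : Place k F₀ | ∃ Q ∈ G.support, IsOver Q P₀}.Finite := by
    refine Set.Finite.subset (G.support.finite_toSet.image fun Q => (exists_over hF₀' Q).choose) ?_
    rintro P₀ ⟨Q, hQ, e, he⟩
    obtain ⟨e', -, he'⟩ := (exists_over hF₀' Q).choose_spec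
    exact ⟨Q, hQ, (over_unique hF₀' he' he).1⟩
  obtain ⟨P, hP, hyP⟩ := hno' (⋃ P₀ ∈ {P₀ : Place k F₀ | ∃ Q ∈ G.support, IsOver Q P₀}, {Q : Place k F₂ | IsOver Q P₀})
    (hS₀.biUnion fun P₀ _ => over_finite hF₀' P₀)
  simp only [Set.mem_iUnion, Set.mem_setOf_eq, not_exists] at hP
  obtain ⟨P₀, e, he1, he⟩ := exists_over hF₀' P
  have hGP : G P = 0 := by
    by_contra hne
    exact hP P₀ ⟨P, Finsupp.mem_support_iff.mpr hne, e, he⟩ ⟨e, he⟩
  obtain ⟨z, hzL, hz0, hzo⟩ := (exists_pole_at hF₂ hG0 hGd hGl hGP).2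
  have hzm := hyP hGP z hzL
  have hord : ∀ {Q : Place k F₂} {e : ℕ}, IsOverWith Q P₀ e → Q.ord z = e * P₀.ord (⟨z, hzm⟩ : F₀) :=
    fun h => ord_over h (⟨z, hzm⟩ : F₀)
  have honly : ∀ Q : Place k F₂, Q ∈ ({P} : Finset (Place k F₂)) ↔ IsOver Q P₀ := fun Q => by
    rw [Finset.mem_singleton]
    refine ⟨fun h => h ▸ ⟨e, he⟩, fun ⟨e', he'⟩ => ?_⟩
    by_contra hQP
    have h1 := (mem_L_iff_ord hz0).mp hzL Q
    have h2 : G Q = 0 := by
      by_contra hne
      exact hP P₀ ⟨Q, Finsupp.mem_support_iff.mpr hne, e', he'⟩ ⟨e, he⟩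
    rw [Finsupp.add_apply, h2, Finsupp.single_eq_of_ne hQP, hord he'] at h1
    have h3 := hzo
    rw [hord he] at h3
    have := over_pos hF₀' he'
    nlinarith
  have hsum := sum_ram_deg hF₀' P₀ {P} honly
  rw [Finset.sum_singleton, deg_eq_one hF₂.1, deg_eq_one hF₀', mul_one, mul_one, ramIdx_eq hF₀' he] at hsum
  rw [hord he, hsum] at hzo
  have hneg : P₀.ord (⟨z, hzm⟩ : F₀) ≤ -1 := by
    by_contra! h0
    have : (0 : ℤ) ≤ (Module.finrank F₀ F₂ : ℤ) * P₀.ord (⟨z, hzm⟩ : F₀) :=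
      mul_nonneg (by positivity) (by omega)
    omega
  have : (Module.finrank F₀ F₂ : ℤ) * P₀.ord (⟨z, hzm⟩ : F₀) ≤ 2 * -1 :=
    (mul_le_mul_of_nonneg_left hneg (by positivity)).trans (by omega)
  omega

include hK hd₁

/-- The Castelnuovo–Severi inequality. -/
theorem castelnuovo_severi (hnot : ¬ ∀ y : F₂, algebraMap F₂ K y ∈ Set.range (algebraMap F₁ K)) :
    genus k K ≤ 2 * genus k F₁ + 2 * genus k F₂ + 1 := by
  obtain ⟨G, hG0, hGd, hGl, -⟩ := exists_nonspecial hF₂ ∅ Set.finite_empty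
  obtain ⟨T, hT, hgen⟩ := exists_gen hF₁ hF₂ hd₂ hnot hG0 hGd hGl
  obtain ⟨P, -, hP⟩ := ((infinite_places' hF₂.1).sdiff hT).nonempty
  obtain ⟨-, y, hy, hy1⟩ := hgen P hP
  have := genus_le_of_gen hK hF₁ hF₂ hd₁ hd₂
    (add_nonneg hG0 (Finsupp.single_nonneg.mpr zero_le_one)) hy hy1
  rw [Divisor.deg_add, hGd, deg_pt hF₂] at this
  omega

end Pair

end Groth.Agent.LS17
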