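import Mathlib.AlgebraicGeometry.Limits
import Mathlib.AlgebraicGeometry.Properties
import Mathlib.AlgebraicGeometry.Noetherian
import Mathlib.AlgebraicGeometry.GammaSpecAdjunction
import Mathlib.RingTheory.Spectrum.Prime.Noetherian
import Mathlib.FieldTheory.IsAlgClosed.Basic
import Mathlib.Topology.Connected.TotallyDisconnected

/-! Connected components and the rank of the algebra of global functions. -/

set_option linter.style.haveILetI false
set_option backward.isDefEq.respectTransparency false
set_option backward.isDefEq.respectTransparency.types false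

universe u

open CategoryTheory AlgebraicGeometry TopologicalSpace Opposite

namespace Groth.Agent.LS17.CompCount

/-- A finite reduced algebra over an algebraically closed field. -/
theorem finrank_eq_card (k : Type u) [Field k] [IsAlgClosed k] (A : Type u) [CommRing A] [Algebra k A]
    [Module.Finite k A] [_root_.IsReduced A] : Module.finrank k A = Nat.card (PrimeSpectrum A) := by
  haveI : IsArtinianRing A := IsArtinianRing.of_finite k A
  classical
  haveI := Fintype.ofFinite (PrimeSpectrum A)
  rw [IsArtinianRing.finrank_eq_sum_primeSpectrum A k, Nat.card_eq_fintype_card, ← Finset.card_univ,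
    Finset.card_eq_sum_ones]
  refine Finset.sum_congr rfl fun p _ => ?_
  haveI : Module.Finite k (Localization.AtPrime p.asIdeal) := Module.Finite.of_surjective
    (Algebra.algHom k A (Localization.AtPrime p.asIdeal)).toLinearMap
    (IsArtinianRing.localization_surjective p.asIdeal.primeCompl (Localization.AtPrime p.asIdeal))
  haveI : IsArtinianRing (Localization.AtPrime p.asIdeal) := IsArtinianRing.of_finite k _
  haveI : _root_.IsReduced (Localization.AtPrime p.asIdeal) :=
    inferInstance
  let F := IsArtinianRing.isField_of_isReduced_of_isLocalRing (Localization.AtPrime p.asIdeal)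
  letI := F.toField
  have hb := IsAlgClosed.algebraMap_bijective_of_isIntegral (k := k) (K := Localization.AtPrime p.asIdeal)
  exact (LinearEquiv.ofBijective (Algebra.linearMap k (Localization.AtPrime p.asIdeal)) hb).finrank_eq.symm.trans
    (Module.finrank_self k)

variable (X : Scheme.{u})

/-- Global indicator of a clopen set. -/
theorem exists_indicator {S : Set X} (hS : IsClopen S) :
    ∃ e : Γ(X, ⊤), X.presheaf.map (homOfLE le_top : (⟨S, hS.2⟩ : X.Opens) ⟶ ⊤).op e = 1 ∧
      X.presheaf.map (homOfLE le_top : (⟨Sᶜ, hS.1.isOpen_compl⟩ : X.Opens) ⟶ ⊤).op e = 0 := by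
  let V : Bool → X.Opens := fun b => cond b ⟨S, hS.2⟩ ⟨Sᶜ, hS.1.isOpen_compl⟩
  let sec : ∀ b, Γ(X, V b) := fun b => Bool.rec (motive := fun b => Γ(X, V b)) 0 1 b
  have hne : ∀ (W : X.Opens), (∀ z, z ∉ W) → ∀ a b : Γ(X, W), a = b := fun W hW a b =>
    TopCat.Presheaf.section_ext X.sheaf W a b fun z hz => (hW z hz).elim
  obtain ⟨e, he, -⟩ := TopCat.Sheaf.existsUnique_gluing' X.sheaf V ⊤ (fun b => homOfLE le_top)
    (fun z _ => by
      by_cases hz : z ∈ S
      · exact Opens.mem_iSup.2 ⟨true, hz⟩
      · exact Opens.mem_iSup.2 ⟨false, hz⟩) sec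
    (fun a b => by
      cases a <;> cases b
      · rfl
      · exact hne _ (fun z hz => (show z ∈ Sᶜ ∧ z ∈ S from hz).1 (show z ∈ Sᶜ ∧ z ∈ S from hz).2) _ _
      · exact hne _ (fun z hz => (show z ∈ S ∧ z ∈ Sᶜ from hz).2 (show z ∈ S ∧ z ∈ Sᶜ from hz).1) _ _
      · rfl)
  exact ⟨e, he true, he false⟩

theorem mem_basicOpen_indicator {S : Set X} (hS : IsClopen S) {e : Γ(X, ⊤)}
    (h1 : X.presheaf.map (homOfLE le_top : (⟨S, hS.2⟩ : X.Opens) ⟶ ⊤).op e = 1)
    (h0 : X.presheaf.map (homOfLE le_top : (⟨Sᶜ, hS.1.isOpen_compl⟩ : X.Opens) ⟶ ⊤).op e = 0) (z : X) :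
    z ∈ X.basicOpen e ↔ z ∈ S := by
  constructor
  · intro hz
    by_contra hzS
    rw [X.mem_basicOpen e z trivial, ← X.presheaf.germ_res_apply
      (homOfLE le_top : (⟨Sᶜ, hS.1.isOpen_compl⟩ : X.Opens) ⟶ ⊤) z hzS, h0, map_zero] at hz
    exact not_isUnit_zero hz
  · intro hzS
    rw [X.mem_basicOpen e z trivial, ← X.presheaf.germ_res_apply
      (homOfLE le_top : (⟨S, hS.2⟩ : X.Opens) ⟶ ⊤) z hzS, h1, map_one]
    exact isUnit_one

/-- Connected components of a reduced scheme with Artinian ring of global functions. -/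
theorem card_connectedComponents [NoetherianSpace X] [AlgebraicGeometry.IsReduced X]
    [IsArtinianRing Γ(X, ⊤)] :
    Nat.card (_root_.ConnectedComponents X) = Nat.card (PrimeSpectrum Γ(X, ⊤)) := by
  let f : C(X, PrimeSpectrum Γ(X, ⊤)) :=
    ⟨fun z => X.toSpecΓ z, X.toSpecΓ.continuous⟩
  have hmem : ∀ (z : X) (e : Γ(X, ⊤)), z ∈ X.basicOpen e ↔ e ∉ (f z).asIdeal := fun z e => by
    rw [← X.toSpecΓ_preimage_basicOpen e]
    rfl
  haveI : DiscreteTopology (PrimeSpectrum Γ(X, ⊤)) := inferInstance
  let F : _root_.ConnectedComponents X → PrimeSpectrum Γ(X, ⊤) :=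
    Quotient.lift f fun a b hab => f.continuous.image_eq_of_connectedComponent_eq a b hab
  refine Nat.card_congr (Equiv.ofBijective F ⟨?_, ?_⟩)
  · rintro a b hab
    obtain ⟨a, rfl⟩ := ConnectedComponents.surjective_coe a
    obtain ⟨b, rfl⟩ := ConnectedComponents.surjective_coe b
    refine ConnectedComponents.coe_eq_coe.2 (connectedComponent_eq ?_)
    by_contra hne
    have hfin : (irreducibleComponents (X : Type u)).Finite := NoetherianSpace.finite_irreducibleComponents
    have hS : IsClopen (connectedComponent a) := by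
      refine ⟨isClosed_connectedComponent, ?_⟩
      have hc : (connectedComponent a : Set X) =
          (⋃ Z ∈ {Z ∈ irreducibleComponents (X : Type u) | ¬ Z ⊆ connectedComponent a}, Z)ᶜ := by
        ext z
        simp only [Set.mem_compl_iff, Set.mem_iUnion, Set.mem_ofPred_eq, not_exists]
        refine ⟨fun hz Z hZ hzZ => hZ.2 ?_, fun h => ?_⟩
        · rw [connectedComponent_eq hz]
          exact hZ.1.1.isConnected.isPreconnected.subset_connectedComponent hzZ
        · by_contra hz
          exact h _ ⟨irreducibleComponent_mem_irreducibleComponents z,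
            fun hsub => hz (hsub mem_irreducibleComponent)⟩ mem_irreducibleComponent
      rw [hc]
      exact ((hfin.subset fun _ h => h.1).isClosed_biUnion
        fun Z hZ => isClosed_of_mem_irreducibleComponents Z hZ.1).isOpen_compl
    obtain ⟨e, he1, he0⟩ := exists_indicator X hS
    have ha := (mem_basicOpen_indicator X hS he1 he0 a).2 mem_connectedComponent
    have hb := mt (mem_basicOpen_indicator X hS he1 he0 b).1 hne
    rw [hmem] at ha hb
    exact hb (by rwa [← (show f a = f b from hab)])
  · intro p
    obtain ⟨e, he, hee, heq⟩ := IsArtinianRing.exists_not_mem_forall_mem_of_ne p.asIdeal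
    have hne : X.basicOpen e ≠ ⊥ := fun h => he (by rw [eq_zero_of_basicOpen_eq_bot _ h]; exact zero_mem _)
    obtain ⟨z, hz⟩ := Set.nonempty_iff_ne_empty.2 fun h => hne (Opens.ext h)
    refine ⟨(z : _root_.ConnectedComponents X), ?_⟩
    show f z = p
    by_contra hzp
    exact (hmem z e).1 hz (heq (f z).asIdeal (f z).2 fun h => hzp (PrimeSpectrum.ext h))

end Groth.Agent.LS17.CompCount
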