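import Groth.Agent.LS17.Bridge
import Groth.Agent.AVDegLib.Pull
import Groth.Agent.FFLib.Ext

/-! Finite flat covers of smooth proper curves as extensions of function fields. -/

noncomputable section

set_option linter.style.haveILetI false
set_option linter.unusedSectionVars false
set_option backward.isDefEq.respectTransparency false
set_option backward.isDefEq.respectTransparency.types false

universe u

open CategoryTheory CategoryTheory.Limits AlgebraicGeometry TopologicalSpace Opposite

namespace Groth.Agent.LS17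

attribute [local instance] CurveFF.ffAlg

variable (k : Type u) [Field k] {X Y : Scheme.{u}} [X.Over (Spec (CommRingCat.of k))]
  [Y.Over (Spec (CommRingCat.of k))] [IsIntegral X] [IsIntegral Y]
  (f : X ⟶ Y) (hf : f ≫ (Y ↘ Spec (CommRingCat.of k)) = X ↘ Spec (CommRingCat.of k))
  [IsFinite f] [Surjective f]

/-- The morphism over the base. -/
abbrev overHom : Over.mk (X ↘ Spec (CommRingCat.of k)) ⟶ Over.mk (Y ↘ Spec (CommRingCat.of k)) :=
  Over.homMk f hf

instance : IsIntegral (Over.mk (X ↘ Spec (CommRingCat.of k))).left := ‹IsIntegral X›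
instance : IsFinite (overHom k f hf).left := ‹IsFinite f›
instance : Surjective (overHom k f hf).left := ‹Surjective f›

/-- The inclusion of function fields. -/
def fMap : Y.functionField →+* X.functionField := AVDegLib.ffMap (overHom k f hf)

/-- The function field upstairs as an algebra over the one downstairs. -/
@[reducible] def coverAlg : Algebra Y.functionField X.functionField := (fMap k f hf).toAlgebra

theorem fMap_germ {U : Y.Opens} (h : genericPoint Y ∈ U) (h' : genericPoint X ∈ f ⁻¹ᵁ U) (a : Γ(Y, U)) :
    fMap k f hf (Y.presheaf.germ U _ h a) = X.presheaf.germ (f ⁻¹ᵁ U) _ h' (f.app U a) :=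
  AVDegLib.ffMap_gm (overHom k f hf) h a

theorem fMap_algebraMap (c : k) :
    fMap k f hf (algebraMap k Y.functionField c) = algebraMap k X.functionField c :=
  AVDegLib.ffMap_algebraMap (overHom k f hf) c

theorem isScalarTower :
    letI := coverAlg k f hf
    IsScalarTower k Y.functionField X.functionField :=
  letI := coverAlg k f hf
  IsScalarTower.of_algebraMap_eq fun c => (fMap_algebraMap k f hf c).symm

theorem finiteDimensional :
    letI := coverAlg k f hf
    FiniteDimensional Y.functionField X.functionField :=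
  AVDegLib.finiteDimensional_ff (overHom k f hf)

theorem finrank_cover [Flat f] [LocallyOfFinitePresentation f] (y : Y) :
    letI := coverAlg k f hf
    Module.finrank Y.functionField X.functionField = f.finrank y := by
  haveI : Flat (overHom k f hf).left := ‹Flat f›
  haveI : LocallyOfFinitePresentation (overHom k f hf).left := ‹LocallyOfFinitePresentation f›
  exact (AVDegLib.finrank_eq (overHom k f hf) y).symm

/-- The inclusion is compatible with the maps of local rings. -/
theorem fMap_stalk (a : X) (b : Y.presheaf.stalk (f a)) :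
    fMap k f hf (algebraMap (Y.presheaf.stalk (f a)) Y.functionField b) =
      algebraMap (X.presheaf.stalk a) X.functionField (f.stalkMap a b) := by
  obtain ⟨U, ha, s, rfl⟩ := Y.presheaf.exists_germ_eq b
  have hη : genericPoint Y ∈ U := ((genericPoint_spec Y).specializes (Set.mem_univ (f a))).mem_open U.isOpen ha
  have hη' : genericPoint X ∈ f ⁻¹ᵁ U :=
    ((genericPoint_spec X).specializes (Set.mem_univ a)).mem_open (f ⁻¹ᵁ U).isOpen ha
  rw [Scheme.Hom.germ_stalkMap_apply]
  have h1 : algebraMap (Y.presheaf.stalk (f a)) Y.functionField (Y.presheaf.germ U (f a) ha s) =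
      Y.presheaf.germ U _ hη s :=
    TopCat.Presheaf.germ_stalkSpecializes_apply (F := Y.presheaf) (U := U) (hy := ha) _ _
  have h2 : algebraMap (X.presheaf.stalk a) X.functionField (X.presheaf.germ (f ⁻¹ᵁ U) a ha (f.app U s)) =
      X.presheaf.germ (f ⁻¹ᵁ U) _ hη' (f.app U s) :=
    TopCat.Presheaf.germ_stalkSpecializes_apply (F := X.presheaf) (U := f ⁻¹ᵁ U) (hy := ha) _ _
  rw [h1, h2]
  exact fMap_germ k f hf hη hη' s

variable [IsAlgClosed k] [IsProper (X ↘ Spec (CommRingCat.of k))] [Smooth (X ↘ Spec (CommRingCat.of k))]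
  [IsProper (Y ↘ Spec (CommRingCat.of k))] [Smooth (Y ↘ Spec (CommRingCat.of k))]
  (hdX : topologicalKrullDim X = 1) (hdY : topologicalKrullDim Y = 1)

/-- The image of a closed point. -/
def imgPt (a : CurveFF.Pt X) : CurveFF.Pt Y :=
  ⟨f a.1, by simpa [Set.image_singleton] using f.isClosedMap _ a.2⟩

include hdX hdY

/-- Places lie over the images of their points. -/
theorem exists_overWith (a : CurveFF.Pt X) :
    letI := coverAlg k f hf
    ∃ e, 1 ≤ e ∧ FunFld.IsOverWith (CurveFF.pl k X hdX a) (CurveFF.pl k Y hdY (imgPt f a)) e := by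
  letI := coverAlg k f hf
  haveI := isScalarTower k f hf
  haveI := finiteDimensional k f hf
  obtain ⟨P, e, he1, he⟩ := FFLib.exists_over (CurveFF.isFunctionField k Y hdY).1 (CurveFF.pl k X hdX a)
  suffices h : CurveFF.pl k Y hdY (imgPt f a) = P from ⟨e, he1, h ▸ he⟩
  refine FFLib.place_eq_of_le fun c hc => ?_
  obtain ⟨b, rfl⟩ := (CurveFF.inR_iff k Y hdY (imgPt f a) c).2 hc
  have h1 : (CurveFF.pl k X hdX a).1 (fMap k f hf (algebraMap (Y.presheaf.stalk (f a.1)) Y.functionField b)) ≤ 1 := by
    rw [fMap_stalk]
    exact (CurveFF.inR_iff k X hdX a _).1 ⟨_, rfl⟩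
  exact (pow_le_one_iff (by omega)).1 ((he _).symm.trans_le h1)

/-- At an unramified point the local parameters go to local parameters. -/
theorem map_maximalIdeal (a : CurveFF.Pt X)
    (h : letI := coverAlg k f hf
      FunFld.IsOverWith (CurveFF.pl k X hdX a) (CurveFF.pl k Y hdY (imgPt f a)) 1) :
    IsLocalRing.maximalIdeal (X.presheaf.stalk a.1) ≤
      Ideal.map (f.stalkMap a.1).hom (IsLocalRing.maximalIdeal (Y.presheaf.stalk (f a.1))) := by
  letI := coverAlg k f hf
  haveI : IsDiscreteValuationRing (Y.presheaf.stalk (f a.1)) := CurveFF.isDVR k Y hdY (imgPt f a).2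
  haveI := CurveFF.isDVR k X hdX a.2
  obtain ⟨t, ht⟩ := IsDiscreteValuationRing.exists_irreducible (Y.presheaf.stalk (f a.1))
  have htP : (CurveFF.pl k Y hdY (imgPt f a)).1 (algebraMap (Y.presheaf.stalk (f a.1)) Y.functionField t) = WithZero.exp (-1 : ℤ) := by
    show (IsDiscreteValuationRing.maximalIdeal (Y.presheaf.stalk (f a.1))).valuation Y.functionField _ = _
    rw [IsDedekindDomain.HeightOneSpectrum.valuation_of_algebraMap,
      IsDedekindDomain.HeightOneSpectrum.intValuation_singleton _ ht.ne_zero
        (show (IsDiscreteValuationRing.maximalIdeal (Y.presheaf.stalk (f a.1))).asIdeal = Ideal.span {t} from ht.maximalIdeal_eq)]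
  have hsQ : (CurveFF.pl k X hdX a).1 (algebraMap (X.presheaf.stalk a.1) X.functionField (f.stalkMap a.1 t)) = WithZero.exp (-1 : ℤ) := by
    rw [← fMap_stalk k f hf a.1 t, show fMap k f hf (algebraMap (Y.presheaf.stalk (f a.1)) Y.functionField t) =
      algebraMap Y.functionField X.functionField (algebraMap (Y.presheaf.stalk (f a.1)) Y.functionField t) from rfl, h, htP, pow_one]
  intro x hx
  refine Ideal.mem_of_dvd _ ?_ (Ideal.mem_map_of_mem _ ((IsLocalRing.mem_maximalIdeal t).2 ht.not_isUnit))
  obtain ⟨π, hπ⟩ := IsDiscreteValuationRing.exists_irreducible (X.presheaf.stalk a.1)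
  set v := IsDiscreteValuationRing.maximalIdeal (X.presheaf.stalk a.1)
  have hv : v.intValuation (f.stalkMap a.1 t) = WithZero.exp (-(1 : ℕ) : ℤ) := by
    have := hsQ
    change v.valuation X.functionField _ = _ at this
    rwa [IsDedekindDomain.HeightOneSpectrum.valuation_of_algebraMap] at this
  have hnot : ¬ v.asIdeal ^ 2 ∣ Ideal.span {(f.stalkMap a.1 t)} := fun hd => by
    have := (v.intValuation_le_pow_iff_dvd (f.stalkMap a.1 t) 2).2 hd
    rw [hv, WithZero.exp_le_exp] at this
    omega
  have hdvd : Ideal.span {(f.stalkMap a.1 t)} = v.asIdeal := by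
    have h0 : (f.stalkMap a.1 t) ≠ 0 := fun h0 => by
      rw [h0, map_zero] at hv; exact WithZero.exp_ne_zero hv.symm
    obtain ⟨n, hn⟩ := IsDiscreteValuationRing.ideal_eq_span_pow_irreducible
      (Ideal.span_singleton_eq_bot.not.2 h0) hπ
    have hvπ : v.asIdeal = Ideal.span {π} := hπ.maximalIdeal_eq
    rw [hn, hvπ, Ideal.span_singleton_pow] at hnot
    have hn0 : n ≠ 0 := by
      rintro rfl
      rw [pow_zero, Ideal.span_singleton_one, Ideal.span_singleton_eq_top] at hn
      have := (v.intValuation_lt_one_iff_mem (f.stalkMap a.1 t)).1 (by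
        rw [hv, ← WithZero.exp_zero, WithZero.exp_lt_exp]; omega)
      exact v.isPrime.ne_top (Ideal.eq_top_of_isUnit_mem _ this hn)
    have hn1 : n < 2 := by
      by_contra! h2
      exact hnot (Ideal.dvd_iff_le.2 ((Ideal.span_singleton_le_span_singleton).2 (pow_dvd_pow π h2)))
    rw [hn, hvπ, show n = 1 by omega, pow_one]
  exact Ideal.mem_span_singleton.1 (hdvd.symm ▸ hx)

end Groth.Agent.LS17
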