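import Groth.Agent.LS17.Cover
import Groth.Agent.LS17.Exists
import Groth.Agent.LS17.CastEq
import Groth.Agent.AlgStLib.Noetherian
import Groth.Agent.H23.RatExtend
import Groth.Agent.CurveLuroth.FF

/-! Two double covers of curves. -/

noncomputable section

set_option linter.style.haveILetI false
set_option linter.unusedSectionVars false
set_option backward.isDefEq.respectTransparency false
set_option backward.isDefEq.respectTransparency.types false

universe u

open CategoryTheory CategoryTheory.Limits AlgebraicGeometry TopologicalSpace Opposite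

namespace Groth.Agent.LS17

attribute [local instance] CurveFF.ffAlg

variable (k : Type u) [Field k] {X Y : Scheme.{u}} [X.Over (Spec (CommRingCat.of k))]
  [Y.Over (Spec (CommRingCat.of k))] [IsIntegral X] [IsIntegral Y]
  (f : X ⟶ Y) (hf : f ≫ (Y ↘ Spec (CommRingCat.of k)) = X ↘ Spec (CommRingCat.of k))

theorem surjective_of_rank [Flat f] [IsFinite f] {n : ℕ} (hn : 1 ≤ n) (hr : ∀ y : Y, f.finrank y = n) :
    Surjective f :=
  (Scheme.Hom.one_le_finrank_iff_surjective f).1 fun y => le_of_le_of_eq hn (hr y).symm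

theorem lfp_cover [IsFinite f] [IsProper (Y ↘ Spec (CommRingCat.of k))] : LocallyOfFinitePresentation f := by
  haveI := CurveCohLib.isNoetherian_of_proper (k := k) (X := Y)
  exact AlgStLib.locallyOfFinitePresentation_of_isLocallyNoetherian f inferInstance

variable [IsFinite f] [Surjective f]

/-- The cover on generic points. -/
theorem fromSpecStalk_comp :
    X.fromSpecStalk (genericPoint X) ≫ f =
      Spec.map (CommRingCat.ofHom (fMap k f hf)) ≫ Y.fromSpecStalk (genericPoint Y) := by
  have hη : f (genericPoint X) = genericPoint Y := AVDegLib.map_eta (overHom k f hf)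
  rw [show CommRingCat.ofHom (fMap k f hf) =
    Y.presheaf.stalkSpecializes (specializes_of_eq hη) ≫ f.stalkMap (genericPoint X) from rfl, Spec.map_comp,
    Category.assoc, Scheme.SpecMap_stalkSpecializes_fromSpecStalk, Scheme.SpecMap_stalkMap_fromSpecStalk]

variable (X Y) in
/-- Morphisms into proper schemes extend from the generic point. -/
theorem exists_hom_of_ff [IsProper (Y ↘ Spec (CommRingCat.of k))] (hX : ∀ x : X, ValuationRing (X.presheaf.stalk x))
    (ψ : Y.functionField →+* X.functionField)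
    (hψ : ∀ c : k, ψ (algebraMap k Y.functionField c) = algebraMap k X.functionField c) :
    ∃ H : X ⟶ Y, H ≫ (Y ↘ Spec (CommRingCat.of k)) = X ↘ Spec (CommRingCat.of k) ∧
      X.fromSpecStalk (genericPoint X) ≫ H = Spec.map (CommRingCat.ofHom ψ) ≫ Y.fromSpecStalk (genericPoint Y) := by
  let a := Y ↘ Spec (CommRingCat.of k)
  let b := X ↘ Spec (CommRingCat.of k)
  have hC : ∀ (Z : Scheme.{u}) [Z.Over (Spec (CommRingCat.of k))] [IsIntegral Z] (c : k),
      (CurveLuroth.ffC (Z ↘ Spec (CommRingCat.of k))).hom c = algebraMap k Z.functionField c := by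
    intro Z _ _ c
    have : CurveLuroth.ffC (Z ↘ Spec (CommRingCat.of k)) =
        CommRingCat.ofHom (algebraMap k Z.functionField) := by
      apply Spec.map_injective
      rw [CurveLuroth.spec_ffC]
      have hnat := Scheme.toSpecΓ_naturality (Z ↘ Spec (CommRingCat.of k))
      have h1 : Z ↘ Spec (CommRingCat.of k) = Z.toSpecΓ ≫ Spec.map (Z ↘ Spec (CommRingCat.of k)).appTop ≫
          Spec.map (Scheme.ΓSpecIso (CommRingCat.of k)).inv := by
        rw [← reassoc_of% hnat, toSpecΓ_SpecMap_ΓSpecIso_inv, Category.comp_id]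
      conv_lhs => rw [h1]
      rw [Scheme.fromSpecStalk_toSpecΓ_assoc, ← Spec.map_comp, ← Spec.map_comp]
      rfl
    rw [this]; rfl
  have hψ' : CurveLuroth.ffC a ≫ CommRingCat.ofHom ψ = CurveLuroth.ffC b := by
    refine CommRingCat.hom_ext (RingHom.ext fun c => ?_)
    show ψ ((CurveLuroth.ffC a).hom c) = (CurveLuroth.ffC b).hom c
    rw [hC, hC, hψ]
  haveI : Y.IsSeparated := ⟨by rw [← Limits.terminal.comp_from a]; infer_instance⟩
  have h₀ : (Spec.map (CommRingCat.ofHom ψ) ≫ Y.fromSpecStalk (genericPoint Y)) ≫ a = X.fromSpecStalk _ ≫ b := by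
    rw [Category.assoc, ← CurveLuroth.spec_ffC, ← Spec.map_comp, hψ', CurveLuroth.spec_ffC]
  obtain ⟨W, hW, H, hsub, hH, hH'⟩ := H23.RatExtend.extend b a _ h₀ Set.univ
    fun p _ => H23.RatExtend.exists_lift b a _ h₀ p (hX p)
  haveI : IsIso W.ι := by
    have : Surjective W.ι := ⟨fun y => ⟨⟨y, hsub trivial⟩, rfl⟩⟩
    exact (isIso_iff_isOpenImmersion_and_surjective _).2 ⟨inferInstance, this⟩
  refine ⟨inv W.ι ≫ H, by rw [Category.assoc, hH, IsIso.inv_hom_id_assoc], ?_⟩
  rw [← hH', ← Scheme.Opens.fromSpecStalkOfMem_ι W (genericPoint X) hW, Category.assoc,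
    IsIso.hom_inv_id_assoc]

theorem ext_generic {Z : Scheme.{u}} [Z.IsSeparated] {g h : X ⟶ Z}
    (e : X.fromSpecStalk (genericPoint X) ≫ g = X.fromSpecStalk (genericPoint X) ≫ h) : g = h := by
  haveI := H23.RatExtend.isDominant_fromSpecStalk (X := X)
  exact ext_of_isDominant (X.fromSpecStalk (genericPoint X)) e

end Groth.Agent.LS17
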