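import Groth.Agent.LS17.Hom

/-! Sections factoring through a submodule. -/

noncomputable section

set_option linter.style.haveILetI false
set_option linter.unusedSectionVars false
set_option backward.isDefEq.respectTransparency false
set_option backward.isDefEq.respectTransparency.types false

universe u

open CategoryTheory CategoryTheory.Limits AlgebraicGeometry TopologicalSpace Opposite

namespace Groth.Agent.LS17

attribute [local instance] CurveFF.ffAlg

variable (k : Type u) [Field k] [IsAlgClosed k] {X : Scheme.{u}} [X.Over (Spec (CommRingCat.of k))]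
  [IsIntegral X] [IsProper (X ↘ Spec (CommRingCat.of k))] [Smooth (X ↘ Spec (CommRingCat.of k))]
  (hdim : topologicalKrullDim X = 1)

/-- Lifts of independent sections are independent. -/
theorem linIndep_lift {M N : X.Modules} (ι : M ⟶ N) {m : ℕ} {w : Fin m → LinSer.Sect X N}
    (hw : LinSer.LinIndep k X N w) {v : Fin m → LinSer.Sect X M}
    (hv : ∀ j, (ι.val.app (op ⊤)).hom (v j) = w j) : LinSer.LinIndep k X M v := fun c hc => hw c (by
  have := congrArg (ι.val.app (op ⊤)).hom hc
  rw [map_sum, map_zero] at this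
  refine Eq.trans (Finset.sum_congr rfl fun j _ => ?_) this
  exact ((map_smul (ι.val.app (op ⊤)).hom _ _).trans (congrArg (_ • ·) (hv j))).symm)

/-- The sections of `M` are combinations of lifts when their number is `h⁰(M)`. -/
theorem exists_comb_of_card {M N : X.Modules} (hM : Coh.IsCoh M) (ι : M ⟶ N) {m : ℕ} {w : Fin m → LinSer.Sect X N}
    (hw : LinSer.LinIndep k X N w) {v : Fin m → LinSer.Sect X M}
    (hv : ∀ j, (ι.val.app (op ⊤)).hom (v j) = w j) (hm : Module.finrank k (Coh.HH X M 0) ≤ m)
    (z : LinSer.Sect X M) :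
    ∃ c : Fin m → k, (ι.val.app (op ⊤)).hom z =
      ∑ j, Coh.toGlobal (X ↘ Spec (CommRingCat.of k)) (c j) • w j := by
  have hnot : ¬ LinSer.LinIndep k X M (Fin.snoc v z) := fun h => by
    have := CurveCohLib.Pencil.le_h0_of_linIndep k hM _ h
    omega
  simp only [LinSer.LinIndep, not_forall] at hnot
  obtain ⟨c, hc, hc0⟩ := hnot
  rw [Fin.sum_univ_castSucc] at hc
  simp only [Fin.snoc_castSucc, Fin.snoc_last] at hc
  have hlast : c (Fin.last m) ≠ 0 := by
    intro h0
    refine hc0 (funext fun i => ?_)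
    rw [h0, map_zero, zero_smul, add_zero] at hc
    induction i using Fin.lastCases with
    | last => exact h0
    | cast j => exact congrFun (linIndep_lift k ι hw hv (fun j => c j.castSucc) hc) j
  refine ⟨fun j => -((c (Fin.last m))⁻¹ * c j.castSucc), ?_⟩
  have h1 := congrArg (ι.val.app (op ⊤)).hom hc
  rw [map_add, map_sum, map_zero] at h1
  have h2 : ∑ j : Fin m, Coh.toGlobal (X ↘ Spec (CommRingCat.of k)) (c j.castSucc) • w j +
      Coh.toGlobal (X ↘ Spec (CommRingCat.of k)) (c (Fin.last m)) • (ι.val.app (op ⊤)).hom z = 0 := by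
    refine Eq.trans (congrArg₂ (· + ·) (Finset.sum_congr rfl fun j _ => ?_) ?_) h1
    · exact ((map_smul (ι.val.app (op ⊤)).hom _ _).trans (congrArg (_ • ·) (hv j))).symm
    · exact (map_smul (ι.val.app (op ⊤)).hom _ _).symm
  have h3 := congrArg (Coh.toGlobal (X ↘ Spec (CommRingCat.of k)) (c (Fin.last m))⁻¹ • ·) h2
  simp only [smul_add, Finset.smul_sum, smul_smul, ← map_mul, smul_zero, inv_mul_cancel₀ hlast,
    map_one, one_smul] at h3
  simp only [map_neg, neg_smul, Finset.sum_neg_distrib]
  exact eq_neg_of_add_eq_zero_right h3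

include hdim in
theorem ell_lt_two_of_no_linSer {d : ℕ}
    (h : ¬ ∃ (N : X.Modules) (t : Fin 2 → LinSer.Sect X N), LinSer.IsLinSer k X N d 1 t) :
    ∀ A : FunFld.Divisor k X.functionField, A.deg = (d : ℤ) → FunFld.ell A < 2 := fun _ hA => by
  by_contra h'
  exact h (exists_linSer k hdim (r := 1) hA (by omega))

include hdim in
/-- A monomorphism into the differentials. -/
theorem sub_canonical {C : FunFld.Divisor k X.functionField}
    (hΩ : HasDiv k hdim (Omega.sheaf (X ↘ Spec (CommRingCat.of k))) C) {M : X.Modules} (hM : PicF.IsInvertible M)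
    (ι : M ⟶ Omega.sheaf (X ↘ Spec (CommRingCat.of k))) [Mono ι] {m : ℕ} (hm : 1 ≤ m)
    {w : Fin m → LinSer.Sect X (Omega.sheaf (X ↘ Spec (CommRingCat.of k)))}
    (hw : LinSer.LinIndep k X (Omega.sheaf (X ↘ Spec (CommRingCat.of k))) w)
    (hfac : ∀ j, ∃ v : LinSer.Sect X M, (ι.val.app (op ⊤)).hom v = w j) :
    ∃ D, HasDiv k hdim M D ∧ m ≤ FunFld.ell D ∧ 0 < FunFld.ell (C - D) := by
  haveI := CurveCohLib.isNoetherian_of_proper (k := k) (X := X)
  choose v hv using hfac
  have h1 := CurveCohLib.Pencil.le_h0_of_linIndep k (CurveDeg.isCoh_of_isInvertible hM) v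
    (linIndep_lift k ι hw hv)
  obtain ⟨D, hD⟩ := exists_hasDiv k hdim hM
  refine ⟨D, hD, hD.h0 k hdim ▸ h1, lin_of_hom k hdim hD hΩ ι (ne_zero_of_mono k hdim ι (by omega))⟩

end Groth.Agent.LS17
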