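import Groth.Agent.LS17.CoverIso
import Groth.Agent.LS17.Factor
import Groth.Agent.CurveBC.Etale
import Groth.Agent.Nrm6.PMod
import Groth.Agent.S0843
import Groth.Agent.CurveEmbed.Immersion

/-! Maps of curves to projective space through finite covers. -/

noncomputable section

set_option linter.style.haveILetI false
set_option linter.unusedSectionVars false
set_option backward.isDefEq.respectTransparency false
set_option backward.isDefEq.respectTransparency.types false

universe u

open CategoryTheory CategoryTheory.Limits AlgebraicGeometry TopologicalSpace Opposite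

namespace Groth.Agent.LS17

attribute [local instance] CurveFF.ffAlg

theorem dichotomy {k K : Type*} [Field k] [IsAlgClosed k] [Field K] [Algebra k K]
    (hK : FunFld.IsFunctionField k K) {D : FunFld.Divisor k K} {r : ℕ} (h : r + 1 ≤ FunFld.ell D) :
    (r : ℤ) + FunFld.genus k K ≤ D.deg ∨ 2 * (r : ℤ) ≤ D.deg := by
  obtain ⟨C, hC⟩ := FFLib.exists_canonical hK
  have h1 := (rr_C hK hC D).1
  rcases Nat.eq_zero_or_pos (FunFld.ell (C - D)) with h0 | h0
  · exact Or.inl (by omega)
  · have h2 := hopf hK (D := D) (E := C - D) (by omega) h0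
    rw [add_sub_cancel, FFLib.ell_canonical hK hC] at h2
    exact Or.inr (by omega)

theorem pullSect_eq_zero {Y Z W : Scheme.{u}} (h : Z ⟶ Y) (j : W ⟶ Z) (g : W ⟶ Y) (e : j ≫ h = g)
    (M : Y.Modules) (U : Y.Opens) (t : Γ(M, U)) (h0 : OmegaSh.pullSect h M U t = 0) :
    OmegaSh.pullSect g M U t = 0 := by
  have h1 := Nrm6.pullTo_pullSect h j g e M U t
  rw [h0, map_zero] at h1
  refine (ConcreteCategory.bijective_of_isIso (((Scheme.Modules.pullback g).obj M).presheaf.map
    (eqToHom (by subst e; rfl : j ⁻¹ᵁ (h ⁻¹ᵁ U) = g ⁻¹ᵁ U)).op)).1 ?_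
  rw [map_zero]
  exact h1.symm

theorem isInvertible_O1 (k : Type u) [Field k] (r : ℕ) : PicF.IsInvertible (Twist.twistProjSpace r k 1) :=
  PnCoh.Finite.isInvertible_twist (fun j : ULift.{u} (Fin (r + 1)) => MvPolynomial.X j.down)
    (fun j => ProjPt.X_mem j.down) (by
      refine top_le_iff.1 ((AmpleEmbed.iSup_basicOpen_X r k).ge.trans (iSup_le fun j => ?_))
      exact le_iSup_of_le (ULift.up j) le_rfl) 1

theorem finrank_linear (k : Type u) [Field k] (n : ℕ) :
    Module.finrank k ↥(MvPolynomial.homogeneousSubmodule (Fin n) k 1) = n := by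
  rw [MvPolynomial.homogeneousSubmodule_one_eq_span_X,
    finrank_span_eq_card (MvPolynomial.linearIndependent_X (Fin n) k), Fintype.card_fin]

variable (k : Type u) [Field k] [IsAlgClosed k] {X Y : Scheme.{u}} [X.Over (Spec (CommRingCat.of k))]
  [Y.Over (Spec (CommRingCat.of k))] [IsIntegral X] [IsIntegral Y]
  [IsProper (X ↘ Spec (CommRingCat.of k))] [IsProper (Y ↘ Spec (CommRingCat.of k))]
  [Smooth (X ↘ Spec (CommRingCat.of k))] [Smooth (Y ↘ Spec (CommRingCat.of k))]
  (hdX : topologicalKrullDim X = 1) (hdY : topologicalKrullDim Y = 1)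

omit [IsAlgClosed k] [Smooth (X ↘ Spec (CommRingCat.of k))] [Smooth (Y ↘ Spec (CommRingCat.of k))] in
/-- Degrees of pullbacks under covers of constant rank. -/
theorem deg_pullback_rank (hdY : topologicalKrullDim Y = 1) (f : X ⟶ Y)
    (hf : f ≫ (Y ↘ Spec (CommRingCat.of k)) = X ↘ Spec (CommRingCat.of k))
    [IsFinite f] [Flat f] {a : ℕ} (ha : ∀ y : Y, f.finrank y = a) {L : Y.Modules} (hL : PicF.IsInvertible L) :
    Curv2.deg k X ((Scheme.Modules.pullback f).obj L) 1 = (a : ℤ) * Curv2.deg k Y L 1 := by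
  haveI := lfp_cover k f
  have hd : a = CurveBC.coverDeg f := by
    have h := H23.CoverPush.isCover_of_crit f (H23.CoverPush.crit_of_isFinLocFreeOfRank_push f
      (CurveBC.isFinLocFreeOfRank_push f))
    exact (ha (genericPoint Y)).symm.trans (h.2 _)
  rw [hd]
  exact CurveBC.deg_pullback k f hdY hf hL

variable {r : ℕ}

omit [IsAlgClosed k] [IsIntegral Y] [Smooth (Y ↘ Spec (CommRingCat.of k))] in
/-- A map to projective space whose pullback of sections is injective has enough sections. -/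
theorem le_h0_pullback (h : Y ⟶ CohB1.ProjSpace r k)
    (hh : h ≫ CohB1.ProjSpace.toSpec r k = Y ↘ Spec (CommRingCat.of k))
    (hnd : ∀ s : LinSer.Sect (CohB1.ProjSpace r k) (Twist.twistProjSpace r k 1), s ≠ 0 →
      OmegaSh.pullSect h (Twist.twistProjSpace r k 1) ⊤ s ≠ 0) :
    r + 1 ≤ Module.finrank k (Coh.HH Y ((Scheme.Modules.pullback h).obj (Twist.twistProjSpace r k 1)) 0) := by
  set O1 := Twist.twistProjSpace r k 1 with hO1
  letI : (CohB1.ProjSpace r k).Over (Spec (CommRingCat.of k)) := ⟨CohB1.ProjSpace.toSpec r k⟩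
  haveI : IsProper (CohB1.ProjSpace r k ↘ Spec (CommRingCat.of k)) := PnCoh.Chow.isProper_toSpec r k
  haveI := CurveCohLib.isNoetherian_of_proper (k := k) (X := CohB1.ProjSpace r k)
  haveI := CurveCohLib.isNoetherian_of_proper (k := k) (X := Y)
  have hL := PicClLib.isInvertible_pullback h (isInvertible_O1 k r)
  have h0 : r + 1 ≤ Module.finrank k (Coh.HH (CohB1.ProjSpace r k) O1 0) := by
    obtain ⟨φ⟩ := S0843.result k r 1
    have := φ.finrank_eq
    rw [finrank_linear] at this
    exact this.ge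
  obtain ⟨s, hs⟩ := exists_linIndep k (CurveDeg.isCoh_of_isInvertible (isInvertible_O1 k r)) h0
  refine CurveCohLib.Pencil.le_h0_of_linIndep k (CurveDeg.isCoh_of_isInvertible hL)
    (fun i => OmegaSh.pullSect h O1 ⊤ (s i)) fun c hc => hs c ?_
  by_contra hne
  refine hnd _ hne (Eq.trans ?_ hc)
  refine (map_sum (((Scheme.Modules.pullbackPushforwardAdjunction h).unit.app O1).app ⊤).hom _ _).trans ?_
  refine Finset.sum_congr rfl fun i _ => ?_
  refine (OmegaSh.pullSect_smul h O1 ⊤ _ _).trans ?_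
  refine congrArg (fun a : Γ(Y, h ⁻¹ᵁ ⊤) => a • OmegaSh.pullSect h O1 ⊤ (s i)) ?_
  show h.appTop ((CohB1.ProjSpace.toSpec r k).appTop ((Scheme.ΓSpecIso (CommRingCat.of k)).inv (c i))) =
    (Y ↘ Spec (CommRingCat.of k)).appTop ((Scheme.ΓSpecIso (CommRingCat.of k)).inv (c i))
  rw [← CommRingCat.comp_apply, ← Scheme.Hom.comp_appTop, hh]

include hdY in
/-- The map through a cover: divisor downstairs, with the degree upstairs. -/
theorem exists_divisor_of_cover (f : X ⟶ Y) (hf : f ≫ (Y ↘ Spec (CommRingCat.of k)) = X ↘ Spec (CommRingCat.of k))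
    [IsFinite f] [Flat f] {a : ℕ} (ha : ∀ y : Y, f.finrank y = a)
    (h : Y ⟶ CohB1.ProjSpace r k) (hh : h ≫ CohB1.ProjSpace.toSpec r k = Y ↘ Spec (CommRingCat.of k))
    (hnd : ∀ s : LinSer.Sect (CohB1.ProjSpace r k) (Twist.twistProjSpace r k 1), s ≠ 0 →
      OmegaSh.pullSect (f ≫ h) (Twist.twistProjSpace r k 1) ⊤ s ≠ 0) :
    PicF.IsInvertible ((Scheme.Modules.pullback (f ≫ h)).obj (Twist.twistProjSpace r k 1)) ∧
    r + 1 ≤ Module.finrank k (Coh.HH X ((Scheme.Modules.pullback (f ≫ h)).obj (Twist.twistProjSpace r k 1)) 0) ∧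
    ∃ D : FunFld.Divisor k Y.functionField, r + 1 ≤ FunFld.ell D ∧
      Curv2.deg k X ((Scheme.Modules.pullback (f ≫ h)).obj (Twist.twistProjSpace r k 1)) 1 = (a : ℤ) * D.deg := by
  have hL := PicClLib.isInvertible_pullback h (isInvertible_O1 k r)
  obtain ⟨D, hD⟩ := exists_hasDiv k hdY hL
  have hle := le_h0_pullback k h hh fun s hs h0 =>
    hnd s hs (pullSect_eq_zero h f (f ≫ h) rfl (Twist.twistProjSpace r k 1) ⊤ s h0)
  refine ⟨PicClLib.isInvertible_pullback (f ≫ h) (isInvertible_O1 k r),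
    le_h0_pullback k (f ≫ h) (by rw [Category.assoc, hh, hf]) hnd, D, hD.h0 k hdY ▸ hle, ?_⟩
  rw [← CurveRR.deg_congr k ((Scheme.Modules.pullbackComp f h).app (Twist.twistProjSpace r k 1)) 1]
  exact (deg_pullback_rank k hdY f hf ha hL).trans (by rw [hD.deg k hdY])

end Groth.Agent.LS17
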