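import Groth.Agent.LS17.CoverIso
import Groth.Agent.CurveFF.Degree
import Groth.Agent.S10867

/-! Pairs of double covers: uniqueness and the equality case. -/

noncomputable section

set_option linter.style.haveILetI false
set_option linter.unusedSectionVars false
set_option backward.isDefEq.respectTransparency false
set_option backward.isDefEq.respectTransparency.types false

universe u

open CategoryTheory CategoryTheory.Limits AlgebraicGeometry TopologicalSpace Opposite

namespace Groth.Agent.LS17

attribute [local instance] CurveFF.ffAlg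

variable (k : Type u) [Field k] [IsAlgClosed k] {X Y : Scheme.{u}} [X.Over (Spec (CommRingCat.of k))]
  [Y.Over (Spec (CommRingCat.of k))] [IsIntegral X] [IsIntegral Y]
  [IsProper (X ↘ Spec (CommRingCat.of k))] [IsProper (Y ↘ Spec (CommRingCat.of k))]
  [Smooth (X ↘ Spec (CommRingCat.of k))] [Smooth (Y ↘ Spec (CommRingCat.of k))]
  (hdX : topologicalKrullDim X = 1) (hdY : topologicalKrullDim Y = 1)

include k hdX in
theorem valuationRing_stalk (x : X) : ValuationRing (X.presheaf.stalk x) := by
  rcases CurveFF.eq_or_isClosed k X hdX x with rfl | hx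
  · show ValuationRing X.functionField
    infer_instance
  · haveI := CurveFF.isDVR k X hdX hx
    infer_instance

variable {Z : Scheme.{u}} [Z.Over (Spec (CommRingCat.of k))] [IsIntegral Z]
  [IsProper (Z ↘ Spec (CommRingCat.of k))] [Smooth (Z ↘ Spec (CommRingCat.of k))]
  (hdZ : topologicalKrullDim Z = 1)
  (f : X ⟶ Y) (hf : f ≫ (Y ↘ Spec (CommRingCat.of k)) = X ↘ Spec (CommRingCat.of k))
  (g : X ⟶ Z) (hg : g ≫ (Z ↘ Spec (CommRingCat.of k)) = X ↘ Spec (CommRingCat.of k))
  [IsFinite f] [Flat f] (hrf : ∀ y : Y, f.finrank y = 2)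
  [IsFinite g] [Flat g] (hrg : ∀ z : Z, g.finrank z = 2)

include hrf hf in
theorem finrank_two [Surjective f] :
    letI := coverAlg k f hf
    Module.finrank Y.functionField X.functionField = 2 := by
  haveI := lfp_cover k f
  exact (finrank_cover k f hf (genericPoint Y)).trans (hrf _)

include hdY hdZ hrf hrg in
/-- Double covers with the same field are isomorphic. -/
theorem exists_iso_of_range [Surjective f] [Surjective g]
    (h : ∀ z : Z.functionField, fMap k g hg z ∈ Set.range (fMap k f hf)) :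
    ∃ e : Y ≅ Z, e.hom ≫ (Z ↘ Spec (CommRingCat.of k)) = (Y ↘ Spec (CommRingCat.of k)) ∧ f ≫ e.hom = g := by
  choose ψ₀ hψ₀ using h
  have hi := (fMap k f hf).injective
  let ψ : Z.functionField →+* Y.functionField :=
    { toFun := ψ₀
      map_one' := hi (by rw [hψ₀, map_one, map_one])
      map_mul' := fun a b => hi (by rw [hψ₀, map_mul, map_mul, hψ₀, hψ₀])
      map_zero' := hi (by rw [hψ₀, map_zero, map_zero])
      map_add' := fun a b => hi (by rw [hψ₀, map_add, map_add, hψ₀, hψ₀]) }
  have hψ : ∀ c : k, ψ (algebraMap k Z.functionField c) = algebraMap k Y.functionField c :=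
    fun c => hi ((hψ₀ _).trans (by rw [fMap_algebraMap, fMap_algebraMap]))
  have hsurj : Function.Surjective ψ := by
    letI := coverAlg k f hf
    letI := coverAlg k g hg
    letI := ψ.toAlgebra
    haveI : IsScalarTower Z.functionField Y.functionField X.functionField :=
      IsScalarTower.of_algebraMap_eq fun z => (hψ₀ z).symm
    haveI := finiteDimensional k g hg
    haveI := finiteDimensional k f hf
    have hmul := Module.finrank_mul_finrank Z.functionField Y.functionField X.functionField
    rw [finrank_two k f hf hrf, finrank_two k g hg hrg] at hmul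
    intro y
    obtain ⟨c, hc⟩ := (finrank_eq_one_iff_of_nonzero' (1 : Y.functionField) one_ne_zero).mp
      (show Module.finrank Z.functionField Y.functionField = 1 by omega) y
    exact ⟨c, by rw [← hc, Algebra.smul_def, mul_one]; rfl⟩
  let ψe := RingEquiv.ofBijective ψ ⟨ψ.injective, hsurj⟩
  obtain ⟨H, hH, hH'⟩ := exists_hom_of_ff k Y Z (valuationRing_stalk k hdY) ψ hψ
  obtain ⟨H', hH'1, hH'2⟩ := exists_hom_of_ff k Z Y (valuationRing_stalk k hdZ) ψe.symm.toRingHom fun c => by
    refine ψe.injective ?_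
    rw [show ψe.symm.toRingHom (algebraMap k Y.functionField c) = ψe.symm (algebraMap k Y.functionField c) from rfl,
      RingEquiv.apply_symm_apply]
    exact (hψ c).symm
  have hsep : ∀ (W : Scheme.{u}) [W.Over (Spec (CommRingCat.of k))] [IsProper (W ↘ Spec (CommRingCat.of k))],
      W.IsSeparated := fun W _ _ =>
    ⟨by rw [← Limits.terminal.comp_from (W ↘ Spec (CommRingCat.of k))]; infer_instance⟩
  haveI := hsep Y
  haveI := hsep Z
  have hfH : f ≫ H = g := by
    refine ext_generic ?_
    rw [reassoc_of% fromSpecStalk_comp k f hf, hH', fromSpecStalk_comp k g hg, ← Spec.map_comp_assoc]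
    congr 2
    exact CommRingCat.hom_ext (RingHom.ext fun z => hψ₀ z)
  have hgH : g ≫ H' = f := by
    refine ext_generic ?_
    rw [reassoc_of% fromSpecStalk_comp k g hg, hH'2, fromSpecStalk_comp k f hf, ← Spec.map_comp_assoc]
    congr 2
    refine CommRingCat.hom_ext (RingHom.ext fun y => ?_)
    show fMap k g hg (ψe.symm y) = fMap k f hf y
    rw [← hψ₀]
    exact congrArg (fMap k f hf) (ψe.apply_symm_apply y)
  refine ⟨⟨H, H', ?_, ?_⟩, hH, hfH⟩
  · exact ext_of_isDominant f (by rw [reassoc_of% hfH, hgH, Category.comp_id])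
  · exact ext_of_isDominant g (by rw [reassoc_of% hgH, hfH, Category.comp_id])

variable (hne : ¬ ∃ e : Y ≅ Z, e.hom ≫ (Z ↘ Spec (CommRingCat.of k)) = (Y ↘ Spec (CommRingCat.of k)) ∧ f ≫ e.hom = g)

include hdX hdY hdZ hrf hrg hne hf hg

/-- Castelnuovo–Severi for two distinct double covers. -/
theorem genus_le_of_two_covers :
    Curv2.genus k X ≤ 2 * Curv2.genus k Y + 2 * Curv2.genus k Z + 1 := by
  haveI := surjective_of_rank f one_le_two hrf
  haveI := surjective_of_rank g one_le_two hrg
  letI := coverAlg k f hf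
  letI := coverAlg k g hg
  haveI := isScalarTower k f hf
  haveI := isScalarTower k g hg
  rw [← CurveFF.genus_eq k hdX, ← CurveFF.genus_eq k hdY, ← CurveFF.genus_eq k hdZ]
  exact castelnuovo_severi (CurveFF.isFunctionField k X hdX) (CurveFF.isFunctionField k Y hdY)
    (CurveFF.isFunctionField k Z hdZ) (finrank_two k f hf hrf) (finrank_two k g hg hrg)
    fun h => hne (exists_iso_of_range k hdY hdZ f hf g hg hrf hrg h)

/-- In the equality case the first quotient has a pencil of degree two. -/
theorem exists_pencil_of_two_covers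
    (heq : Curv2.genus k X = 2 * Curv2.genus k Y + 2 * Curv2.genus k Z + 1) :
    ∃ M : Y.Modules, PicF.IsInvertible M ∧ Curv2.deg k Y M 1 = 2 ∧ 2 ≤ Module.finrank k (Coh.HH Y M 0) := by
  haveI := surjective_of_rank f one_le_two hrf
  haveI := surjective_of_rank g one_le_two hrg
  letI := coverAlg k f hf
  letI := coverAlg k g hg
  haveI := isScalarTower k f hf
  haveI := isScalarTower k g hg
  rw [← CurveFF.genus_eq k hdX, ← CurveFF.genus_eq k hdY, ← CurveFF.genus_eq k hdZ] at heq
  obtain ⟨D, hD0, hDd, hDl⟩ := exists_pencil_two (CurveFF.isFunctionField k X hdX)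
    (CurveFF.isFunctionField k Y hdY) (CurveFF.isFunctionField k Z hdZ) (finrank_two k f hf hrf)
    (finrank_two k g hg hrg) heq fun h => hne (exists_iso_of_range k hdY hdZ f hf g hg hrf hrg h)
  obtain ⟨M, hM⟩ := exists_mod k hdY D
  exact ⟨M, hM.1, (hM.deg k hdY).trans hDd, (hM.h0 k hdY).symm ▸ hDl⟩

/-- In the equality case the curve embeds into the product. -/
theorem isClosedImmersion_of_two_covers
    (heq : Curv2.genus k X = 2 * Curv2.genus k Y + 2 * Curv2.genus k Z + 1) :
    IsClosedImmersion (pullback.lift f g (hf.trans hg.symm) :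
      X ⟶ pullback (Y ↘ Spec (CommRingCat.of k)) (Z ↘ Spec (CommRingCat.of k))) := by
  haveI := surjective_of_rank f one_le_two hrf
  haveI := surjective_of_rank g one_le_two hrg
  letI := coverAlg k f hf
  letI := coverAlg k g hg
  haveI := isScalarTower k f hf
  haveI := isScalarTower k g hg
  rw [← CurveFF.genus_eq k hdX, ← CurveFF.genus_eq k hdY, ← CurveFF.genus_eq k hdZ] at heq
  have hpair := fun {Q Q' : FunFld.Place k X.functionField} {P₁ P₂ e₁ e₂ e₁' e₂'} =>
    no_common_pair (CurveFF.isFunctionField k X hdX) (CurveFF.isFunctionField k Y hdY)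
      (CurveFF.isFunctionField k Z hdZ) (finrank_two k f hf hrf) (finrank_two k g hg hrg) heq
      (fun h => hne (exists_iso_of_range k hdY hdZ f hf g hg hrf hrg h))
      (Q := Q) (Q' := Q') (P₁ := P₁) (P₂ := P₂) (e₁ := e₁) (e₂ := e₂) (e₁' := e₁') (e₂' := e₂')
  set φ : X ⟶ pullback (Y ↘ Spec (CommRingCat.of k)) (Z ↘ Spec (CommRingCat.of k)) :=
    pullback.lift f g (hf.trans hg.symm)
  let q := pullback.fst (Y ↘ Spec (CommRingCat.of k)) (Z ↘ Spec (CommRingCat.of k)) ≫ (Y ↘ Spec (CommRingCat.of k))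
  have hq : φ ≫ q = X ↘ Spec (CommRingCat.of k) := by
    rw [← Category.assoc, pullback.lift_fst, hf]
  haveI : IsProper φ := by
    haveI : IsProper (φ ≫ q) := by rw [hq]; infer_instance
    exact IsProper.of_comp φ q
  haveI : LocallyOfFiniteType (φ ≫ q) := by rw [hq]; infer_instance
  refine S10867.result k φ q ?_ fun a ha => ?_
  · intro a ha b hb hab
    have hab' : φ a = φ b := hab
    obtain ⟨e₁, -, h₁⟩ := exists_overWith k f hf hdX hdY ⟨a, ha⟩
    obtain ⟨e₂, -, h₂⟩ := exists_overWith k g hg hdX hdZ ⟨a, ha⟩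
    obtain ⟨e₁', -, h₁'⟩ := exists_overWith k f hf hdX hdY ⟨b, hb⟩
    obtain ⟨e₂', -, h₂'⟩ := exists_overWith k g hg hdX hdZ ⟨b, hb⟩
    have hfa : imgPt f (⟨a, ha⟩ : CurveFF.Pt X) = imgPt f ⟨b, hb⟩ := Subtype.ext (by
      show f a = f b
      rw [← pullback.lift_fst f g (hf.trans hg.symm), Scheme.Hom.comp_apply, Scheme.Hom.comp_apply, hab'])
    have hga : imgPt g (⟨a, ha⟩ : CurveFF.Pt X) = imgPt g ⟨b, hb⟩ := Subtype.ext (by
      show g a = g b
      rw [← pullback.lift_snd f g (hf.trans hg.symm), Scheme.Hom.comp_apply, Scheme.Hom.comp_apply, hab'])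
    exact congrArg Subtype.val ((CurveFF.pl k X hdX).injective (hpair h₁ h₂ (hfa ▸ h₁') (hga ▸ h₂')).1)
  · refine le_antisymm (sup_le ?_ (Ideal.pow_le_self two_ne_zero)) (le_sup_of_le_left ?_)
    · rw [Ideal.map_le_iff_le_comap]
      intro r hr
      exact (IsLocalRing.mem_maximalIdeal _).2 fun h =>
        (IsLocalRing.mem_maximalIdeal _).1 hr ((isUnit_map_iff (φ.stalkMap a).hom r).1 h)
    obtain ⟨e₁, -, h₁⟩ := exists_overWith k f hf hdX hdY ⟨a, ha⟩
    obtain ⟨e₂, -, h₂⟩ := exists_overWith k g hg hdX hdZ ⟨a, ha⟩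
    have key : ∀ {W : Scheme.{u}} (p : pullback (Y ↘ Spec (CommRingCat.of k)) (Z ↘ Spec (CommRingCat.of k)) ⟶ W)
        (h : X ⟶ W), φ ≫ p = h →
        IsLocalRing.maximalIdeal (X.presheaf.stalk a) ≤
          Ideal.map (h.stalkMap a).hom (IsLocalRing.maximalIdeal (W.presheaf.stalk (h a))) →
        IsLocalRing.maximalIdeal (X.presheaf.stalk a) ≤ Ideal.map (φ.stalkMap a).hom
          (IsLocalRing.maximalIdeal ((pullback (Y ↘ Spec (CommRingCat.of k)) (Z ↘ Spec (CommRingCat.of k))).presheaf.stalk (φ a))) := by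
      rintro W p h rfl hle
      refine hle.trans ?_
      rw [Scheme.Hom.stalkMap_comp, CommRingCat.hom_comp, ← Ideal.map_map]
      refine Ideal.map_mono ?_
      rw [Ideal.map_le_iff_le_comap]
      intro r hr
      exact (IsLocalRing.mem_maximalIdeal _).2 fun h' =>
        (IsLocalRing.mem_maximalIdeal _).1 hr ((isUnit_map_iff (p.stalkMap (φ a)).hom r).1 h')
    rcases (hpair h₁ h₂ h₁ h₂).2 with rfl | rfl
    · exact key (pullback.fst _ _) f (pullback.lift_fst ..) (map_maximalIdeal k f hf hdX hdY ⟨a, ha⟩ h₁)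
    · exact key (pullback.snd _ _) g (pullback.lift_snd ..) (map_maximalIdeal k g hg hdX hdZ ⟨a, ha⟩ h₂)

end Groth.Agent.LS17
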