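import Groth.Agent.FFLib.Diff.RH
import Groth.Agent.FFLib.SV.AtPlace
import Groth.Agent.LS17.CastEq

/-! Riemann–Hurwitz in characteristic zero over an algebraically closed field. -/

namespace Groth.Agent.LS17

open FunFld WithZero IntermediateField
open Groth.Agent.FFLib

variable {k K K' : Type*} [Field k] [IsAlgClosed k] [Field K] [Field K'] [Algebra k K] [Algebra k K']
  [Algebra K K'] [IsScalarTower k K K'] [FiniteDimensional K K']

open scoped Classical in
/-- The ramification exponent of a place. -/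
noncomputable def ramE (hK : IsFunctionField k K) (Q : Place k K') : ℕ := (below_spec hK Q).choose

theorem ramE_spec (hK : IsFunctionField k K) (Q : Place k K') :
    1 ≤ ramE hK Q ∧ IsOverWith Q (below hK Q) (ramE hK Q) := (below_spec hK Q).choose_spec

end Groth.Agent.LS17

namespace Groth.Agent.LS17

open FunFld WithZero IntermediateField
open Groth.Agent.FFLib

universe u v

variable {k : Type u} {K K' : Type v} [Field k] [IsAlgClosed k] [CharZero k] [Field K] [Field K'] [Algebra k K] [Algebra k K']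
  [Algebra K K'] [IsScalarTower k K K'] [FiniteDimensional K K']

/-- `2g' - 2 = n (2g - 2) + ∑ (e - 1)`. -/
theorem hurwitz_char_zero (hK : IsFunctionField k K) (hK' : IsFunctionField k K') :
    (Function.support fun Q : Place k K' => (ramE hK Q : ℤ) - 1).Finite ∧
    2 * (genus k K' : ℤ) - 2 = (Module.finrank K K' : ℤ) * (2 * (genus k K : ℤ) - 2) +
      ∑ᶠ Q : Place k K', ((ramE hK Q : ℤ) - 1) := by
  haveI : CharZero K := charZero_of_injective_algebraMap (algebraMap k K).injective
  haveI : PerfectField k := inferInstance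
  haveI : Algebra.IsSeparable K K' := inferInstance
  obtain ⟨x, hx, hfin⟩ := id hK.1
  haveI : CharZero k⟮x⟯ := charZero_of_injective_algebraMap (algebraMap k k⟮x⟯).injective
  have hDx := D_ne_zero hK hx inferInstance
  have hx' : Transcendental k (algebraMap K K' x) := transcendental_map hx
  haveI : CharZero k⟮algebraMap K K' x⟯ :=
    charZero_of_injective_algebraMap (algebraMap k k⟮algebraMap K K' x⟯).injective
  haveI := IsFF.finite_adjoin hK'.1 hx'
  have hDx' := D_ne_zero hK' hx' inferInstance
  have hg := isGeometric_of_perfect hK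
  have hg' := isGeometric_of_perfect hK'
  have hexp : ∀ (L : Type v) [Field L] [Algebra k L] (_ : IsFunctionField k L) (P : Place k L),
      ∃ φ : L →ₐ[k] LaurentSeries k, LocRes.IsExpansionAt P.1 φ := fun L _ _ hL P => by
    obtain ⟨t, -, ht⟩ := exists_unif P
    obtain ⟨φ, hφ, -⟩ := exists_expansion' hL P ht
    exact ⟨φ, hφ⟩
  choose φ hφ using hexp K hK
  choose ψ hψ using hexp K' hK'
  have h1 : ∀ P, LocRes.vDiff (φ P) 1 x ≠ 0 := fun P => by
    rw [vDiff_one]; exact (map_ne_zero _).mpr (dExp_ne_zero (hφ P) hK hg hDx)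
  have h2 : ∀ Q, LocRes.vDiff (ψ Q) 1 (algebraMap K K' x) ≠ 0 := fun Q => by
    rw [vDiff_one]; exact (map_ne_zero _).mpr (dExp_ne_zero (hψ Q) hK' hg' hDx')
  obtain ⟨hs, heq⟩ := riemann_hurwitz (k' := k) hK hg hK' (fun _ => k) φ hφ (fun _ => k) ψ hψ (below hK)
    (ramE hK) (fun Q z => (ramE_spec hK Q).2 z) x h1 h2
  have hd : ∀ Q, LocRes.diffExp (φ (below hK Q)) (ψ Q) (ramE hK Q) x = (ramE hK Q : ℤ) - 1 := fun Q =>
    (diffExp_ramified (ramE_spec hK Q).2 (hφ _) (hψ Q) hK hg (h1 _) (h2 Q)).1
      (Nat.cast_ne_zero.mpr (by have := (ramE_spec hK Q).1; omega))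
  simp only [hd, deg_eq_one hK'.1, Nat.cast_one, mul_one, Module.finrank_self, one_mul] at hs heq
  exact ⟨hs, heq⟩

end Groth.Agent.LS17
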