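import Groth.Agent.LS17.Cover
import Groth.Agent.LS17.Exists
import Groth.Agent.LS17.Hurwitz
import Groth.Agent.LS17.CoverPair
import Groth.Agent.CurveFF.Degree
import Groth.Agent.S19541
import Groth.Agent.S8191
import Groth.Agent.CurveBC.FiniteDim

/-! Covers of curves branched over few points. -/

noncomputable section

set_option linter.style.haveILetI false
set_option linter.unusedSectionVars false
set_option backward.isDefEq.respectTransparency false
set_option backward.isDefEq.respectTransparency.types false

universe u

open CategoryTheory CategoryTheory.Limits AlgebraicGeometry TopologicalSpace Opposite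

namespace Groth.Agent.LS17

attribute [local instance] CurveFF.ffAlg

variable (k : Type u) [Field k] [IsAlgClosed k] {X Y : Scheme.{u}} [X.Over (Spec (CommRingCat.of k))]
  [Y.Over (Spec (CommRingCat.of k))] [IsIntegral X] [IsIntegral Y]
  [IsProper (X ↘ Spec (CommRingCat.of k))] [IsProper (Y ↘ Spec (CommRingCat.of k))]
  [Smooth (X ↘ Spec (CommRingCat.of k))] [Smooth (Y ↘ Spec (CommRingCat.of k))]
  (hdX : topologicalKrullDim X = 1) (hdY : topologicalKrullDim Y = 1)
  (f : X ⟶ Y) (hf : f ≫ (Y ↘ Spec (CommRingCat.of k)) = X ↘ Spec (CommRingCat.of k)) [Surjective f]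

include hdX hdY hf

/-- The generic point goes to the generic point. -/
theorem map_generic : f (genericPoint X) = genericPoint Y := by
  have h := (genericPoint_spec X).image f.continuous
  rw [Set.image_univ, f.surjective.range_eq, closure_univ] at h
  exact h.eq (genericPoint_spec Y)

/-- Surjective maps of curves are finite. -/
theorem isFinite_of_surjective : IsFinite f := by
  haveI : IsProper f := by
    haveI : IsProper (f ≫ (Y ↘ Spec (CommRingCat.of k))) := by rw [hf]; infer_instance
    exact IsProper.of_comp f (Y ↘ Spec (CommRingCat.of k))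
  have hη := map_generic k hdX hdY f hf
  haveI : LocallyQuasiFinite f := LocallyQuasiFinite.of_finite_preimage_singleton _ fun y => by
    rcases CurveFF.eq_or_isClosed k Y hdY y with rfl | hy
    · refine (Set.finite_singleton (genericPoint X)).subset fun z hz => ?_
      rcases CurveFF.eq_or_isClosed k X hdX z with h | h
      · exact h
      · exfalso
        have hz' : f z = genericPoint Y := hz
        have hcl : IsClosed ({genericPoint Y} : Set Y) := by
          rw [← hz']; simpa [Set.image_singleton] using f.isClosedMap _ h
        have h3 := (genericPoint_spec Y).def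
        rw [hcl.closure_eq] at h3
        haveI : Subsingleton Y := ⟨fun a b =>
          ((h3.symm ▸ Set.mem_univ a : a ∈ ({genericPoint Y} : Set Y)) : a = _).trans
            ((h3.symm ▸ Set.mem_univ b : b ∈ ({genericPoint Y} : Set Y)) : b = _).symm⟩
        have := topologicalKrullDim_zero_of_discreteTopology (X := Y)
        rw [hdY] at this
        exact absurd this (not_le.2 zero_lt_one)
    · let U : X.Opens := f ⁻¹ᵁ ⟨({y} : Set Y)ᶜ, hy.isOpen_compl⟩
      by_cases hgy : genericPoint Y = y
      · exfalso
        subst hgy
        have h3 := (genericPoint_spec Y).def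
        rw [hy.closure_eq] at h3
        haveI : Subsingleton Y := ⟨fun a b =>
          ((h3.symm ▸ Set.mem_univ a : a ∈ ({genericPoint Y} : Set Y)) : a = _).trans
            ((h3.symm ▸ Set.mem_univ b : b ∈ ({genericPoint Y} : Set Y)) : b = _).symm⟩
        have := topologicalKrullDim_zero_of_discreteTopology (X := Y)
        rw [hdY] at this
        exact absurd this (not_le.2 zero_lt_one)
      · have hU : genericPoint X ∈ U := fun h => hgy (hη ▸ h)
        refine ((CurveFF.finite_not_mem k X hdX hU).image Subtype.val).subset fun z hz => ?_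
        rcases CurveFF.eq_or_isClosed k X hdX z with h | h
        · exact absurd (h ▸ hz : f (genericPoint X) = y) fun h' => hgy (hη ▸ h')
        · exact ⟨⟨z, h⟩, fun hzU => hzU hz, rfl⟩
  exact IsFinite.of_isProper_of_locallyQuasiFinite f

/-- Surjective maps of smooth curves are flat. -/
theorem flat_of_surjective : Flat f := by
  haveI := isFinite_of_surjective k hdX hdY f hf
  haveI := CurveCohLib.isNoetherian_of_proper (k := k) (X := Y)
  exact S8191.result f (fun y => by
    haveI := valuationRing_stalk k hdY y
    exact ⟨inferInstance, inferInstance⟩) hdY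

omit hdX hdY in
variable [IsFinite f] in
/-- Where the stalk maps preserve maximal ideals there is no ramification. -/
theorem ramE_eq_one (hdX : topologicalKrullDim X = 1) (hdY : topologicalKrullDim Y = 1) (a : CurveFF.Pt X)
    (h : Ideal.map (f.stalkMap a.1).hom (IsLocalRing.maximalIdeal (Y.presheaf.stalk (f a.1))) =
      IsLocalRing.maximalIdeal (X.presheaf.stalk a.1)) :
    letI := coverAlg k f hf
    letI := isScalarTower k f hf
    letI := finiteDimensional k f hf
    ramE (CurveFF.isFunctionField k Y hdY) (CurveFF.pl k X hdX a) = 1 := by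
  letI := coverAlg k f hf
  letI := isScalarTower k f hf
  letI := finiteDimensional k f hf
  haveI : IsDiscreteValuationRing (Y.presheaf.stalk (f a.1)) := CurveFF.isDVR k Y hdY (imgPt f a).2
  haveI := CurveFF.isDVR k X hdX a.2
  obtain ⟨e, -, he⟩ := exists_overWith k f hf hdX hdY a
  obtain ⟨-, hR⟩ := ramE_spec (CurveFF.isFunctionField k Y hdY) (CurveFF.pl k X hdX a)
  rw [← (FFLib.over_unique (CurveFF.isFunctionField k Y hdY).1 he hR).2]
  obtain ⟨t, ht⟩ := IsDiscreteValuationRing.exists_irreducible (Y.presheaf.stalk (f a.1))
  have htP : (CurveFF.pl k Y hdY (imgPt f a)).1 (algebraMap (Y.presheaf.stalk (f a.1)) Y.functionField t) = WithZero.exp (-1 : ℤ) := by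
    show (IsDiscreteValuationRing.maximalIdeal (Y.presheaf.stalk (f a.1))).valuation Y.functionField _ = _
    rw [IsDedekindDomain.HeightOneSpectrum.valuation_of_algebraMap,
      IsDedekindDomain.HeightOneSpectrum.intValuation_singleton _ ht.ne_zero
        (show (IsDiscreteValuationRing.maximalIdeal (Y.presheaf.stalk (f a.1))).asIdeal = Ideal.span {t} from ht.maximalIdeal_eq)]
  have hgen : (IsDiscreteValuationRing.maximalIdeal (X.presheaf.stalk a.1)).asIdeal = Ideal.span {f.stalkMap a.1 t} := by
    show IsLocalRing.maximalIdeal (X.presheaf.stalk a.1) = _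
    rw [← h, ht.maximalIdeal_eq, Ideal.map_span, Set.image_singleton]
  have hne : f.stalkMap a.1 t ≠ 0 := fun h0 => by
    have h1 := (IsDiscreteValuationRing.maximalIdeal (X.presheaf.stalk a.1)).ne_bot
    rw [hgen, h0] at h1
    exact h1 (Ideal.span_singleton_eq_bot.2 rfl)
  have hsQ : (CurveFF.pl k X hdX a).1 (algebraMap (X.presheaf.stalk a.1) X.functionField (f.stalkMap a.1 t)) = WithZero.exp (-1 : ℤ) := by
    show (IsDiscreteValuationRing.maximalIdeal (X.presheaf.stalk a.1)).valuation X.functionField _ = _
    rw [IsDedekindDomain.HeightOneSpectrum.valuation_of_algebraMap,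
      IsDedekindDomain.HeightOneSpectrum.intValuation_singleton _ hne hgen]
  rw [← fMap_stalk k f hf a.1 t, show fMap k f hf (algebraMap (Y.presheaf.stalk (f a.1)) Y.functionField t) =
    algebraMap Y.functionField X.functionField (algebraMap (Y.presheaf.stalk (f a.1)) Y.functionField t) from rfl,
    he, htP, ← WithZero.exp_nsmul, WithZero.exp_inj, nsmul_eq_mul] at hsQ
  omega

end Groth.Agent.LS17
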