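import Groth.Agent.LS17.FFCliff

/-! Numerical bounds for subseries of the canonical series. -/

namespace Groth.Agent.LS17

open FunFld WithZero
open Groth.Agent.FFLib

variable {k K : Type*} [Field k] [Field K] [Algebra k K] [IsAlgClosed k] (hK : IsFunctionField k K)
  {C : Divisor k K} (hC : IsCanonical k K C)

include hK hC

/-- Off the hyperelliptic case the Clifford index is positive. -/
theorem cliffMin_of_not_hyperelliptic (hnh : ∀ A : Divisor k K, A.deg = 2 → ell A < 2) :
    CliffMin C (-1) := fun D h1 h2 => by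
  by_contra h
  obtain ⟨A, hA, hA'⟩ := hyperelliptic_of_clifford hK hC h1 h2 (by omega)
  exact absurd hA' (not_le.2 (hnh A hA))

/-- Neither hyperelliptic, trigonal nor a plane quintic: Clifford index at least two. -/
theorem cliffMin_two (hnh : ∀ A : Divisor k K, A.deg = 2 → ell A < 2)
    (hnt : ∀ A : Divisor k K, A.deg = 3 → ell A < 2)
    (hpl : genus k K = 6 → ∀ D : Divisor k K, D.deg = 5 → ell D = 3 →
      ∃ P Q : Place k K, ell D < ell (D - Finsupp.single P 1 - Finsupp.single Q 1) + 2) :
    CliffMin C 0 := fun D h1 h2 => by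
  by_contra h
  have hm := cliffMin_of_not_hyperelliptic hK hC hnh
  have := hm D h1 h2
  rcases trigonal_or_quintic hK hC hm ⟨D, h1, h2, by omega⟩ with ⟨A, hA, hA'⟩ | ⟨h6, A, hd, he, hsep⟩
  · exact absurd hA' (not_le.2 (hnt A hA))
  · obtain ⟨P, Q, hPQ⟩ := hpl h6 A hd he
    exact absurd (hsep P Q) (not_le.2 hPQ)

/-- A trigonal curve has no other divisor of Clifford index one below `g`. -/
theorem not_attained_of_trigonal (hnh : ∀ A : Divisor k K, A.deg = 2 → ell A < 2) {A : Divisor k K}
    (hA : A.deg = 3) (hA' : 2 ≤ ell A) {D : Divisor k K} (hn : 3 ≤ ell D)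
    (hd : D.deg = 2 * (ell D : ℤ) - 1) (hdg : D.deg ≤ (genus k K : ℤ) - 1) : False := by
  have hm := cliffMin_of_not_hyperelliptic hK hC hnh
  have hB : NoBase A := noBase_of_ell hK.1 fun P => by
    have := hnh (A - Finsupp.single P 1) (by rw [deg_sub_pt hK, hA]; norm_num)
    omega
  have hp := pencil_trick hK hB (by omega) D
  have hq := rr_C hK hC D
  have h1 : ell (A + D) ≤ ell D + 1 := by
    by_contra hcon
    rcases CliffMin.ell_le hK hC hm (D := A + D) (by omega) with hb | hb <;>
      rw [Divisor.deg_add] at hb <;> omega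
  have h2 : ell (D - A) + 2 ≤ ell D := by
    by_contra hcon
    rcases CliffMin.ell_le hK hC hm (D := D - A) (by omega) with hb | hb <;>
      rw [Divisor.deg_sub] at hb <;> omega
  omega

theorem cases_sub {D : Divisor k K} (hCD : 0 < ell (C - D)) :
    2 ≤ ell (C - D) ∨ (ell D : ℤ) = D.deg + 2 - genus k K := by
  have := rr_C hK hC D
  omega

/-- Clifford index two gives linear stability. -/
theorem stable_of_cliff_two (h : CliffMin C 0) {D : Divisor k K} {m : ℕ} (hm : 2 ≤ m)
    (hmg : m + 1 < genus k K) (hmn : m ≤ ell D) (hCD : 0 < ell (C - D)) :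
    (2 * (genus k K : ℤ) - 2) * ((m : ℤ) - 1) < D.deg * ((genus k K : ℤ) - 2) := by
  have hm' : (2 : ℤ) ≤ m := by exact_mod_cast hm
  have hmg' : (m : ℤ) + 2 ≤ genus k K := by omega
  have hmn' : (m : ℤ) ≤ ell D := by exact_mod_cast hmn
  rcases cases_sub hK hC hCD with h2 | h1
  · have := h D (by omega) h2
    nlinarith
  · nlinarith

/-- Clifford index one gives semistability in genus six without pencils of degree three. -/
theorem semistable_genus_six (h : CliffMin C (-1)) (hnt : ∀ A : Divisor k K, A.deg = 3 → ell A < 2)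
    (hg : genus k K = 6) {D : Divisor k K} {m : ℕ} (hm : 2 ≤ m) (hmg : m + 1 < 6) (hmn : m ≤ ell D)
    (hCD : 0 < ell (C - D)) :
    (2 * (genus k K : ℤ) - 2) * ((m : ℤ) - 1) ≤ D.deg * ((genus k K : ℤ) - 2) := by
  obtain ⟨r1, r2, r3, r4⟩ := rr_C hK hC D
  have hn := fun hd : (C - D).deg = 3 => hnt (C - D) hd
  rcases cases_sub hK hC hCD with h2 | h1
  · have := h D (by omega) h2
    rw [hg]
    push_cast
    omega
  · rw [hg] at h1 ⊢
    push_cast at *
    omega

/-- On a trigonal curve the only failure of stability is a trisecant. -/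
theorem stable_trigonal (hnh : ∀ A : Divisor k K, A.deg = 2 → ell A < 2) {A : Divisor k K}
    (hA : A.deg = 3) (hA' : 2 ≤ ell A) {D : Divisor k K} {m : ℕ} (hm : 2 ≤ m)
    (hmg : m + 1 < genus k K) (hmn : m ≤ ell D) (hCD : 0 < ell (C - D))
    (hsec : D.deg + 5 = 2 * (genus k K : ℤ) → ell D + 2 = genus k K → m = ell D → False) :
    (2 * (genus k K : ℤ) - 2) * ((m : ℤ) - 1) < D.deg * ((genus k K : ℤ) - 2) := by
  obtain ⟨r1, r2, r3, r4⟩ := rr_C hK hC D
  have hm' : (2 : ℤ) ≤ m := by exact_mod_cast hm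
  have hmg' : (m : ℤ) + 2 ≤ genus k K := by omega
  have hmn' : (m : ℤ) ≤ ell D := by exact_mod_cast hmn
  rcases cases_sub hK hC hCD with h2 | h1
  · have := cliffMin_of_not_hyperelliptic hK hC hnh D (by omega) h2
    rcases le_or_gt (2 * (m : ℤ)) D.deg with hd | hd
    · nlinarith
    rcases lt_or_ge (2 * (m : ℤ)) (genus k K : ℤ) with hg | hg
    · nlinarith
    exfalso
    rcases (show ell (C - D) = 2 ∨ 3 ≤ ell (C - D) by omega) with e | e
    · exact hsec (by omega) (by omega) (by omega)
    · exact not_attained_of_trigonal hK hC hnh hA hA' e (by omega) (by omega)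
  · nlinarith

end Groth.Agent.LS17
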