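import Groth.Agent.LS17.Modules
import Groth.Agent.Lib.InvEnd

/-! Nonzero maps between invertible modules from divisor classes. -/

noncomputable section

set_option linter.style.haveILetI false
set_option linter.unusedSectionVars false
set_option backward.isDefEq.respectTransparency false
set_option backward.isDefEq.respectTransparency.types false

universe u

open CategoryTheory CategoryTheory.Limits AlgebraicGeometry TopologicalSpace Opposite

namespace Groth.Agent.LS17

attribute [local instance] CurveFF.ffAlg

variable (k : Type u) [Field k] [IsAlgClosed k] {X : Scheme.{u}} [X.Over (Spec (CommRingCat.of k))]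
  [IsIntegral X] [IsProper (X ↘ Spec (CommRingCat.of k))] [Smooth (X ↘ Spec (CommRingCat.of k))]
  (hdim : topologicalKrullDim X = 1)

/-- An effective difference gives a monomorphism. -/
theorem exists_mono_of_ell {M N : X.Modules} {D E : FunFld.Divisor k X.functionField} (hD : HasDiv k hdim M D)
    (hE : HasDiv k hdim N E) (h : 0 < FunFld.ell (E - D)) : ∃ φ : M ⟶ N, φ ≠ 0 ∧ Mono φ := by
  have hK := (CurveFF.isFunctionField k X hdim).1
  obtain ⟨M', hM', -, ⟨e⟩⟩ := CurveDuality.exists_inverse_deg k hdim hD.1
  obtain ⟨D', hD'⟩ := exists_hasDiv k hdim hM'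
  have hl := hD.inverse k hdim hD' e
  have hT : HasDiv k hdim ((DCoh.tensorBi.obj M').obj N) (E - D) :=
    (hD'.tensor k hdim hE).congr k hdim (by
      simpa [sub_eq_add_neg, add_comm] using hl.add hK (Lin.refl hK E))
  obtain ⟨s, hs⟩ := CurveRR.exists_hom_ne_zero k (P := (DCoh.tensorBi.obj M').obj N)
    (by rw [hT.h0 k hdim]; omega)
  let φ : M ⟶ N := (KFlatLib.tensorUnitIso M).inv ≫ (DCoh.tensorBi.obj M).map s ≫
    ((CurveRR.cancelIso e).app N).hom
  have hφ : φ ≠ 0 := fun h0 => hs (CurveRR.eq_zero_of_map_eq_zero (CurveTensor.commIso M' M ≪≫ e) s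
    ((cancel_mono ((CurveRR.cancelIso e).app N).hom).1
      (((cancel_epi (KFlatLib.tensorUnitIso M).inv).1 (h0.trans comp_zero.symm)).trans zero_comp.symm)))
  exact ⟨φ, hφ, InvEnd.mono_of_ne_zero hD.1 hE.1 φ hφ⟩

include hdim in
/-- A module with sections does not map by zero monomorphically. -/
theorem ne_zero_of_mono {M N : X.Modules} (φ : M ⟶ N) [Mono φ]
    (h : 0 < Module.finrank k (Coh.HH X M 0)) : φ ≠ 0 := by
  intro h0
  have hz : IsZero M := by
    rw [IsZero.iff_id_eq_zero, ← cancel_mono φ, h0]
    simp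
  haveI := _root_.Groth.Agent.Euler.subsingleton_HH_of_isZero hz 0
  rw [Module.finrank_zero_of_subsingleton] at h
  omega

end Groth.Agent.LS17
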