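import Groth.Agent.LS17.MapSeries
import Groth.Prelude.Def_LefPen

/-! Maps of curves into hypersurfaces. -/

noncomputable section

set_option linter.style.haveILetI false
set_option linter.unusedSectionVars false
set_option backward.isDefEq.respectTransparency false
set_option backward.isDefEq.respectTransparency.types false

universe u

open CategoryTheory CategoryTheory.Limits AlgebraicGeometry TopologicalSpace Opposite
open Groth.Agent.CurveCohLib.Polar (eta_mem)

namespace Groth.Agent.LS17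

attribute [local instance] CurveFF.ffAlg

variable (k : Type u) [Field k] [IsAlgClosed k] {X : Scheme.{u}} [X.Over (Spec (CommRingCat.of k))]
  [IsIntegral X] [IsProper (X ↘ Spec (CommRingCat.of k))] [Smooth (X ↘ Spec (CommRingCat.of k))]
  {n : ℕ} (r : X ⟶ CohB1.ProjSpace n k)
  (hr : r ≫ CohB1.ProjSpace.toSpec n k = X ↘ Spec (CommRingCat.of k))

include hr in
/-- A form pulls back to its value at the coordinates. -/
theorem germ_dehom (f : Fin (n + 1) → X.functionField) {j : Fin (n + 1)} {W : X.Opens} (hW : W ≤ r ⁻¹ᵁ chartD k j)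
    (hη : genericPoint X ∈ W)
    (hf : ∀ i, (X.presheaf.germ W _ hη (ProjUPX.ratioOf r (ProjPt.X_mem i) (ProjPt.X_mem j) hW) : X.functionField) =
      f i / f j)
    {d : ℕ} (G : LefPen.Form n k d) :
    (X.presheaf.germ W _ hη (r.appLE (chartD k j) W hW (LefPen.dehom G j)) : X.functionField) =
      MvPolynomial.aeval f G.1 / f j ^ d := by
  let ψ : HomogeneousLocalization.Away (CohB1.polyGrading n k) (MvPolynomial.X j) →+* X.functionField :=
    ((Proj.awayToSection (CohB1.polyGrading n k) (MvPolynomial.X j)) ≫ r.appLE (chartD k j) W hW ≫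
      X.presheaf.germ W _ hη).hom
  show ψ _ = _
  rw [show HomogeneousLocalization.Away.mk (CohB1.polyGrading n k) (LefPen.X_mem n k j) d G.1 _ =
    HomogeneousLocalization.Away.mk (CohB1.polyGrading n k) (ProjPt.X_mem j) d G.1
      (by rw [smul_eq_mul, mul_one]; exact G.2) from rfl, ProjPt.mk_eq_eval, MvPolynomial.map_eval₂Hom]
  have hc : ψ.comp (ProjPt.cst j) = algebraMap k X.functionField := RingHom.ext fun c => by
    refine Eq.trans ?_ (germ_const k hη c)
    show X.presheaf.germ W _ hη (r.appLE (chartD k j) W hW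
      ((Proj.awayToSection (CohB1.polyGrading n k) (MvPolynomial.X j)).hom (ProjPt.cst j c))) = _
    rw [← toSpec_res_cst k j c, ← CommRingCat.comp_apply ((CohB1.ProjSpace.toSpec n k).appLE _ _ _),
      Scheme.Hom.appLE_comp_appLE]
    simp only [hr]
  rw [hc, show (fun i => ψ (ProjPt.crd j i)) = fun i => f i / f j from funext hf,
    ← FFLib.aeval_div_of_isHomogeneous ((MvPolynomial.mem_homogeneousSubmodule _ _).1 G.2) f (f j)]
  rfl

include hr in
/-- Forms vanishing on the coordinates vanish on the curve. -/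
theorem hypIdeal_le_ker [QuasiCompact r] (f : Fin (n + 1) → X.functionField)
    (hf : ∀ (i j : Fin (n + 1)) (W : X.Opens) (h : W ≤ r ⁻¹ᵁ chartD k j) (hη : genericPoint X ∈ W),
      (X.presheaf.germ W _ hη (ProjUPX.ratioOf r (ProjPt.X_mem i) (ProjPt.X_mem j) h) : X.functionField) = f i / f j)
    {d : ℕ} (G : LefPen.Form n k d) (hG : MvPolynomial.aeval f G.1 = 0) : LefPen.hypIdeal G ≤ r.ker := by
  rw [Scheme.IdealSheafData.le_def]
  intro U a ha
  rw [Scheme.Hom.ker_apply, RingHom.mem_ker]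
  have ha' := (Scheme.IdealSheafData.ideal_ofIdeals_le _) U ha
  refine AModX.eq_of_locally (M := Coh.structureModule X) (show Γ(Coh.structureModule X, r ⁻¹ᵁ U.1) from r.app U.1 a) 0
    fun x hx => ?_
  obtain ⟨j, hj⟩ := Opens.mem_iSup.1 ((AmpleEmbed.iSup_basicOpen_X n k).ge (trivial : r x ∈ (⊤ : Opens _)))
  set W : X.Opens := r ⁻¹ᵁ (U.1 ⊓ chartD k j) with hW
  have hη : genericPoint X ∈ W := eta_mem (show x ∈ W from ⟨hx, hj⟩)
  refine ⟨W, fun _ h => h.1, ⟨hx, hj⟩, ?_⟩
  rw [map_zero]
  obtain ⟨b, hb⟩ := Ideal.mem_span_singleton'.1 (Submodule.mem_iInf _ |>.1 ha' j)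
  refine germ_injective_of_isIntegral (X := X) (genericPoint X) hη (Eq.trans ?_ (map_zero (X.presheaf.germ W _ hη).hom).symm)
  show X.presheaf.germ W _ hη (X.presheaf.map (homOfLE (fun _ h => h.1 : W ≤ r ⁻¹ᵁ U.1)).op (r.app U.1 a)) = 0
  have e1 : X.presheaf.map (homOfLE (fun _ h => h.1 : W ≤ r ⁻¹ᵁ U.1)).op (r.app U.1 a) =
      r.app (U.1 ⊓ chartD k j) ((CohB1.ProjSpace n k).presheaf.map (homOfLE (inf_le_left : U.1 ⊓ chartD k j ≤ U.1)).op a) :=
    (congr($(r.naturality (homOfLE (inf_le_left : U.1 ⊓ chartD k j ≤ U.1)).op) a)).symm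
  rw [e1, ← hb, map_mul, map_mul]
  refine mul_eq_zero_of_right _ ?_
  have h0 := germ_dehom k r hr f (j := j) (W := W) (fun _ h => h.2) hη (fun i => hf i j W (fun _ h => h.2) hη) G
  rw [hG, _root_.zero_div] at h0
  rw [← h0]
  refine congrArg (X.presheaf.germ W _ hη) ?_
  rw [Scheme.Hom.appLE]
  exact congr($(r.naturality (homOfLE (inf_le_right : U.1 ⊓ chartD k j ≤ chartD k j)).op) (LefPen.dehom G j))

end Groth.Agent.LS17
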