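import Groth.Agent.LS17.Point
import Groth.Agent.OmegaLib.IdealMod
import Groth.Agent.CurveCohLib.SmoothCurve

/-! Ideals of finite subschemes of a smooth curve. -/

noncomputable section

set_option linter.style.haveILetI false
set_option linter.unusedSectionVars false
set_option backward.isDefEq.respectTransparency false
set_option backward.isDefEq.respectTransparency.types false

universe u

open CategoryTheory CategoryTheory.Limits AlgebraicGeometry TopologicalSpace Opposite

namespace Groth.Agent.LS17

open Groth.Agent.CurveBundle Groth.Agent.CurveSlope Groth.Agent.CurveStable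

variable (k : Type u) [Field k] [IsAlgClosed k] {X : Scheme.{u}} [X.Over (Spec (CommRingCat.of k))]
  [IsIntegral X] [IsProper (X ↘ Spec (CommRingCat.of k))] [Smooth (X ↘ Spec (CommRingCat.of k))]
  (hdim : topologicalKrullDim X = 1)

theorem isIso_toSubscheme_bot : IsIso (ClSub.toSubscheme (⊥ : X.IdealSheafData)) := by
  haveI := CurvePoint.epi_toSubscheme (⊥ : X.IdealSheafData)
  haveI : Mono (ClSub.toSubscheme (⊥ : X.IdealSheafData)) := by
    refine Preadditive.mono_of_kernel_zero ?_
    refine Scheme.Modules.hom_ext _ _ fun V => AddCommGrpCat.ext fun y => ?_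
    refine Eq.trans (QCoh.eq_zero_of_locally V _ fun p hp => ?_) rfl
    obtain ⟨_, ⟨W, hW, rfl⟩, hpW, hWV⟩ :=
      X.isBasis_affineOpens.exists_subset_of_mem_open (show p ∈ V from hp) V.isOpen
    refine ⟨W, homOfLE hWV, hpW, ?_⟩
    rw [← QCoh.map_app_comm]
    have h := OmegaLib.idealSect_mem (⊥ : X.IdealSheafData) ⟨W, hW⟩
      ((ClSub.idealMod (⊥ : X.IdealSheafData)).presheaf.map (homOfLE hWV).op y)
    rw [Scheme.IdealSheafData.ideal_bot, Pi.bot_apply, Submodule.mem_bot, OmegaSh.idealSect_apply] at h
    exact h
  exact isIso_of_mono_of_epi _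

include k hdim in
theorem rk_one_idealMod {I : X.IdealSheafData} (hη : genericPoint X ∉ I.support) :
    FlatMod.IsFinLocFreeOfRank 1 (ClSub.idealMod I) := by
  haveI := CurveCohLib.isNoetherian_of_proper (k := k) (X := X)
  haveI := CurvePoint.epi_toSubscheme I
  have hQ := ParShLib.isCoh_quotMod I
  have hA : Coh.IsCoh (ClSub.idealMod I) := QCoh.isCoh_kernel QCoh.isCoh_structureModule' hQ _
  have hS : (ShortComplex.mk (ClSub.idealModι I) (ClSub.toSubscheme I) (kernel.condition _)).ShortExact :=
    CurveSlope.shortExact_kernel_of_epi _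
  have hO1 := InvEnd.isFinLocFreeOfRank_one (CurveDeg.isInvertible_structureModule (X := X))
  haveI : Mono (ClSub.idealModι I) := hS.mono_f
  have hf := isFinLocFree_of_mono k hdim.le hA (ClSub.idealModι I) (isFinLocFree_of_rank hO1)
  have h := rk_add_coh k _ _ _ hS QCoh.isCoh_structureModule'
  have h0 : rk (ClSub.quotMod I) = 0 := by
    haveI : Subsingleton ((ClSub.quotMod I).presheaf.stalk (genericPoint X)) :=
      ParShLib.subsingleton_stalk_quotMod I hη
    letI := (isField_stalk_generic (X := X)).toField
    exact Module.finrank_zero_of_subsingleton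
  rw [rk_eq hO1, h0] at h
  have h2 : 1 = rk (ClSub.idealMod I) + 0 := h
  have h' : rk (ClSub.idealMod I) = 1 := by omega
  exact h' ▸ isFinLocFreeOfRank_rk hf

include k hdim in
/-- An ideal with a finite-dimensional quotient of dimension `≠ 1` is invertible of minus that degree. -/
theorem idealMod_invertible_deg {I : X.IdealSheafData} {n : ℕ} (hn : n ≠ 1)
    (h : Module.finrank k (Coh.HH X (ClSub.quotMod I) 0) = n) :
    PicF.IsInvertible (ClSub.idealMod I) ∧ Curv2.deg k X (ClSub.idealMod I) 1 = -(n : ℤ) := by
  haveI := CurveCohLib.isNoetherian_of_proper (k := k) (X := X)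
  have hη : genericPoint X ∉ I.support := by
    intro hη
    have htop : I.support = ⊤ := by
      refine SetLike.coe_injective (Set.eq_univ_of_univ_subset fun x _ => ?_)
      exact ((genericPoint_spec X).specializes (Set.mem_univ x)).mem_closed I.support.isClosed hη
    rw [Scheme.IdealSheafData.support_eq_top_iff] at htop
    subst htop
    haveI := isIso_toSubscheme_bot (X := X)
    rw [← (CurveCohLib.hhEquiv (k := k) (asIso (ClSub.toSubscheme (⊥ : X.IdealSheafData))) 0).finrank_eq] at h
    haveI : ConnectedSpace X := inferInstance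
    rw [CurveCohLib.finrank_h0_eq_one k X] at h
    exact hn h.symm
  have hr := rk_one_idealMod k hdim hη
  have hsupp : ∀ x ∈ CohB1.support (ClSub.quotMod I), IsClosed ({x} : Set X) := by
    intro x hx
    have hxI : x ∈ I.support := by
      by_contra hne
      exact hx (ParShLib.subsingleton_stalk_quotMod I hne)
    rcases CurveFF.eq_or_isClosed k X hdim x with rfl | hc
    · exact absurd hxI hη
    · exact hc
  haveI := CurvePoint.epi_toSubscheme I
  have hQ := ParShLib.isCoh_quotMod I
  have e := euler_add' k _ _ _ (CurveSlope.shortExact_kernel_of_epi (ClSub.toSubscheme I))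
    (QCoh.isCoh_kernel QCoh.isCoh_structureModule' hQ _) QCoh.isCoh_structureModule' hQ
  rw [CurveCohLib.euler_eq_finrank_zero hQ hsupp, h] at e
  refine ⟨fun x => ?_, ?_⟩
  · obtain ⟨U, hx, ⟨φ⟩⟩ := hr x
    exact ⟨U, hx, ⟨φ ≪≫ coproductUniqueIso _⟩⟩
  · unfold Curv2.deg
    change Curv2.euler k X (Coh.structureModule X) = Curv2.euler k X (ClSub.idealMod I) + (n : ℤ) at e
    push_cast
    linarith

end Groth.Agent.LS17
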