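import Groth.Agent.LS17.CoverPair

/-! The nontrivial endomorphism over a double cover is unique. -/

noncomputable section

set_option linter.style.haveILetI false
set_option linter.unusedSectionVars false
set_option backward.isDefEq.respectTransparency false
set_option backward.isDefEq.respectTransparency.types false

universe u

open CategoryTheory CategoryTheory.Limits AlgebraicGeometry TopologicalSpace Opposite

namespace Groth.Agent.LS17

theorem ringHom_unique {F K : Type*} [Field F] [Field K] [Algebra F K] (hdeg : Module.finrank F K = 2)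
    (s t : K →+* K) (hs : ∀ a : F, s (algebraMap F K a) = algebraMap F K a)
    (ht : ∀ a : F, t (algebraMap F K a) = algebraMap F K a) (hs1 : s ≠ RingHom.id K) (ht1 : t ≠ RingHom.id K) :
    s = t := by
  obtain ⟨y, hy⟩ : ∃ y : K, y ∉ Set.range (algebraMap F K) := by
    by_contra! h
    have h1 : Module.finrank F K = 1 := (finrank_eq_one_iff_of_nonzero' (1 : K) one_ne_zero).mpr fun w => by
      obtain ⟨a, ha⟩ := h w
      exact ⟨a, by rw [Algebra.smul_def, mul_one, ha]⟩
    omega
  obtain ⟨u, r, hyy⟩ := FFLib.exists_eq_add_mul hdeg hy (y ^ 2)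
  have key : ∀ s : K →+* K, (∀ a : F, s (algebraMap F K a) = algebraMap F K a) → s ≠ RingHom.id K →
      s y = algebraMap F K r - y := fun s hs hs1 => by
    have h1 : (s y) ^ 2 = algebraMap F K u + algebraMap F K r * s y := by
      have := congrArg s hyy.symm
      rw [map_add, map_mul, map_pow, hs, hs] at this
      first | exact this | exact this.symm
    have h2 : (s y - y) * (s y + y - algebraMap F K r) = 0 := by linear_combination h1 + hyy
    rcases mul_eq_zero.mp h2 with h | h
    · refine absurd (RingHom.ext fun w => ?_) hs1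
      obtain ⟨a, b, rfl⟩ := FFLib.exists_eq_add_mul hdeg hy w
      rw [RingHom.id_apply, map_add, map_mul, hs, hs, sub_eq_zero.mp h]
    · linear_combination h
  refine RingHom.ext fun w => ?_
  obtain ⟨a, b, rfl⟩ := FFLib.exists_eq_add_mul hdeg hy w
  rw [map_add, map_mul, map_add, map_mul, hs, hs, ht, ht, key s hs hs1, key t ht ht1]

attribute [local instance] CurveFF.ffAlg

variable (k : Type u) [Field k] [IsAlgClosed k] {X Y : Scheme.{u}} [X.Over (Spec (CommRingCat.of k))]
  [Y.Over (Spec (CommRingCat.of k))] [IsIntegral X] [IsIntegral Y]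
  [IsProper (X ↘ Spec (CommRingCat.of k))] [IsProper (Y ↘ Spec (CommRingCat.of k))]
  [Smooth (X ↘ Spec (CommRingCat.of k))] [Smooth (Y ↘ Spec (CommRingCat.of k))]
  (hdX : topologicalKrullDim X = 1) (hdY : topologicalKrullDim Y = 1)
  (f : X ⟶ Y) (hf : f ≫ (Y ↘ Spec (CommRingCat.of k)) = X ↘ Spec (CommRingCat.of k))
  [IsFinite f] [Flat f] (hrf : ∀ y : Y, f.finrank y = 2)

include hdX hdY hrf hf in
/-- Two nontrivial endomorphisms over a double cover are equal. -/
theorem endo_unique (σ τ : X ⟶ X) (hσ : σ ≫ f = f) (hσ1 : σ ≠ 𝟙 X) (hτ : τ ≫ f = f) (hτ1 : τ ≠ 𝟙 X) :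
    σ = τ := by
  haveI := surjective_of_rank f one_le_two hrf
  letI := coverAlg k f hf
  haveI : X.IsSeparated :=
    ⟨by rw [← Limits.terminal.comp_from (X ↘ Spec (CommRingCat.of k))]; infer_instance⟩
  have hη : f (genericPoint X) = genericPoint Y := AVDegLib.map_eta (overHom k f hf)
  have prep : ∀ σ : X ⟶ X, σ ≫ f = f → σ ≠ 𝟙 X → ∃ s : X.functionField →+* X.functionField,
      X.fromSpecStalk (genericPoint X) ≫ σ = Spec.map (CommRingCat.ofHom s) ≫ X.fromSpecStalk (genericPoint X) ∧
      (∀ a : Y.functionField, s (fMap k f hf a) = fMap k f hf a) ∧ s ≠ RingHom.id _ := by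
    intro σ hσ hσ1
    haveI : IsFinite σ := by
      haveI : IsFinite (σ ≫ f) := by rw [hσ]; infer_instance
      exact IsFinite.of_comp σ f
    have hση : σ (genericPoint X) = genericPoint X := by
      rcases CurveFF.eq_or_isClosed k X hdX (σ (genericPoint X)) with h | h
      · exact h
      exfalso
      have h1 : f (σ (genericPoint X)) = genericPoint Y := by rw [← Scheme.Hom.comp_apply, hσ, hη]
      have h2 : IsClosed ({genericPoint Y} : Set Y) := by
        rw [← h1]; simpa [Set.image_singleton] using f.isClosedMap _ h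
      have h3 := (genericPoint_spec Y).def
      rw [h2.closure_eq] at h3
      obtain ⟨y, hy⟩ : ∃ y : Y, y ≠ genericPoint Y := by
        by_contra! hall
        haveI : Subsingleton Y := ⟨fun a b => (hall a).trans (hall b).symm⟩
        have := topologicalKrullDim_zero_of_discreteTopology (X := Y)
        rw [hdY] at this
        exact absurd this (not_le.2 zero_lt_one)
      exact hy (h3.symm ▸ Set.mem_univ y : y ∈ ({genericPoint Y} : Set Y))
    haveI : Surjective σ := ⟨fun x => by
      have hcl := σ.isClosedMap.isClosed_range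
      have hx : x ∈ closure ({genericPoint X} : Set X) := by rw [(genericPoint_spec X).def]; trivial
      have hsub : ({genericPoint X} : Set X) ⊆ Set.range σ := Set.singleton_subset_iff.2 ⟨_, hση⟩
      exact closure_minimal hsub hcl hx⟩
    have hσk : σ ≫ (X ↘ Spec (CommRingCat.of k)) = X ↘ Spec (CommRingCat.of k) := by
      rw [← hf, reassoc_of% hσ]
    refine ⟨fMap k σ hσk, fromSpecStalk_comp k σ hσk, fun a => ?_, fun hid => hσ1 ?_⟩
    · have h := fromSpecStalk_comp k f hf
      have h' : X.fromSpecStalk (genericPoint X) ≫ σ ≫ f =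
          Spec.map (CommRingCat.ofHom ((fMap k σ hσk).comp (fMap k f hf))) ≫ Y.fromSpecStalk (genericPoint Y) := by
        rw [reassoc_of% fromSpecStalk_comp k σ hσk, h, ← Spec.map_comp_assoc]
        rfl
      rw [hσ, h, cancel_mono] at h'
      exact (congrArg (fun φ : CommRingCat.of Y.functionField ⟶ CommRingCat.of X.functionField => φ.hom a)
        (Spec.map_injective h')).symm
    · refine ext_generic ?_
      rw [fromSpecStalk_comp k σ hσk, hid, Category.comp_id]
      exact (congrArg (· ≫ X.fromSpecStalk (genericPoint X)) (Spec.map_id _)).trans (Category.id_comp _)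
  obtain ⟨s, hs, hsf, hs1⟩ := prep σ hσ hσ1
  obtain ⟨t, ht, htf, ht1⟩ := prep τ hτ hτ1
  refine ext_generic ?_
  rw [hs, ht, ringHom_unique (finrank_two k f hf hrf) s t hsf htf hs1 ht1]

end Groth.Agent.LS17
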