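import Groth.Agent.LS17.NodeFrob
import Groth.Agent.LS17.CompCount
import Groth.Agent.GrothVanish.Main
import Groth.Agent.CurveCohLib.Skyscraper
import Groth.Agent.PnCoh.PushNat
import Groth.Agent.QCoh.Support

/-! The genus of a nodal curve and of its normalisation. -/

noncomputable section

set_option linter.style.haveILetI false
set_option linter.unusedSectionVars false
set_option backward.isDefEq.respectTransparency false
set_option backward.isDefEq.respectTransparency.types false

universe u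

open CategoryTheory CategoryTheory.Limits AlgebraicGeometry TopologicalSpace Opposite
open scoped nonZeroDivisors

namespace Groth.Agent.LS17.NodeCount

open NodeNorm

variable (k : Type u) [Field k] [IsAlgClosed k]

theorem isIrreducible_of_image {α β : Type*} [TopologicalSpace α] [TopologicalSpace β] {f : α → β}
    (hf : Topology.IsInducing f) {s : Set α} (h : IsIrreducible (f '' s)) : IsIrreducible s := by
  refine ⟨Set.image_nonempty.1 h.1, fun u v hu hv hsu hsv => ?_⟩
  obtain ⟨U, hU, rfl⟩ := hf.isOpen_iff.1 hu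
  obtain ⟨V, hV, rfl⟩ := hf.isOpen_iff.1 hv
  obtain ⟨a, ha, haU⟩ := hsu
  obtain ⟨b, hb, hbV⟩ := hsv
  obtain ⟨_, ⟨c, hc, rfl⟩, hcU, hcV⟩ := h.2 U V hU hV ⟨f a, ⟨a, ha, rfl⟩, haU⟩ ⟨f b, ⟨b, hb, rfl⟩, hbV⟩
  exact ⟨c, hc, hcU, hcV⟩

theorem topologicalKrullDim_le {T : Type u} [TopologicalSpace T] (d : ℕ)
    (h : ∀ Z ∈ irreducibleComponents T, topologicalKrullDim Z = d) : topologicalKrullDim T ≤ d := by
  refine iSup_le fun p => ?_
  obtain ⟨W, hW, hsub⟩ := exists_mem_irreducibleComponents_subset_of_isIrreducible _ p.last.isIrreducible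
  have hemb : Topology.IsClosedEmbedding ((↑) : W → T) :=
    (isClosed_of_mem_irreducibleComponents W hW).isClosedEmbedding_subtypeVal
  have hle : ∀ i, (p i : Set T) ⊆ W := fun i => fun z hz => hsub ((show p i ≤ p.last from p.monotone (Fin.le_last i)) hz)
  let g : Fin (p.length + 1) → IrreducibleCloseds W := fun i =>
    ⟨((↑) : W → T) ⁻¹' (p i : Set T),
      by
        refine isIrreducible_of_image hemb.isInducing ?_
        rw [Subtype.image_preimage_coe, Set.inter_eq_right.2 (hle i)]
        exact (p i).isIrreducible,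
      (p i).isClosed.preimage continuous_subtype_val⟩
  let q : LTSeries (IrreducibleCloseds W) := LTSeries.mk p.length g fun i j hij => by
    have hpq := p.strictMono hij
    refine lt_of_le_of_ne (fun z hz => hpq.le hz) fun he => hpq.ne (SetLike.coe_injective ?_)
    have h1 := congrArg (fun Z : IrreducibleCloseds W => ((↑) : W → T) '' (Z : Set W)) he
    change ((↑) : W → T) '' (((↑) : W → T) ⁻¹' (p i : Set T)) =
      ((↑) : W → T) '' (((↑) : W → T) ⁻¹' (p j : Set T)) at h1
    rwa [Subtype.image_preimage_coe, Subtype.image_preimage_coe, Set.inter_eq_right.2 (hle i),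
      Set.inter_eq_right.2 (hle j)] at h1
  exact le_trans (le_iSup (fun q : LTSeries (IrreducibleCloseds W) => (q.length : WithBot ℕ∞)) q) (h W hW).le

section

variable {C : Scheme.{u}} [C.Over (Spec (CommRingCat.of k))]
  [LocallyOfFiniteType (C ↘ Spec (CommRingCat.of k))]

include k in
/-- Nodal curves are reduced. -/
theorem isReduced_of_nodal (hC : Curv2.AtWorstNodal k C) : AlgebraicGeometry.IsReduced C := by
  haveI : IsLocallyNoetherian C :=
    LocallyOfFiniteType.isLocallyNoetherian (C ↘ Spec (CommRingCat.of k))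
  haveI : JacobsonSpace C := LocallyOfFiniteType.jacobsonSpace (C ↘ Spec (CommRingCat.of k))
  have hcl : ∀ x : C, IsClosed ({x} : Set C) → _root_.IsReduced (C.presheaf.stalk x) := by
    intro x hx
    rcases hC x hx with ⟨V, hxV, hV⟩ | hnode
    · haveI := (TameExt51.isNormalScheme_of_smooth (V.ι ≫ (C ↘ Spec (CommRingCat.of k))) ⟨x, hxV⟩).1
      exact isReduced_of_injective _ (V.stalkIso ⟨x, hxV⟩).commRingCatIsoToRingEquiv.symm.injective
    · obtain ⟨-, xb, rfl, hn⟩ := hnode
      letI : (Curv2.bc k C (AlgebraicClosure k)).Over (Spec (CommRingCat.of (AlgebraicClosure k))) :=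
        ⟨Curv2.bcSnd k C (AlgebraicClosure k)⟩
      letI := Curv2.stalkAlgebra (AlgebraicClosure k) (Curv2.bc k C (AlgebraicClosure k)) xb
      obtain ⟨e, he⟩ := hn
      haveI : IsIso (Curv2.bcFst k C (AlgebraicClosure k)) := NodeStalk.isIso_bcFst
      haveI : IsIso ((Curv2.bcFst k C (AlgebraicClosure k)).stalkMap xb) := inferInstance
      let σ := RingEquiv.ofBijective ((Curv2.bcFst k C (AlgebraicClosure k)).stalkMap xb).hom
        (ConcreteCategory.bijective_of_isIso ((Curv2.bcFst k C (AlgebraicClosure k)).stalkMap xb))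
      haveI : IsNoetherianRing ((Curv2.bc k C (AlgebraicClosure k)).presheaf.stalk xb) :=
        isNoetherianRing_of_ringEquiv _ σ
      haveI : _root_.IsReduced (NodeAlg.Node (AlgebraicClosure k)) := ⟨fun r hr =>
        NodeAlg.eq_zero_of_branches fun j => (hr.map (NodeAlg.branch _ j)).eq_zero⟩
      haveI : _root_.IsReduced ((Curv2.bc k C (AlgebraicClosure k)).presheaf.stalk xb) :=
        isReduced_of_injective _ (NodeAlg.ι_injective (NodeAlg.isNodeMap_of_completion e he))
      exact isReduced_of_injective σ σ.injective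
  haveI : ∀ x : C, _root_.IsReduced (C.presheaf.stalk x) := fun x => ⟨fun a ha => by
    obtain ⟨n, hn⟩ := ha
    obtain ⟨V, hxV, f, rfl⟩ := TopCat.Presheaf.exists_germ_eq C.presheaf a
    rw [← map_pow] at hn
    obtain ⟨W, hxW, i, j, hW⟩ := C.presheaf.germ_eq (U := V) (V := V) x hxV hxV _ 0
      (hn.trans (map_zero _).symm)
    rw [map_zero, map_pow] at hW
    rw [← C.presheaf.germ_res_apply i x hxW]
    set g : Γ(C, W) := C.presheaf.map i.op f
    suffices g = 0 by rw [this, map_zero]
    let Z : Set C := {y | ∃ h : y ∈ W, C.presheaf.germ W y h g ≠ 0}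
    suffices hZ : Z = ∅ from TopCat.Presheaf.section_ext C.sheaf W g 0 fun y hy => by
      rw [map_zero]
      by_contra hne
      exact (hZ ▸ (⟨hy, hne⟩ : y ∈ Z) : y ∈ (∅ : Set C))
    by_contra hZ
    have hloc : IsLocallyClosed Z := by
      let O : C.Opens := ⨆ O ∈ {O : C.Opens | ∃ h : O ≤ W, C.presheaf.map (homOfLE h).op g = 0}, O
      have : Z = (W : Set C) ∩ (O : Set C)ᶜ := by
        ext y
        constructor
        · rintro ⟨hy, hne⟩
          refine ⟨hy, fun hO => hne ?_⟩
          simp only [O, SetLike.mem_coe, Opens.mem_iSup] at hO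
          obtain ⟨O', ⟨h, hO'⟩, hyO'⟩ := hO
          rw [← C.presheaf.germ_res_apply (homOfLE h) y hyO', hO', map_zero]
        · rintro ⟨hy, hO⟩
          refine ⟨hy, fun h0 => hO ?_⟩
          obtain ⟨O', hyO', i', j', hO'⟩ := C.presheaf.germ_eq (U := W) (V := W) y hy hy g 0
            (h0.trans (map_zero _).symm)
          simp only [O, SetLike.mem_coe, Opens.mem_iSup]
          exact ⟨O', ⟨i'.le, hO'.trans (map_zero _)⟩, hyO'⟩
      rw [this]
      exact W.2.isLocallyClosed.inter O.2.isClosed_compl.isLocallyClosed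
    obtain ⟨y, ⟨hy, hne⟩, hyc⟩ := nonempty_inter_closedPoints (Set.nonempty_iff_ne_empty.2 hZ) hloc
    haveI := hcl y hyc
    exact hne (IsNilpotent.eq_zero ⟨n, by rw [← map_pow, hW, map_zero]⟩)⟩
  exact isReduced_of_isReduced_stalk C

end

variable {C : Scheme.{u}} [C.Over (Spec (CommRingCat.of k))] [IsProper (C ↘ Spec (CommRingCat.of k))]

/-- `h⁰(O)` counts connected components. -/
theorem finrank_h0_eq_card [AlgebraicGeometry.IsReduced C] :
    Module.finrank k (Coh.HH C (Coh.structureModule C) 0) = Nat.card (_root_.ConnectedComponents C) := by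
  haveI := CurveCohLib.isNoetherian_of_proper (k := k) (X := C)
  letI : Algebra k Γ(C, ⊤) := (Coh.toGlobal (C ↘ Spec (CommRingCat.of k))).toAlgebra
  let e := Sheaf.H.equiv₀ (Coh.toAb (Coh.structureModule C)) isTerminalTop
  let el : Coh.HH C (Coh.structureModule C) 0 ≃ₗ[k] Γ(C, ⊤) :=
    { toFun := e, invFun := e.symm, left_inv := e.symm_apply_apply, right_inv := e.apply_symm_apply
      map_add' := e.map_add
      map_smul' := fun a t => by
        refine (CurveCohLib.h0Equiv_smul (Coh.structureModule C) a t).trans ?_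
        show C.presheaf.map (𝟙 (op (⊤ : C.Opens))) (Coh.toGlobal (C ↘ Spec (CommRingCat.of k)) a) *
            (show Γ(C, ⊤) from e t) =
          (show Γ(C, ⊤) from Coh.toGlobal (C ↘ Spec (CommRingCat.of k)) a) * (show Γ(C, ⊤) from e t)
        rw [C.presheaf.map_id]
        rfl }
  haveI := CurveCohLib.finite_HH (k := k) (QCoh.isCoh_structureModule' (X := C)) 0
  haveI : Module.Finite k Γ(C, ⊤) := Module.Finite.equiv el
  haveI : IsArtinianRing Γ(C, ⊤) := IsArtinianRing.of_finite k _
  rw [el.finrank_eq, CompCount.finrank_eq_card k, CompCount.card_connectedComponents C]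

variable {C' : Scheme.{u}} {π : C' ⟶ C} {U : C.Opens}

/-- The cokernel at a node is one-dimensional. -/
theorem finrank_stalk_node [AlgebraicGeometry.IsReduced C] (hπ : IsNormalization π U) {x : C}
    (hx : Curv2.IsNode k C x) :
    letI := CurveCohLib.stalkModuleK k (NodeFrob.normSeq π).X₃ x
    Module.finrank k ((NodeFrob.normSeq π).X₃.presheaf.stalk x) = 1 := by
  letI := CurveCohLib.stalkModuleK k (NodeFrob.normSeq π).X₃ x
  obtain ⟨ψ, hψ, hr, hc⟩ := NodeStalk.exists_vals_of_isNode hπ hx
  haveI : IsLocallyNoetherian C :=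
    LocallyOfFiniteType.isLocallyNoetherian (C ↘ Spec (CommRingCat.of k))
  obtain ⟨β, hβ⟩ := hψ (1, 0)
  obtain ⟨W, hxW, β, rfl⟩ := exists_germB π β
  set q := (NodeFrob.normSeq π).X₃.presheaf.germ W x hxW ((NodeFrob.normSeq π).g.app W β)
  have hne : q ≠ 0 := fun h0 => by
    have := (hr _).1 (NodeFrob.exists_of_germ_g_eq_zero hxW β h0)
    rw [hβ] at this
    exact one_ne_zero this
  refine finrank_eq_one q hne fun w => ?_
  obtain ⟨V, hxV, b, rfl⟩ := NodeFrob.exists_g_germ_eq w
  obtain ⟨c, hc'⟩ := (IsAlgClosed.algebraMap_bijective_of_isIntegral (k := k) (K := AlgebraicClosure k)).2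
    ((ψ (germB π hxV b)).1 - (ψ (germB π hxV b)).2)
  refine ⟨c, ?_⟩
  let O := V ⊓ W
  let s : Γ(C, O) := C.presheaf.map (homOfLE le_top).op (Coh.toGlobal (C ↘ Spec (CommRingCat.of k)) c)
  let β' : Γ(C', π ⁻¹ᵁ O) :=
    C'.presheaf.map ((Opens.map π.base).map (homOfLE (inf_le_right : O ≤ W))).op β
  let b' : Γ(C', π ⁻¹ᵁ O) :=
    C'.presheaf.map ((Opens.map π.base).map (homOfLE (inf_le_left : O ≤ V))).op b
  have hxO : x ∈ O := ⟨hxV, hxW⟩
  have hs : C.presheaf.germ O x hxO s = Curv2.stalkMap k C x c :=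
    C.presheaf.germ_res_apply _ x hxO _
  have h1 : Curv2.stalkMap k C x c • q =
      (NodeFrob.normSeq π).X₃.presheaf.germ O x hxO ((NodeFrob.normSeq π).g.app O (π.app O s * β')) := by
    rw [← hs]
    have hq : q = (NodeFrob.normSeq π).X₃.presheaf.germ O x hxO ((NodeFrob.normSeq π).g.app O β') := by
      show (NodeFrob.normSeq π).X₃.presheaf.germ W x hxW _ = _
      rw [← (NodeFrob.normSeq π).X₃.presheaf.germ_res_apply (homOfLE (inf_le_right : O ≤ W)) x hxO]
      exact congrArg _ (ConcreteCategory.congr_hom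
        ((NodeFrob.normSeq π).g.mapPresheaf.naturality (homOfLE (inf_le_right : O ≤ W)).op) β).symm
    rw [hq]
    refine (QCoh.germ_smul' (NodeFrob.normSeq π).X₃ hxO s _).symm.trans ?_
    exact congrArg _ ((NodeFrob.normSeq π).g.app_smul s β').symm
  have h2 : (NodeFrob.normSeq π).X₃.presheaf.germ V x hxV ((NodeFrob.normSeq π).g.app V b) =
      (NodeFrob.normSeq π).X₃.presheaf.germ O x hxO ((NodeFrob.normSeq π).g.app O b') := by
    rw [← (NodeFrob.normSeq π).X₃.presheaf.germ_res_apply (homOfLE (inf_le_left : O ≤ V)) x hxO]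
    exact congrArg _ (ConcreteCategory.congr_hom
      ((NodeFrob.normSeq π).g.mapPresheaf.naturality (homOfLE (inf_le_left : O ≤ V)).op) b).symm
  show Curv2.stalkMap k C x c • q = _
  rw [h1, h2]
  refine sub_eq_zero.1 ?_
  refine Eq.trans (map_sub ((NodeFrob.normSeq π).X₃.presheaf.germ O x hxO).hom _ _).symm ?_
  refine Eq.trans (congrArg _ (map_sub ((NodeFrob.normSeq π).g.app O).hom (π.app O s * β') b').symm) ?_
  refine NodeFrob.g_germ_eq hxO (π.app O s * β' - b') ((hr _).2 ?_)
  rw [map_sub, map_mul, germB_res, germB_res, ← toB_germ, hs, map_sub, map_mul, hc, hβ]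
  show algebraMap k (AlgebraicClosure k) c * 1 - (ψ (germB π hxV b)).1 =
    algebraMap k (AlgebraicClosure k) c * 0 - (ψ (germB π hxV b)).2
  rw [hc']
  ring

/-- The genus formula. -/
theorem genus_formula (hdim : ∀ Z ∈ irreducibleComponents (C : Type u), topologicalKrullDim Z = 1)
    (hC : Curv2.AtWorstNodal k C) [IsFinite π] (hC' : Pi1.IsNormalScheme C')
    (hU : Dense (U : Set C)) (hU' : Dense ((π ⁻¹ᵁ U : C'.Opens) : Set C')) (hπU : IsIso (π ∣_ U)) :
    letI : C'.Over (Spec (CommRingCat.of k)) := ⟨π ≫ (C ↘ (Spec (CommRingCat.of k)))⟩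
    (Curv2.genus k C : ℤ) + Nat.card (_root_.ConnectedComponents C') =
      (Curv2.genus k C' : ℤ) + Nat.card {x : C // Curv2.IsNode k C x} + Nat.card (_root_.ConnectedComponents C) := by
  classical
  letI : C'.Over (Spec (CommRingCat.of k)) := ⟨π ≫ (C ↘ (Spec (CommRingCat.of k)))⟩
  haveI : IsProper (C' ↘ Spec (CommRingCat.of k)) :=
    (inferInstance : IsProper (π ≫ (C ↘ Spec (CommRingCat.of k))))
  haveI := isReduced_of_nodal k hC
  have hπ : IsNormalization π U := ⟨inferInstance, hC', hU, hU', hπU⟩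
  haveI := isReduced_source hπ
  haveI := CurveCohLib.isNoetherian_of_proper (k := k) (X := C)
  haveI := CurveCohLib.isNoetherian_of_proper (k := k) (X := C')
  haveI : NoetherianSpace C.toPresheafedSpace.carrier := (inferInstance : NoetherianSpace C)
  have hvan : ∀ (M : C.Modules) (i : ℕ), 2 ≤ i → Subsingleton (Coh.HH C M i) := fun M i hi =>
    GrothVanish.subsingleton_H_of_dim_lt (X := C.toPresheafedSpace.carrier) (d := 1)
      (topologicalKrullDim_le 1 (fun Z hZ => by exact_mod_cast hdim Z hZ)) (Coh.toAb M) (by omega)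
  obtain ⟨hfin, hcl⟩ := NodeFrob.finite_compl hU hdim
  let Q := (NodeFrob.normSeq π).X₃
  have hc₂ : Coh.IsCoh (NodeFrob.normSeq π).X₂ :=
    QCoh.isCoh_pushforward_finite π (QCoh.isCoh_structureModule' (X := C'))
  have hc₁ : Coh.IsCoh (NodeFrob.normSeq π).X₁ := QCoh.isCoh_structureModule'
  have hQ : Coh.IsCoh Q := QCoh.isCoh_cokernel hc₁.1 hc₂ _
  have hsupp : CohB1.support Q ⊆ {x | Curv2.IsNode k C x} := fun x hx => by
    have hxU : x ∉ U := fun h => hx (NodeFrob.subsingleton_stalk_of_surjective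
      (NodeFrob.surjective_toB_of_mem hπ h))
    exact (NodeStalk.cases hC hπ (hcl x hxU)).resolve_left
      fun h => hx (NodeFrob.subsingleton_stalk_of_surjective h)
  have hnodes : {x | Curv2.IsNode k C x}.Finite := hfin.subset fun x hx hxU => by
    obtain ⟨ψ, hψ, hr, -⟩ := NodeStalk.exists_vals_of_isNode hπ hx
    obtain ⟨b, hb⟩ := hψ (1, 0)
    obtain ⟨a, ha⟩ := NodeFrob.surjective_toB_of_mem hπ (show x ∈ U from hxU) b
    have := (hr b).1 ⟨a, ha⟩
    rw [hb] at this
    exact one_ne_zero this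
  obtain ⟨hQe, -⟩ := CurveCohLib.euler_eq_sum_stalks (k := k) hQ (fun x hx => (hsupp hx).1)
    hnodes.toFinset (by simpa using hsupp)
  have hQn : Curv2.euler k C Q = Nat.card {x : C // Curv2.IsNode k C x} := by
    rw [hQe, Finset.sum_congr rfl fun x hx => by
      rw [finrank_stalk_node k hπ (hnodes.mem_toFinset.1 hx)]]
    rw [Finset.sum_const, nsmul_eq_mul, Nat.cast_one, mul_one]
    exact_mod_cast (Nat.card_eq_card_finite_toFinset hnodes).symm
  have hadd := CurveCohLib.euler_additive (k := k) (NodeFrob.normSeq_shortExact hπ) hc₁ hc₂ hQ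
  have heq : ∀ M : C.Modules, Curv2.euler k C M =
      (Module.finrank k (Coh.HH C M 0) : ℤ) - Module.finrank k (Coh.HH C M 1) := fun M => by
    rw [CurveCohLib.euler_eq_sum (k := k) (N := 2) fun i hi => hvan M i hi]
    simp [Finset.sum_range_succ, sub_eq_add_neg]
  have hpush : ∀ i, Module.finrank k (Coh.HH C (NodeFrob.normSeq π).X₂ i) =
      Module.finrank k (Coh.HH C' (Coh.structureModule C') i) := fun i =>
    ((PnCoh.exists_linearEquiv_push k π rfl (QCoh.isQCoh_structureModule (X := C')) i).some).finrank_eq.symm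
  rw [heq, heq (NodeFrob.normSeq π).X₁, hpush, hpush, hQn, finrank_h0_eq_card k,
    show (NodeFrob.normSeq π).X₁ = Coh.structureModule C from rfl, finrank_h0_eq_card k] at hadd
  unfold Curv2.genus
  linarith

end Groth.Agent.LS17.NodeCount
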