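import Groth.Prelude.Def_CurvBase
import Groth.Prelude.Def_Pi1
import Groth.Agent.LS17.NodeAlg
import Groth.Agent.TameExt51.Sch

/-! The stalks of the normalisation of a nodal curve. -/

noncomputable section

set_option linter.style.haveILetI false
set_option linter.unusedSectionVars false
set_option backward.isDefEq.respectTransparency false
set_option backward.isDefEq.respectTransparency.types false

universe u

open CategoryTheory CategoryTheory.Limits AlgebraicGeometry TopologicalSpace Opposite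
open scoped nonZeroDivisors

namespace Groth.Agent.LS17.NodeNorm

variable {C C' : Scheme.{u}} (π : C' ⟶ C)

/-- A birational finite map from a normal scheme. -/
structure IsNormalization (U : C.Opens) : Prop where
  fin : IsFinite π
  normal : Pi1.IsNormalScheme C'
  dense : Dense (U : Set C)
  dense' : Dense ((π ⁻¹ᵁ U : C'.Opens) : Set C')
  iso : IsIso (π ∣_ U)

theorem eq_zero_of_dense {X : Scheme.{u}} [IsReduced X] {W : X.Opens} {U : Set X} (hU : Dense U)
    (z : Γ(X, W)) (h : ∀ y ∈ X.basicOpen z, y ∉ U) : z = 0 := by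
  refine eq_zero_of_basicOpen_eq_bot z ?_
  by_contra hne
  obtain ⟨y, hy, hyU⟩ := hU.inter_open_nonempty _ (X.basicOpen z).2
    (Set.nonempty_iff_ne_empty.2 fun h0 => hne (Opens.ext h0))
  exact h y hy hyU

theorem notMem_basicOpen_of_map_eq_zero {X : Scheme.{u}} {W V : X.Opens} (i : V ≤ W) (z : Γ(X, W))
    (h : X.presheaf.map (homOfLE i).op z = 0) {y : X} (hy : y ∈ V) : y ∉ X.basicOpen z := fun hb => by
  rw [X.mem_basicOpen z y (i hy), ← X.presheaf.germ_res_apply (homOfLE i) y hy, h, map_zero] at hb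
  exact not_isUnit_zero hb

variable {π} {U : C.Opens}

theorem app_bijective (hπ : IsNormalization π U) {V : C.Opens} (hV : V ≤ U) :
    Function.Bijective (π.app V) := by
  haveI := hπ.iso
  obtain ⟨V', rfl⟩ : ∃ V' : U.toScheme.Opens, U.ι ''ᵁ V' = V :=
    ⟨U.ι ⁻¹ᵁ V, by rw [Scheme.Hom.image_preimage_eq_opensRange_inf, Scheme.Opens.opensRange_ι]; exact inf_eq_right.2 hV⟩
  have h : IsIso ((π ∣_ U).app V') := inferInstance
  rw [morphismRestrict_app] at h
  haveI : IsIso (π.app (U.ι ''ᵁ V')) := IsIso.of_isIso_comp_right _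
    (C'.presheaf.map (eqToHom (image_morphismRestrict_preimage π U V')).op)
  exact ConcreteCategory.bijective_of_isIso _

/-- The structure map is natural. -/
theorem app_res {V W : C.Opens} (i : V ≤ W) (f : Γ(C, W)) :
    C'.presheaf.map ((Opens.map π.base).map (homOfLE i)).op (π.app W f) =
      π.app V (C.presheaf.map (homOfLE i).op f) :=
  (ConcreteCategory.congr_hom (π.naturality (homOfLE i).op) f).symm

theorem res_res {V V' W : C.Opens} (i : V ≤ V') (j : V' ≤ W) (f : Γ(C, W)) :
    C.presheaf.map (homOfLE i).op (C.presheaf.map (homOfLE j).op f) =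
      C.presheaf.map (homOfLE (i.trans j)).op f := by
  rw [← ConcreteCategory.comp_apply, ← C.presheaf.map_comp]
  rfl

theorem res_res' {V V' W : C.Opens} (i : V ≤ V') (j : V' ≤ W) (f : Γ(C', π ⁻¹ᵁ W)) :
    C'.presheaf.map ((Opens.map π.base).map (homOfLE i)).op
        (C'.presheaf.map ((Opens.map π.base).map (homOfLE j)).op f) =
      C'.presheaf.map ((Opens.map π.base).map (homOfLE (i.trans j))).op f := by
  rw [← ConcreteCategory.comp_apply, ← C'.presheaf.map_comp]
  rfl

theorem app_injective [IsReduced C] (hπ : IsNormalization π U) (W : C.Opens) :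
    Function.Injective (π.app W) := (injective_iff_map_eq_zero _).2 fun f hf => by
  refine eq_zero_of_dense hπ.dense f fun y hy hyU => ?_
  refine notMem_basicOpen_of_map_eq_zero (inf_le_left : W ⊓ U ≤ W) f ?_
    ⟨C.basicOpen_le f hy, hyU⟩ hy
  refine (app_bijective hπ inf_le_right).1 ?_
  rw [← app_res, hf, map_zero, map_zero]

theorem isReduced_source (hπ : IsNormalization π U) : IsReduced C' := by
  haveI : ∀ y : C', _root_.IsReduced (C'.presheaf.stalk y) := fun y => by
    haveI := (hπ.normal y).1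
    infer_instance
  exact isReduced_of_isReduced_stalk C'

section Stalk

variable [IsReduced C]

/-- On an affine open some function is invertible only inside `U` and is a nonzerodivisor. -/
theorem exists_good [IsLocallyNoetherian C] (hU : Dense (U : Set C)) {W : C.Opens} (hW : IsAffineOpen W) :
    ∃ g : Γ(C, W), C.basicOpen g ≤ U ∧ g ∈ Γ(C, W)⁰ := by
  classical
  haveI : IsNoetherianRing Γ(C, W) := IsLocallyNoetherian.component_noetherian ⟨W, hW⟩
  let I : Ideal Γ(C, W) :=
    { carrier := {g | C.basicOpen g ≤ U}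
      add_mem' := fun {a b} ha hb y hy => by
        have hyW := C.basicOpen_le _ hy
        rw [C.mem_basicOpen _ y hyW, map_add] at hy
        rcases IsLocalRing.isUnit_or_isUnit_of_isUnit_add hy with h | h
        · exact ha ((C.mem_basicOpen _ y hyW).2 h)
        · exact hb ((C.mem_basicOpen _ y hyW).2 h)
      zero_mem' := by
        show C.basicOpen (0 : Γ(C, W)) ≤ U
        rw [C.basicOpen_zero]
        exact bot_le
      smul_mem' := fun c a ha => by
        show C.basicOpen (c * a) ≤ U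
        rw [C.basicOpen_mul]
        exact inf_le_right.trans ha }
  by_contra hne
  push Not at hne
  have hsub : (I : Set Γ(C, W)) ⊆ ⋃ p ∈ associatedPrimes Γ(C, W) Γ(C, W), (p : Set Γ(C, W)) :=
    fun g hg => by
      rw [biUnion_associatedPrimes_eq_zero_divisors]
      obtain ⟨z, hz, hz0⟩ : ∃ z, z * g = 0 ∧ z ≠ 0 := by
        by_contra hno
        push Not at hno
        exact hne g hg (mem_nonZeroDivisors_iff_right.2 hno)
      exact ⟨z, hz0, by rw [smul_eq_mul, mul_comm, hz]⟩
  obtain ⟨p, hp, hIp⟩ := (Ideal.subset_union_prime_finite (associatedPrimes.finite Γ(C, W) Γ(C, W)) ⊥ ⊥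
    (fun p hp _ _ => hp.isPrime)).1 hsub
  obtain ⟨hp', z, hz⟩ := hp
  haveI : _root_.IsReduced Γ(C, W) := inferInstance
  have hkill : ∀ h ∈ p, h * z = 0 := fun h hh => by
    rw [hz] at hh
    obtain ⟨n, hn⟩ := hh
    rw [Submodule.mem_colon_singleton, Submodule.mem_bot, smul_eq_mul] at hn
    refine (show IsNilpotent (h * z) from ⟨n + 1, ?_⟩).eq_zero
    rw [mul_pow, pow_succ, pow_succ]
    linear_combination (h * z ^ n) * hn
  have hz0 : z = 0 := by
    refine eq_zero_of_dense hU z fun y hy hyU => ?_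
    obtain ⟨h, hhU, hyh⟩ := hW.exists_basicOpen_le (V := U) ⟨y, hyU⟩ (C.basicOpen_le z hy)
    have h1 : y ∈ C.basicOpen (h * z) := by rw [C.basicOpen_mul]; exact ⟨hyh, hy⟩
    rw [hkill h (hIp hhU), C.basicOpen_zero] at h1
    exact h1.elim
  refine hp'.ne_top ((Ideal.eq_top_iff_one _).2 ?_)
  rw [hz, hz0]
  exact ⟨1, Submodule.mem_colon_singleton.2 (by simp)⟩

theorem regular_target {W V : C.Opens} {g : Γ(C, W)} (hg : g ∈ Γ(C, W)⁰) (hW : IsAffineOpen W)
    (i : V ≤ W) {z : Γ(C, V)} (hz : C.presheaf.map (homOfLE i).op g * z = 0) : z = 0 := by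
  refine eq_zero_of_basicOpen_eq_bot z (eq_bot_iff.2 fun y hy => ?_)
  obtain ⟨h, hh, hyh⟩ := hW.exists_basicOpen_le (V := C.basicOpen z) ⟨y, hy⟩ (i (C.basicOpen_le z hy))
  have h0 : C.basicOpen (h * g) = ⊥ := by
    rw [C.basicOpen_mul, eq_bot_iff]
    rintro v ⟨hv, hvg⟩
    have h1 : v ∈ C.basicOpen (C.presheaf.map (homOfLE i).op g * z) := by
      rw [C.basicOpen_mul, C.basicOpen_res]
      exact ⟨⟨C.basicOpen_le z (hh hv), hvg⟩, hh hv⟩
    rw [hz, C.basicOpen_zero] at h1
    exact h1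
  have h2 : h = 0 := mem_nonZeroDivisors_iff_right.1 hg h (eq_zero_of_basicOpen_eq_bot _ h0)
  rw [h2, C.basicOpen_zero] at hyh
  exact hyh

theorem regular_source (hπ : IsNormalization π U) {W V : C.Opens} {g : Γ(C, W)} (hg : g ∈ Γ(C, W)⁰)
    (hW : IsAffineOpen W) (i : V ≤ W) {z : Γ(C', π ⁻¹ᵁ V)}
    (hz : π.app V (C.presheaf.map (homOfLE i).op g) * z = 0) : z = 0 := by
  haveI := isReduced_source hπ
  refine eq_zero_of_dense hπ.dense' z fun y hy hyU => ?_
  let j : V ⊓ U ≤ V := inf_le_left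
  refine notMem_basicOpen_of_map_eq_zero
    (show π ⁻¹ᵁ (V ⊓ U) ≤ π ⁻¹ᵁ V from (Opens.map π.base).map (homOfLE j) |>.le) z ?_
    (show y ∈ π ⁻¹ᵁ (V ⊓ U) from ⟨C'.basicOpen_le z hy, hyU⟩) hy
  obtain ⟨z₀, hz₀⟩ := (app_bijective hπ (inf_le_right : V ⊓ U ≤ U)).2
    (C'.presheaf.map ((Opens.map π.base).map (homOfLE j)).op z)
  have h1 : C.presheaf.map (homOfLE (j.trans i)).op g * z₀ = 0 := app_injective hπ _ (by
    have h2 := congrArg (C'.presheaf.map ((Opens.map π.base).map (homOfLE j)).op) hz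
    rw [map_mul, map_zero, app_res, ← hz₀, ← map_mul] at h2
    rw [map_zero, ← h2, ← ConcreteCategory.comp_apply, ← C.presheaf.map_comp]
    rfl)
  have h3 : z₀ = 0 := regular_target hg hW _ h1
  rw [h3, map_zero] at hz₀
  exact hz₀.symm

variable (π)

/-- The stalk of the direct image of the structure sheaf. -/
abbrev BSt (x : C) : CommRingCat.{u} :=
  ((TopCat.Presheaf.pushforward CommRingCat π.base).obj C'.presheaf).stalk x

/-- The map of stalks. -/
def toB (x : C) : C.presheaf.stalk x ⟶ BSt π x :=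
  (TopCat.Presheaf.stalkFunctor CommRingCat x).map π.c

/-- The germ in the stalk of the direct image. -/
def germB {x : C} {V : C.Opens} (hx : x ∈ V) : Γ(C', π ⁻¹ᵁ V) ⟶ BSt π x :=
  ((TopCat.Presheaf.pushforward CommRingCat π.base).obj C'.presheaf).germ V x hx

theorem toB_germ {x : C} {V : C.Opens} (hx : x ∈ V) (f : Γ(C, V)) :
    toB π x (C.presheaf.germ V x hx f) = germB π hx (π.app V f) :=
  TopCat.Presheaf.stalkFunctor_map_germ_apply V x hx π.c f

theorem germB_res {x : C} {V W : C.Opens} (i : V ≤ W) (hx : x ∈ V) (f : Γ(C', π ⁻¹ᵁ W)) :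
    germB π hx (C'.presheaf.map ((Opens.map π.base).map (homOfLE i)).op f) = germB π (i hx) f :=
  TopCat.Presheaf.germ_res_apply ((TopCat.Presheaf.pushforward CommRingCat π.base).obj C'.presheaf)
    (homOfLE i) x hx f

theorem exists_germB {x : C} (b : BSt π x) : ∃ (V : C.Opens) (hx : x ∈ V) (f : Γ(C', π ⁻¹ᵁ V)),
    germB π hx f = b :=
  TopCat.Presheaf.exists_germ_eq _ b

theorem exists_germB_affine {x : C} (b : BSt π x) :
    ∃ (V : C.Opens) (_ : IsAffineOpen V) (hx : x ∈ V) (f : Γ(C', π ⁻¹ᵁ V)), germB π hx f = b := by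
  obtain ⟨V, hxV, f, rfl⟩ := exists_germB π b
  obtain ⟨W, hW, hxW, hWV⟩ := exists_isAffineOpen_mem_and_subset hxV
  exact ⟨W, hW, hxW, _, germB_res π hWV hxW f⟩

theorem germB_eq_zero {x : C} {V : C.Opens} {hx : x ∈ V} {f : Γ(C', π ⁻¹ᵁ V)} (h : germB π hx f = 0) :
    ∃ (W : C.Opens) (i : W ≤ V), x ∈ W ∧ C'.presheaf.map ((Opens.map π.base).map (homOfLE i)).op f = 0 := by
  obtain ⟨W, hxW, i, j, hW⟩ := TopCat.Presheaf.germ_eq
    ((TopCat.Presheaf.pushforward CommRingCat π.base).obj C'.presheaf) (U := V) (V := V) x hx hx f 0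
    (h.trans (map_zero _).symm)
  exact ⟨W, i.le, hxW, hW.trans (map_zero _)⟩

variable {π}

theorem toB_injective (hπ : IsNormalization π U) (x : C) : Function.Injective (toB π x) :=
  (injective_iff_map_eq_zero _).2 fun a ha => by
    obtain ⟨V, hxV, f, rfl⟩ := TopCat.Presheaf.exists_germ_eq C.presheaf a
    rw [toB_germ] at ha
    obtain ⟨W, i, hxW, hW⟩ := germB_eq_zero π ha
    rw [app_res] at hW
    rw [← C.presheaf.germ_res_apply (homOfLE i) x hxW, app_injective hπ W (hW.trans (map_zero _).symm),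
      map_zero]

theorem toB_isIntegral (hπ : IsNormalization π U) (x : C) (b : BSt π x) :
    (toB π x).hom.IsIntegralElem b := by
  haveI := hπ.fin
  obtain ⟨V, hV, hxV, f, rfl⟩ := exists_germB_affine π b
  obtain ⟨P, hP, hPf⟩ := (π.finite_app _ hV).to_isIntegral f
  refine ⟨P.map (C.presheaf.germ V x hxV).hom, hP.map _, ?_⟩
  have hcomp : ((toB π x).hom).comp (C.presheaf.germ V x hxV).hom =
      (germB π hxV).hom.comp (π.app V).hom := RingHom.ext fun r => toB_germ π hxV r
  rw [Polynomial.eval₂_map, hcomp, ← Polynomial.hom_eval₂, hPf, map_zero]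

theorem exists_fraction [IsLocallyNoetherian C] (hπ : IsNormalization π U) (x : C) (b : BSt π x) :
    ∃ s a : C.presheaf.stalk x, s ∈ (C.presheaf.stalk x)⁰ ∧ toB π x s ∈ (BSt π x)⁰ ∧
      toB π x s * b = toB π x a := by
  haveI := hπ.fin
  obtain ⟨W, hW, hxW, f, rfl⟩ := exists_germB_affine π b
  obtain ⟨g, hgU, hg⟩ := exists_good hπ.dense hW
  obtain ⟨a₀, ha₀⟩ := (app_bijective hπ hgU).2
    (C'.presheaf.map ((Opens.map π.base).map (homOfLE (C.basicOpen_le g))).op f)
  haveI := hW.isLocalization_basicOpen g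
  obtain ⟨⟨a, ⟨_, n, rfl⟩⟩, ha⟩ := IsLocalization.surj (Submonoid.powers g) a₀
  have hga : C.presheaf.map (homOfLE (C.basicOpen_le g)).op (g ^ n) * a₀ =
      C.presheaf.map (homOfLE (C.basicOpen_le g)).op a := by
    rw [mul_comm]; exact ha
  have key : π.app W (g ^ n) * f = π.app W a := sub_eq_zero.1 <| regular_source hπ hg hW le_rfl <| by
    haveI := isReduced_source hπ
    refine eq_zero_of_basicOpen_eq_bot _ (eq_bot_iff.2 fun y hy => ?_)
    rw [C'.basicOpen_mul] at hy
    rw [← Scheme.preimage_basicOpen, C.basicOpen_res] at hy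
    exact notMem_basicOpen_of_map_eq_zero
      (show π ⁻¹ᵁ C.basicOpen g ≤ π ⁻¹ᵁ W from ((Opens.map π.base).map (homOfLE (C.basicOpen_le g))).le) _
      (by
        show C'.presheaf.map ((Opens.map π.base).map (homOfLE (C.basicOpen_le g))).op _ = 0
        rw [map_sub, map_mul, app_res, app_res, ← ha₀, ← map_mul, hga, sub_self]) hy.1.2 hy.2
  refine ⟨C.presheaf.germ W x hxW (g ^ n), C.presheaf.germ W x hxW a, ?_, ?_, ?_⟩
  · rw [map_pow]
    refine pow_mem (mem_nonZeroDivisors_iff_right.2 fun z hz => ?_) n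
    obtain ⟨V, hxV, z, rfl⟩ := TopCat.Presheaf.exists_germ_eq C.presheaf z
    have h1 : C.presheaf.germ (V ⊓ W) x ⟨hxV, hxW⟩ (C.presheaf.map (homOfLE inf_le_right).op g *
        C.presheaf.map (homOfLE inf_le_left).op z) = 0 := by
      rw [map_mul, C.presheaf.germ_res_apply, C.presheaf.germ_res_apply, mul_comm, hz]
    obtain ⟨O, hxO, i, j, hO⟩ := C.presheaf.germ_eq (U := V ⊓ W) (V := V ⊓ W) x ⟨hxV, hxW⟩ ⟨hxV, hxW⟩
      _ 0 (h1.trans (map_zero _).symm)
    rw [map_mul, map_zero, show i = homOfLE i.le from Subsingleton.elim _ _, res_res, res_res] at hO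
    have hz0 := regular_target hg hW (i.le.trans inf_le_right) hO
    rw [← C.presheaf.germ_res_apply (homOfLE (i.le.trans inf_le_left)) x hxO]
    exact (congrArg _ hz0).trans (map_zero _)
  · rw [map_pow, map_pow, toB_germ]
    refine pow_mem (mem_nonZeroDivisors_iff_right.2 fun z hz => ?_) n
    obtain ⟨V, hxV, z, rfl⟩ := exists_germB π z
    have h1 : germB π (show x ∈ V ⊓ W from ⟨hxV, hxW⟩)
        (π.app (V ⊓ W) (C.presheaf.map (homOfLE inf_le_right).op g) *
          C'.presheaf.map ((Opens.map π.base).map (homOfLE inf_le_left)).op z) = 0 := by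
      rw [map_mul, ← app_res, germB_res, germB_res, mul_comm, hz]
    obtain ⟨O, i, hxO, hO⟩ := germB_eq_zero π h1
    rw [map_mul, app_res, res_res, res_res'] at hO
    have hz0 := regular_source hπ hg hW (i.trans inf_le_right) hO
    rw [← germB_res π (i.trans inf_le_left) hxO]
    exact (congrArg _ hz0).trans (map_zero _)
  · rw [toB_germ, toB_germ, ← map_mul, key]

theorem exists_root (hπ : IsNormalization π U) (x : C) (s a c₁ c₀ : C.presheaf.stalk x)
    (hs : toB π x s ∈ (BSt π x)⁰) (heq : a ^ 2 + c₁ * s * a + c₀ * s ^ 2 = 0) :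
    ∃ b : BSt π x, toB π x s * b = toB π x a := by
  haveI := hπ.fin
  obtain ⟨W, hW, hxW, -⟩ := exists_isAffineOpen_mem_and_subset (U := (⊤ : C.Opens)) (x := x) trivial
  letI : Algebra Γ(C, W) (C.presheaf.stalk x) := C.presheaf.algebra_section_stalk ⟨x, hxW⟩
  haveI := hW.isLocalization_stalk ⟨x, hxW⟩
  let p := (hW.primeIdealOf ⟨x, hxW⟩).asIdeal
  obtain ⟨⟨S, ⟨d, hd⟩⟩, hS⟩ := IsLocalization.surj p.primeCompl s
  obtain ⟨⟨T, ⟨e, he⟩⟩, hT⟩ := IsLocalization.surj p.primeCompl a
  have hdu : IsUnit (algebraMap Γ(C, W) (C.presheaf.stalk x) (d * e)) :=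
    IsLocalization.map_units _ (⟨d * e, mul_mem hd he⟩ : p.primeCompl)
  rw [map_mul, IsUnit.mul_iff] at hdu
  obtain ⟨hdu, heu⟩ := hdu
  -- clear denominators
  suffices h : ∃ b : BSt π x, toB π x (algebraMap Γ(C, W) (C.presheaf.stalk x) (S * e)) * b =
      toB π x (algebraMap Γ(C, W) (C.presheaf.stalk x) (T * d)) by
    obtain ⟨b, hb⟩ := h
    rw [map_mul (algebraMap Γ(C, W) (C.presheaf.stalk x)), map_mul (algebraMap Γ(C, W) (C.presheaf.stalk x)),
      ← hS, ← hT] at hb
    simp only [map_mul] at hb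
    refine ⟨b, ((hdu.map (toB π x).hom).mul (heu.map (toB π x).hom)).mul_left_cancel ?_⟩
    linear_combination hb
  set S' := S * e
  set T' := T * d
  set s' : C.presheaf.stalk x := algebraMap Γ(C, W) _ S'
  set a' : C.presheaf.stalk x := algebraMap Γ(C, W) _ T'
  have hs' : toB π x s' ∈ (BSt π x)⁰ := by
    simp only [s', S', map_mul, ← hS]
    exact mul_mem (mul_mem hs (hdu.map (toB π x).hom).mem_nonZeroDivisors)
      (heu.map (toB π x).hom).mem_nonZeroDivisors
  have heq' : a' ^ 2 + c₁ * s' * a' + c₀ * s' ^ 2 = 0 := by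
    simp only [s', S', a', T', map_mul, ← hS, ← hT]
    linear_combination (algebraMap Γ(C, W) (C.presheaf.stalk x) d * algebraMap Γ(C, W) (C.presheaf.stalk x) e) ^ 2 * heq
  let B := Γ(C', π ⁻¹ᵁ W)
  letI : Algebra Γ(C, W) B := (π.app W).hom.toAlgebra
  haveI : Algebra.IsIntegral Γ(C, W) B := ⟨(π.finite_app _ hW).to_isIntegral⟩
  let J : Ideal B :=
    { carrier := {h | ∃ β, h * π.app W T' = π.app W S' * β}
      add_mem' := fun {u v} ⟨β, hβ⟩ ⟨γ, hγ⟩ => ⟨β + γ, by rw [add_mul, mul_add, hβ, hγ]⟩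
      zero_mem' := ⟨0, by rw [zero_mul, mul_zero]⟩
      smul_mem' := fun c u ⟨β, hβ⟩ => ⟨c * β, by rw [smul_eq_mul, mul_assoc, hβ, mul_left_comm]⟩ }
  by_cases hJ : J.comap (algebraMap Γ(C, W) B) ≤ p
  · exfalso
    obtain ⟨Q, hJQ, hQ, hQp⟩ := Ideal.exists_ideal_over_prime_of_isIntegral p J hJ
    have hWπ : IsAffineOpen (π ⁻¹ᵁ W) := hW.preimage π
    let q : PrimeSpectrum B := ⟨Q, hQ⟩
    let y := hWπ.fromSpec q
    have hy : y ∈ π ⁻¹ᵁ W := (hWπ.isoSpec.inv q).2
    have hπy : π y = x := by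
      have h1 : hW.fromSpec (Spec.map (π.app W) q) = π y := by
        rw [π.app_eq_appLE, ← Scheme.Hom.comp_apply, hW.SpecMap_appLE_fromSpec π hWπ le_rfl]
        rfl
      have h2 : Spec.map (π.app W) q = hW.primeIdealOf ⟨x, hxW⟩ := PrimeSpectrum.ext hQp
      rw [← h1, h2, hW.fromSpec_primeIdealOf]
    letI : Algebra B (C'.presheaf.stalk y) := C'.presheaf.algebra_section_stalk ⟨y, hy⟩
    haveI : IsLocalization.AtPrime (C'.presheaf.stalk y) Q := hWπ.isLocalization_stalk' q hy
    haveI := (hπ.normal y).1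
    haveI := (hπ.normal y).2
    obtain ⟨sy, hsy⟩ : ∃ sy : BSt π x →+* C'.presheaf.stalk y, ∀ f : B,
        sy (germB π hxW f) = algebraMap B (C'.presheaf.stalk y) f := by
      subst hπy
      exact ⟨(C'.presheaf.stalkPushforward CommRingCat π.base y).hom,
        fun f => ConcreteCategory.congr_hom (C'.presheaf.stalkPushforward_germ CommRingCat π.base W y hxW) f⟩
    let φ : C.presheaf.stalk x →+* C'.presheaf.stalk y := sy.comp (toB π x).hom
    have hφ : ∀ f : Γ(C, W), φ (algebraMap Γ(C, W) _ f) = algebraMap B _ (π.app W f) := fun f => by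
      show sy (toB π x (C.presheaf.germ W x hxW f)) = _
      rw [toB_germ, hsy]
    have hs0 : φ s' ≠ 0 := fun h0 => by
      rw [hφ] at h0
      obtain ⟨⟨h, hh⟩, hh0⟩ := (IsLocalization.map_eq_zero_iff Q.primeCompl _ _).1 h0
      have h1 : germB π hxW h = 0 := by
        refine mem_nonZeroDivisors_iff_right.1 hs' _ ?_
        rw [show toB π x s' = germB π hxW (π.app W S') from toB_germ π hxW S', ← map_mul]
        rw [hh0, map_zero]
      have h2 := congrArg sy h1
      rw [hsy, map_zero] at h2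
      exact (IsLocalization.map_units (C'.presheaf.stalk y) (⟨h, hh⟩ : Q.primeCompl)).ne_zero h2
    let F := FractionRing (C'.presheaf.stalk y)
    let z : F := algebraMap _ F (φ a') / algebraMap _ F (φ s')
    have hsF : algebraMap _ F (φ s') ≠ 0 := (map_ne_zero_iff _ (IsFractionRing.injective _ _)).2 hs0
    have hz : IsIntegral (C'.presheaf.stalk y) z := by
      refine ⟨Polynomial.X ^ 2 + (Polynomial.C (φ c₁) * Polynomial.X + Polynomial.C (φ c₀)),
        Polynomial.monic_X_pow_add ?_, ?_⟩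
      · exact lt_of_le_of_lt (Polynomial.degree_linear_le) (by exact_mod_cast one_lt_two)
      · simp only [Polynomial.eval₂_add, Polynomial.eval₂_mul, Polynomial.eval₂_pow, Polynomial.eval₂_X,
          Polynomial.eval₂_C]
        have h1 := congrArg (fun t => algebraMap _ F (φ t)) heq'
        simp only [map_add, map_mul, map_pow, map_zero] at h1
        have hzs : algebraMap _ F (φ a') = algebraMap _ F (φ s') * z := (mul_div_cancel₀ _ hsF).symm
        rw [hzs] at h1
        refine mul_left_cancel₀ (pow_ne_zero 2 hsF) ?_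
        linear_combination h1
    obtain ⟨β, hβ⟩ := IsIntegrallyClosed.isIntegral_iff.1 hz
    have hab : φ s' * β = φ a' := IsFractionRing.injective (C'.presheaf.stalk y) F (by
      rw [map_mul, hβ]; exact mul_div_cancel₀ _ hsF)
    obtain ⟨⟨βn, ⟨h, hh⟩⟩, hβh⟩ := IsLocalization.surj Q.primeCompl β
    have h2 : algebraMap B (C'.presheaf.stalk y) (h * π.app W T') =
        algebraMap B _ (π.app W S' * βn) := by
      rw [map_mul (algebraMap B (C'.presheaf.stalk y)), map_mul (algebraMap B (C'.presheaf.stalk y)),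
        ← hφ, ← hφ, ← hβh]
      show _ * φ a' = φ s' * _
      rw [← hab]
      ring
    obtain ⟨⟨h', hh'⟩, he'⟩ := (IsLocalization.eq_iff_exists Q.primeCompl _).1 h2
    exact mul_mem hh' hh (hJQ ⟨h' * βn, by rw [mul_assoc, he', mul_left_comm]⟩)
  · obtain ⟨f, ⟨β, hβ⟩, hfp⟩ := SetLike.not_le_iff_exists.1 hJ
    have hu : IsUnit (germB π hxW (π.app W f)) := by
      rw [← toB_germ]
      exact (IsLocalization.map_units (C.presheaf.stalk x) (⟨f, hfp⟩ : p.primeCompl)).map (toB π x).hom
    obtain ⟨u, hu⟩ := hu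
    refine ⟨germB π hxW β * (↑u⁻¹ : BSt π x), ?_⟩
    rw [show toB π x s' = germB π hxW (π.app W S') from toB_germ π hxW S',
      show toB π x a' = germB π hxW (π.app W T') from toB_germ π hxW T', ← mul_assoc, ← map_mul, ← hβ,
      map_mul, show germB π hxW (algebraMap Γ(C, W) B f) = u from hu.symm, mul_comm (↑u : BSt π x),
      Units.mul_inv_cancel_right]

end Stalk

end Groth.Agent.LS17.NodeNorm
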