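import Groth.Agent.LS17.CastBound

/-! Max Noether's theorem on the canonical ring. -/

namespace Groth.Agent.LS17

open FunFld WithZero
open Groth.Agent.FFLib

variable {k K : Type*} [Field k] [IsAlgClosed k] [Field K] [Algebra k K] (hK : IsFunctionField k K)

include hK

/-- The products with a pencil. -/
theorem pencil_products {D : Divisor k K} (hD : NoBase D) (E : Divisor k K) :
    2 * ell E ≤ Module.finrank k ↥(L E * L D) + ell (E - D) := by
  obtain ⟨P⟩ := exists_place hK.1
  obtain ⟨s, hs, t, ht, hs0, ht0, -, hst⟩ := exists_pair hK ⟨le_rfl, hD⟩ P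
  have := L_finite hK.1 E
  have := L_finite hK.1 (E + D)
  have := L_finite hK.1 (E - D)
  haveI : FiniteDimensional k ↥(L E * L D) :=
    Submodule.finiteDimensional_of_le (Submodule.mul_le.2 fun a ha b hb => mul_mem_L (D := E) (E := D) ha hb)
  let ψ : L E × L E →ₗ[k] ↥(L E * L D) :=
    { toFun := fun p => ⟨p.1.1 * s + p.2.1 * t,
        add_mem (Submodule.mul_mem_mul p.1.2 hs) (Submodule.mul_mem_mul p.2.2 ht)⟩
      map_add' := fun p q => Subtype.ext (by push_cast [Prod.fst_add, Prod.snd_add]; ring)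
      map_smul' := fun c p => Subtype.ext (by
        simp only [Prod.smul_fst, Prod.smul_snd, Submodule.coe_smul, RingHom.id_apply,
          Algebra.smul_def]
        ring) }
  have hmem : ∀ p : LinearMap.ker ψ, p.1.1.1 / t ∈ L (E - D) := by
    rintro ⟨⟨⟨a, ha⟩, ⟨b, hb⟩⟩, hp⟩
    have he : a * s + b * t = 0 := congrArg Subtype.val hp
    show a / t ∈ L (E - D)
    rcases eq_or_ne a 0 with rfl | ha0
    · simp
    have hb0 : b ≠ 0 := fun h => by rw [h, zero_mul, add_zero, mul_eq_zero] at he; tauto
    rw [mem_L_iff_ord (div_ne_zero ha0 ht0)]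
    intro Q
    rw [div_eq_mul_inv, ord_mul Q ha0 (inv_ne_zero ht0), ord_inv, Finsupp.sub_apply]
    have h1 := (mem_L_iff_ord ha0).mp ha Q
    have h2 := (mem_L_iff_ord hb0).mp hb Q
    have h3 : Q.ord a + Q.ord s = Q.ord b + Q.ord t := by
      rw [← ord_mul Q ha0 hs0, ← ord_mul Q hb0 ht0, eq_neg_of_add_eq_zero_left he]
      simp [Place.ord, Valuation.map_neg]
    rcases hst Q with h | h <;> omega
  let φ : LinearMap.ker ψ →ₗ[k] L (E - D) :=
    { toFun := fun p => ⟨p.1.1.1 / t, hmem p⟩
      map_add' := fun p q => Subtype.ext (by simp [add_div])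
      map_smul' := fun c p => Subtype.ext (by simp [smul_div_assoc]) }
  have h1 : Module.finrank k (LinearMap.ker ψ) ≤ ell (E - D) := by
    refine LinearMap.finrank_le_finrank_of_injective (f := φ) fun p q h => ?_
    have h1 : p.1.1.1 = q.1.1.1 := by simpa [φ, ht0] using congrArg Subtype.val h
    have hp : p.1.1.1 * s + p.1.2.1 * t = 0 := congrArg Subtype.val p.2
    have hq : q.1.1.1 * s + q.1.2.1 * t = 0 := congrArg Subtype.val q.2
    have h2 : p.1.2.1 = q.1.2.1 := mul_right_cancel₀ ht0 (by linear_combination hp - hq - s * h1)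
    exact Subtype.ext (Prod.ext (Subtype.ext h1) (Subtype.ext h2))
  have h0 := LinearMap.finrank_range_add_finrank_ker ψ
  have h2 := (LinearMap.range ψ).finrank_le
  rw [Module.finrank_prod] at h0
  simp only [ell] at h1 ⊢
  omega

variable [CharZero k]

/-- Projection down to a pencil, with the means of climbing back. -/
theorem exists_chain_climb : ∀ (m : ℕ), 1 ≤ m → ∀ {D : Divisor k K} {V : Submodule k K}, IsBpfSeries D V →
    Module.finrank k V = m + 1 → (2 ≤ m → SeriesGen V) → ∀ (C : Divisor k K) (S : Set (Place k K)), S.Finite →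
    ∃ E : Divisor k K, 0 ≤ E ∧ E.deg = (m : ℤ) - 1 ∧ (∀ P ∈ S, E P = 0) ∧ NoBase (D - E) ∧ 0 < (D - E).deg ∧
      ell (C - E) ≤ ell C - (m - 1) ∧
      ∀ (q : ℕ), 1 ≤ q → ∀ (A : Divisor k K) (Xs : Submodule k K), (∀ v ∈ V, v ^ q ∈ Xs) →
        (∀ Q, (q : ℤ) * D Q ≤ A Q) → (∀ Q, E Q ≠ 0 → A Q = q * D Q) → L (A - E) ≤ Xs → L A ≤ Xs := by
  intro m
  induction m with
  | zero => intro h; omega
  | succ m ih =>
    intro _ D V h hV hG C S hS
    haveI := L_finite hK.1 D
    have hℓ : m + 2 ≤ ell D := hV ▸ Submodule.finrank_mono h.le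
    have hd : 0 < D.deg := by
      rcases lt_trichotomy D.deg 0 with hneg | h0 | hpos
      · have := ell_eq_zero_of_deg_neg hK.1 hneg; omega
      · have := ell_le_one_of_deg_zero hK h0; omega
      · exact hpos
    rcases Nat.eq_zero_or_pos m with rfl | hm
    · refine ⟨0, le_rfl, by simp, fun P _ => rfl, ?_, by rwa [sub_zero], by rw [sub_zero]; simp,
        fun q _ A Xs _ _ _ hle => by rwa [sub_zero] at hle⟩
      rw [sub_zero]
      intro P
      obtain ⟨v, hv, hv'⟩ := h.exact P
      exact ⟨v, h.le hv, hv'⟩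
    classical
    obtain ⟨Z, hZ⟩ : ∃ Z : Finset (Place k K), ∀ P ∉ Z, ell (C - Finsupp.single P 1) ≤ ell C - 1 := by
      rcases Nat.eq_zero_or_pos (ell C) with h0 | h0
      · exact ⟨∅, fun P _ => by have := ell_sub_pt_le hK C P; omega⟩
      · obtain ⟨z, hz0, hzL, -⟩ := exists_le_add_div hK.1 (D := C) h0
        refine ⟨(C + FunFld.div k z).support, fun P hP => ?_⟩
        rw [Finsupp.notMem_support_iff, Finsupp.add_apply, div_apply hK.1] at hP
        have := L_finite hK.1 C
        have hlt : L (C - Finsupp.single P 1) < L C := lt_of_le_not_ge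
          (L_mono (sub_le_self _ (Finsupp.single_nonneg.mpr zero_le_one))) fun hle =>
            (not_mem_L_sub_iff hzL).mpr ⟨hz0, by omega⟩ (hle hzL)
        have := Submodule.finrank_lt_finrank_of_lt hlt
        show Module.finrank k ↥(L (C - Finsupp.single P 1)) ≤ Module.finrank k ↥(L C) - 1
        omega
    obtain ⟨P, hP, hb, hdim, hgen⟩ := exists_drop hK hm h hd hV (hG (by omega))
      (S ∪ ↑Z) (hS.union (Finset.finite_toSet _))
    simp only [Set.mem_union, Finset.mem_coe, not_or] at hP
    obtain ⟨E, hE0, hE1, hES, hE2, hE3, hE5, hE6⟩ := ih hm hb hdim hgen (C - Finsupp.single P 1) (insert P S)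
      (hS.insert P)
    have hEP : E P = 0 := hES P (Set.mem_insert _ _)
    refine ⟨Finsupp.single P 1 + E, add_nonneg (Finsupp.single_nonneg.mpr zero_le_one) hE0, ?_, ?_, ?_, ?_, ?_, ?_⟩
    · rw [Divisor.deg_add, deg_pt hK, hE1]; push_cast; ring
    · intro Q hQ
      rw [Finsupp.add_apply, hES Q (Set.mem_insert_of_mem _ hQ),
        Finsupp.single_eq_of_ne (fun e => hP.1 (e ▸ hQ) : Q ≠ P), add_zero]
    · rwa [← sub_sub]
    · rwa [← sub_sub]
    · rw [← sub_sub]; have := hZ P hP.2; omega
    · intro q hq A Xs hpow hA hAE hle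
      have hAP : A P = q * D P := hAE P (by rw [Finsupp.add_apply, Finsupp.single_eq_same, hEP]; norm_num)
      have h1 : L (A - Finsupp.single P 1) ≤ Xs := by
        refine hE6 q hq _ Xs (fun v hv => hpow v hv.1) (fun Q => ?_) (fun Q hQ => ?_) (by rwa [sub_sub])
        · simp only [Finsupp.sub_apply]
          have hh := hA Q
          rcases eq_or_ne P Q with rfl | hne
          · rw [Finsupp.single_eq_same, mul_sub, mul_one]
            have : (1 : ℤ) ≤ q := by exact_mod_cast hq
            omega
          · rw [Finsupp.single_eq_of_ne (Ne.symm hne), sub_zero, sub_zero]; exact hh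
        · have hne : Q ≠ P := fun e => hQ (e ▸ hEP)
          simp only [Finsupp.sub_apply, Finsupp.single_eq_of_ne hne, sub_zero]
          exact hAE Q (by rwa [Finsupp.add_apply, Finsupp.single_eq_of_ne hne, zero_add])
      obtain ⟨v, hv, hv0, hvP⟩ := h.exact P
      have hord : ∀ Q : Place k K, Q.ord (v ^ q) = q * Q.ord v := fun Q => by rw [ord_pow]
      have hx : v ^ q ∈ L A := (mem_L_iff_ord (pow_ne_zero _ hv0)).mpr fun Q => by
        rw [hord]
        have h2 := (mem_L_iff_ord hv0).mp (h.le hv) Q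
        have h3 := hA Q
        nlinarith [Int.natCast_nonneg q]
      have hnot : v ^ q ∉ L (A - Finsupp.single P 1) :=
        (not_mem_L_sub_iff hx).mpr ⟨pow_ne_zero _ hv0, by rw [hord, hvP, hAP]; ring⟩
      haveI := L_finite hK.1 A
      have hsup : L A = L (A - Finsupp.single P 1) ⊔ Submodule.span k {v ^ q} := by
        refine (Submodule.eq_of_le_of_finrank_le (sup_le (L_mono (sub_le_self _
          (Finsupp.single_nonneg.mpr zero_le_one))) ((Submodule.span_singleton_le_iff_mem _ _).2 hx)) ?_).symm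
        have hlt : L (A - Finsupp.single P 1) < L (A - Finsupp.single P 1) ⊔ Submodule.span k {v ^ q} :=
          lt_of_le_not_ge le_sup_left fun hle' => hnot (hle' (Submodule.mem_sup_right (Submodule.mem_span_singleton_self _)))
        haveI : FiniteDimensional k ↥(L (A - Finsupp.single P 1) ⊔ Submodule.span k {v ^ q}) :=
          Submodule.finiteDimensional_of_le (sup_le (L_mono (sub_le_self _
            (Finsupp.single_nonneg.mpr zero_le_one))) ((Submodule.span_singleton_le_iff_mem _ _).2 hx))
        have h4 := Submodule.finrank_lt_finrank_of_lt hlt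
        have h5 : ell A ≤ ell (A - Finsupp.single P 1) + 1 := ell_le_sub_pt hK A P
        simp only [ell] at h5
        omega
      rw [hsup]
      exact sup_le h1 ((Submodule.span_singleton_le_iff_mem _ _).2 (hpow v hv))

/-- Max Noether: the canonical ring is generated in degree one. -/
theorem canonical_mul_surjective {C : Divisor k K} (hC : IsCanonical k K C) (hg : 3 ≤ genus k K)
    (hnh : ∀ A : Divisor k K, A.deg = 2 → ell A ≤ 1) (m : ℕ) :
    L ((m + 1) • C) ≤ L (m • C) * L C := by
  rcases Nat.eq_zero_or_pos m with rfl | hm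
  · intro x hx
    rw [zero_add, one_nsmul] at hx
    rw [zero_nsmul, ← one_mul x]
    exact Submodule.mul_mem_mul (fun P => by simp) hx
  have hℓC := ell_canonical hK hC
  have hdC := deg_canonical hK hC
  have hsep : ∀ P Q : Place k K, ell (C - Finsupp.single P 1 - Finsupp.single Q 1) + 2 = ell C := fun P Q => by
    have h1 := (rr_C hK hC (Finsupp.single P 1 + Finsupp.single Q 1)).1
    rw [Divisor.deg_add, deg_pt hK, deg_pt hK, ← sub_sub] at h1
    have h2 := hnh (Finsupp.single P 1 + Finsupp.single Q 1) (by rw [Divisor.deg_add, deg_pt hK, deg_pt hK]; rfl)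
    have h3 : 0 < ell (Finsupp.single P 1 + Finsupp.single Q 1) :=
      ell_pos_of_effective hK.1 (add_nonneg (Finsupp.single_nonneg.mpr zero_le_one) (Finsupp.single_nonneg.mpr zero_le_one))
    omega
  have hbase : NoBase C := noBase_of_ell hK.1 fun P => by
    have h1 := hsep P P
    have h2 := ell_le_sub_pt hK (C - Finsupp.single P 1) P
    omega
  have hbpf : IsBpfSeries C (L C) := ⟨le_rfl, hbase⟩
  haveI := L_finite hK.1 C
  obtain ⟨n, hn⟩ : ∃ n, genus k K = n + 1 := ⟨genus k K - 1, by omega⟩
  have hfr : Module.finrank k (L C) = n + 1 := hn ▸ hℓC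
  have hgen : SeriesGen (L C) := by
    let b := Module.finBasisOfFinrankEq k (L C) hfr
    have hli : LinearIndependent k fun i => (b i : K) :=
      b.linearIndependent.map' (L C).subtype (Submodule.ker_subtype _)
    have hspan : Submodule.span k (Set.range fun i => (b i : K)) = L C := by
      have hr : (Set.range fun i => (b i : K)) = (L C).subtype '' Set.range b := by rw [← Set.range_comp]; rfl
      rw [hr, Submodule.span_image, b.span_eq, Submodule.map_top, Submodule.range_subtype]
    obtain ⟨P⟩ := exists_place hK.1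
    have hns : IsNonsingularAt (fun i => (b i : K)) P := by
      refine (isNonsingularAt_iff_bpf hK (D := C) (by rwa [hspan]) (by omega) P).2 ?_
      rw [hspan, bpf_iff_finrank hK hbpf P]
      intro Q
      rw [inf_eq_right.2 (L_mono ((sub_le_self _ (Finsupp.single_nonneg.mpr zero_le_one)).trans
        (sub_le_self _ (Finsupp.single_nonneg.mpr zero_le_one))))]
      exact hsep P Q
    refine SeriesGen.of_subset ?_ (adjoin_ratios_eq_top hK _ (hli.ne_zero 0) P hns)
    rintro _ ⟨i, rfl⟩
    exact ⟨_, (b i).2, _, (b 0).2, rfl⟩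
  obtain ⟨E, hE0, hE1, -, hE2, hE3, hE5, hclimb⟩ :=
    exists_chain_climb hK n (by omega) hbpf hfr (fun _ => hgen) C ∅ Set.finite_empty
  have hX : L (m • C) * L C ≤ L ((m + 1) • C) := Submodule.mul_le.2 fun a ha b hb => by
    rw [succ_nsmul]; exact mul_mem_L ha hb
  refine hclimb (m + 1) (by omega) ((m + 1) • C) (L (m • C) * L C) (fun v hv => ?_)
    (fun Q => le_of_eq (by rw [Finsupp.smul_apply, nsmul_eq_mul])) (fun Q _ => by rw [Finsupp.smul_apply, nsmul_eq_mul]) ?_
  · rw [pow_succ]
    refine Submodule.mul_mem_mul ?_ hv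
    clear hX
    induction m with
    | zero => omega
    | succ m ih =>
      rw [pow_succ, succ_nsmul]
      rcases Nat.eq_zero_or_pos m with rfl | hm'
      · simpa using hv
      · exact mul_mem_L (ih hm') hv
  have hdE : E.deg = (genus k K : ℤ) - 2 := by omega
  have hlE : (L (m • C) * L (C - E)) ≤ L ((m + 1) • C - E) := Submodule.mul_le.2 fun a ha b hb => by
    rw [succ_nsmul, add_sub_assoc]; exact mul_mem_L ha hb
  haveI := L_finite hK.1 ((m + 1) • C - E)
  have heq : L (m • C) * L (C - E) = L ((m + 1) • C - E) := by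
    refine Submodule.eq_of_le_of_finrank_le hlE ?_
    have h1 := pencil_products hK hE2 (m • C)
    have hmC : (m • C).deg = (m : ℤ) * (2 * genus k K - 2) := by
      rw [← natCast_zsmul, deg_zsmul, hdC]
    have h2 : ((m + 1) • C - E).deg = ((m : ℤ) + 1) * (2 * genus k K - 2) - ((genus k K : ℤ) - 2) := by
      rw [Divisor.deg_sub, succ_nsmul, Divisor.deg_add, hmC, hdC, hdE]; ring
    have h3 := ell_of_deg_gt hK (D := (m + 1) • C - E) (by rw [h2]; nlinarith)
    show ell ((m + 1) • C - E) ≤ _
    have h4 : m • C - (C - E) = ((m - 1) • C) + E := by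
      obtain ⟨j, rfl⟩ : ∃ j, m = j + 1 := ⟨m - 1, by omega⟩
      rw [Nat.add_sub_cancel, succ_nsmul]; abel
    rw [h4] at h1
    rcases eq_or_lt_of_le (show 1 ≤ m from hm) with rfl | hm2
    · have hl1 : ell E ≤ 1 := by
        have := (rr_C hK hC E).1
        omega
      rw [Nat.sub_self, zero_nsmul, zero_add, one_nsmul] at h1
      rw [Nat.cast_one] at h2
      rw [one_nsmul]
      omega
    · have h5 : ((m - 1) • C + E).deg = ((m : ℤ) - 1) * (2 * genus k K - 2) + ((genus k K : ℤ) - 2) := by
        rw [Divisor.deg_add, ← natCast_zsmul, deg_zsmul, hdC, hdE]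
        push_cast [Nat.cast_sub (show 1 ≤ m by omega)]
        ring
      have hm2' : (2 : ℤ) ≤ m := by exact_mod_cast hm2
      have h6 := ell_of_deg_gt hK (D := (m - 1) • C + E) (by rw [h5]; nlinarith)
      have h7 := ell_of_deg_gt hK (D := m • C) (by rw [hmC]; nlinarith)
      rw [h5] at h6
      rw [hmC] at h7
      rw [h2] at h3
      nlinarith [h1, h3, h6, h7]
  rw [← heq]
  exact mul_le_mul' le_rfl (L_mono (sub_le_self _ hE0))

end Groth.Agent.LS17
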