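import Groth.Agent.LS17.Pv
import Groth.Agent.FFLib.Geometric
import Mathlib.RingTheory.Derivation.Basic
import Mathlib.RingTheory.Kaehler.Basic

/-! Pairs of points with the same image under a projection from a point of the curve. -/

namespace Groth.Agent.LS17

open FunFld WithZero IntermediateField
open Groth.Agent.FFLib

variable {k K : Type*} [Field k] [IsAlgClosed k] [CharZero k] [Field K] [Algebra k K]

/-- A derivation which kills only constants. -/
theorem exists_derivation (hK : IsFunctionField k K) :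
    ∃ D : Derivation k K K, ∀ y : K, D y = 0 → ∃ c : k, algebraMap k K c = y := by
  haveI : CharZero K := charZero_of_injective_algebraMap (algebraMap k K).injective
  obtain ⟨x, hx, hfin⟩ := id hK.1
  haveI : CharZero k⟮x⟯ := charZero_of_injective_algebraMap (algebraMap k k⟮x⟯).injective
  obtain ⟨b, -⟩ := exists_basis_D hK hx inferInstance
  refine ⟨(b.coord 0).compDer (KaehlerDifferential.D k K), fun y hy => ?_⟩
  by_contra hno
  have hyt : Transcendental k y := transcendental_of_not_range hK fun ⟨c, hc⟩ => hno ⟨c, hc⟩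
  haveI : CharZero k⟮y⟯ := charZero_of_injective_algebraMap (algebraMap k k⟮y⟯).injective
  haveI := IsFF.finite_adjoin hK.1 hyt
  refine D_ne_zero hK hyt inferInstance (b.ext_elem fun i => ?_)
  rw [Subsingleton.elim i 0]
  refine hy.trans ?_
  simp

/-- A subfield with a transcendental element is a function field. -/
theorem isFunctionField_sub (hK : IsFunctionField k K) (F₀ : IntermediateField k K) {u : K} (hu : u ∈ F₀)
    (hut : Transcendental k u) : IsFunctionField k F₀ ∧ FiniteDimensional F₀ K := by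
  have hfin := IsFF.finite_adjoin hK.1 hut
  haveI hF : FiniteDimensional F₀ K := by
    letI := (IntermediateField.inclusion (adjoin_simple_le_iff.mpr hu : k⟮u⟯ ≤ F₀)).toRingHom.toAlgebra
    haveI : IsScalarTower k⟮u⟯ F₀ K := IsScalarTower.of_algebraMap_eq fun _ => rfl
    exact Module.Finite.of_restrictScalars_finite k⟮u⟯ F₀ K
  refine ⟨⟨⟨⟨u, hu⟩, fun h => hut (h.algHom F₀.val), ?_⟩, fun y hy => ?_⟩, hF⟩
  · let e := adjoinMapEquiv (k := k) (K := F₀) (K' := K) ⟨u, hu⟩
    haveI : FiniteDimensional k⟮algebraMap F₀ K (⟨u, hu⟩ : F₀)⟯ K := hfin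
    haveI : FiniteDimensional k⟮(⟨u, hu⟩ : F₀)⟯ K :=
      Module.Finite.of_equiv_equiv e.symm.toRingEquiv (RingEquiv.refl K) (RingHom.ext fun z => by
        obtain ⟨w, rfl⟩ := e.surjective z
        show algebraMap F₀ K ((e.symm (e w) : k⟮(⟨u, hu⟩ : F₀)⟯) : F₀) = _
        rw [AlgEquiv.symm_apply_apply]
        exact (adjoinMapEquiv_coe _ w).symm)
    exact FiniteDimensional.left k⟮(⟨u, hu⟩ : F₀)⟯ F₀ K
  · obtain ⟨c, hc⟩ := hK.2 (y : K) (hy.algHom F₀.val)
    exact ⟨c, Subtype.ext hc⟩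

/-- Inside a subfield all differentials are multiples of one, with coefficients in the subfield. -/
theorem exists_coeff (D : Derivation k K K) {F₀ : IntermediateField k K} (hF₀ : IsFunctionField k F₀)
    {u : F₀} (hu : Transcendental k u) (z : F₀) : ∃ θ : F₀, D (z : K) = (θ : K) * D (u : K) := by
  haveI : CharZero F₀ := charZero_of_injective_algebraMap (algebraMap k F₀).injective
  haveI : CharZero k⟮u⟯ := charZero_of_injective_algebraMap (algebraMap k k⟮u⟯).injective
  haveI := IsFF.finite_adjoin hF₀.1 hu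
  obtain ⟨b, hb⟩ := exists_basis_D hF₀ hu inferInstance
  let D' : Derivation k F₀ K := D.compAlgebraMap F₀
  refine ⟨b.repr (KaehlerDifferential.D k F₀ z) 0, ?_⟩
  have h := congrArg D'.liftKaehlerDifferential (b.sum_repr (KaehlerDifferential.D k F₀ z))
  rw [Fin.sum_univ_one, map_smul, hb, Derivation.liftKaehlerDifferential_comp_D,
    Derivation.liftKaehlerDifferential_comp_D] at h
  exact h.symm

/-- If projecting from `P` is not birational, general points have partners. -/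
theorem projection_pairs (hK : IsFunctionField k K) (D : Derivation k K K)
    (hD : ∀ y : K, D y = 0 → ∃ c : k, algebraMap k K c = y) {m : ℕ} (F : Fin (m + 2) → K) (hF0 : F 0 = 1)
    (hF : LinearIndependent k F) (hm : 1 ≤ m) (P : Place k K)
    (hbad : adjoin k (Set.range fun i : Fin (m + 1) => (F i.succ - algebraMap k K (pv P (F i.succ))) /
      (F 1 - algebraMap k K (pv P (F 1)))) ≠ ⊤) :
    ∃ T : Set (Place k K), T.Finite ∧ ∀ Q ∉ T, (∀ i, Q.1 (F i) ≤ 1 ∧ Q.1 (D (F i)) ≤ 1) ∧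
      ∃ R : Place k K, R ≠ Q ∧ (∀ i, R.1 (F i) ≤ 1 ∧ R.1 (D (F i)) ≤ 1) ∧ ∃ lam α β : k, ∀ i,
        pv R (F i) - pv P (F i) = lam * (pv Q (F i) - pv P (F i)) ∧
        pv R (D (F i)) = α * pv Q (D (F i)) + β * (pv Q (F i) - pv P (F i)) := by
  classical
  haveI : CharZero K := charZero_of_injective_algebraMap (algebraMap k K).injective
  set c : Fin (m + 2) → k := fun i => pv P (F i) with hc
  set G : Fin (m + 1) → K := fun i => F i.succ - algebraMap k K (c i.succ) with hG
  set F₀ : IntermediateField k K := adjoin k (Set.range fun i => G i / G 0) with hF₀def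
  have hz : ∀ i, G i / G 0 ∈ F₀ := fun i => subset_adjoin _ _ ⟨i, rfl⟩
  have hGne : ∀ (i : Fin (m + 1)) (a : k), G i ≠ algebraMap k K a := fun i a h => by
    have hi : i.succ ≠ 0 := Fin.succ_ne_zero i
    have := hF.notMem_span_image (s := {(0 : Fin (m + 2))}) (x := i.succ) (by simpa using hi)
    rw [Set.image_singleton] at this
    refine this (Submodule.mem_span_singleton.mpr ⟨a + c i.succ, ?_⟩)
    rw [hF0, Algebra.smul_def, mul_one, map_add, ← h]
    simp [hG]
  have hG0 : G 0 ≠ 0 := fun h => hGne 0 0 (by rw [h, map_zero])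
  set u := G 1 / G 0 with hu
  have hut : Transcendental k u := transcendental_of_not_range hK fun ⟨a, ha⟩ => by
    have h1 : G 1 = a • G 0 := by rw [Algebra.smul_def, ha, hu, div_mul_cancel₀ _ hG0]
    have hne : (1 : Fin (m + 1)).succ ≠ (0 : Fin (m + 1)).succ := by
      simp [Fin.ext_iff]; omega
    have := hF.notMem_span_image (s := {(0 : Fin (m + 2)), (0 : Fin (m + 1)).succ})
      (x := (1 : Fin (m + 1)).succ) (by
        simp only [Set.mem_insert_iff, Set.mem_singleton_iff, not_or]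
        exact ⟨Fin.succ_ne_zero _, hne⟩)
    rw [Set.image_pair] at this
    refine this (Submodule.mem_span_pair.mpr ⟨c (1 : Fin (m + 1)).succ - a * c (0 : Fin (m + 1)).succ, a, ?_⟩)
    simp only [hG, Algebra.smul_def] at h1
    rw [hF0, Algebra.smul_def, Algebra.smul_def, mul_one, map_sub, map_mul]
    linear_combination -h1
  obtain ⟨hF₀, hfin⟩ := isFunctionField_sub hK F₀ (hz 1) hut
  haveI := hfin
  let u₀ : F₀ := ⟨u, hz 1⟩
  have hu₀ : Transcendental k u₀ := fun h => hut (h.algHom F₀.val)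
  choose θ hθ using fun i => exists_coeff D hF₀ hu₀ ⟨G i / G 0, hz i⟩
  have hDu : D u ≠ 0 := fun h => by
    obtain ⟨a, ha⟩ := hD u h
    exact hut (ha ▸ isAlgebraic_algebraMap a)
  have hN : 2 ≤ Module.finrank F₀ K := by
    by_contra hlt
    have h1 : Module.finrank F₀ K = 1 := by
      have : 0 < Module.finrank F₀ K := Module.finrank_pos
      omega
    refine hbad (top_le_iff.mp fun y _ => ?_)
    obtain ⟨a, ha⟩ := (finrank_eq_one_iff_of_nonzero' (1 : K) one_ne_zero).mp h1 y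
    rw [← ha, IntermediateField.smul_def, smul_eq_mul, mul_one]
    exact a.2
  haveI : CharZero F₀ := charZero_of_injective_algebraMap (algebraMap k F₀).injective
  obtain ⟨S₁, hS₁, hunr⟩ := finite_bad (K := F₀) (K' := K) hF₀.1
  -- exceptional places upstairs and downstairs
  let U : Set (Place k K) := (⋃ i, {R | ¬ R.1 (F i) ≤ 1} ∪ {R | ¬ R.1 (D (F i)) ≤ 1}) ∪
    {R | R.1 (G 0) ≤ 1 ∧ pv R (G 0) = 0} ∪ {R | R.1 (D u) ≤ 1 ∧ pv R (D u) = 0}
  have hU : U.Finite := ((Set.finite_iUnion fun i =>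
    (finite_not_le_one hK _).union (finite_not_le_one hK _)).union (finite_pv_eq_zero hK hG0)).union
    (finite_pv_eq_zero hK hDu)
  choose below' eb heb1 heb using fun R : Place k K => exists_over (K := F₀) hF₀.1 R
  let B : Set (Place k F₀) := S₁ ∪ below' '' U ∪
    ⋃ i, ({P₀ | ¬ P₀.1 (⟨G i / G 0, hz i⟩ : F₀) ≤ 1} ∪ {P₀ | ¬ P₀.1 (θ i) ≤ 1})
  have hB : B.Finite := (hS₁.union (hU.image _)).union (Set.finite_iUnion fun i =>
    (finite_not_le_one hF₀ _).union (finite_not_le_one hF₀ _))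
  refine ⟨{Q | below' Q ∈ B}, ?_, fun Q hQ => ?_⟩
  · refine (hB.biUnion fun P₀ _ => over_finite (K' := K) hF₀.1 P₀).subset fun Q hQ => ?_
    exact Set.mem_biUnion (show below' Q ∈ B from hQ) ⟨eb Q, heb Q⟩
  simp only [Set.mem_setOf_eq, B, Set.mem_union, Set.mem_iUnion, not_or, not_exists, Set.mem_image,
    not_and, not_not] at hQ
  obtain ⟨⟨hQ1, hQU⟩, hQz⟩ := hQ
  set P₀ := below' Q with hP₀
  -- facts at every place over `P₀`
  have hfacts : ∀ R : Place k K, IsOver R P₀ →
      (∀ i, R.1 (F i) ≤ 1 ∧ R.1 (D (F i)) ≤ 1) ∧ (R.1 (G 0) ≤ 1 ∧ pv R (G 0) ≠ 0) ∧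
      (R.1 (D u) ≤ 1 ∧ pv R (D u) ≠ 0) ∧ ∀ i, pv R (G i) = pv P₀ (⟨G i / G 0, hz i⟩ : F₀) * pv R (G 0) ∧
        pv R (D (F i.succ)) = pv P₀ (θ i) * pv R (D u) * pv R (G 0) +
          pv P₀ (⟨G i / G 0, hz i⟩ : F₀) * pv R (D (G 0)) := by
    rintro R ⟨e, he⟩
    have he1 := over_pos hF₀.1 he
    have hRU : R ∉ U := fun hR => hQU R hR (over_unique hF₀.1 (heb R) he).1
    simp only [U, Set.mem_union, Set.mem_iUnion, Set.mem_setOf_eq, not_or, not_exists, not_and, not_not] at hRU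
    obtain ⟨⟨hreg, hR0⟩, hRu⟩ := hRU
    have hregG : ∀ i, R.1 (G i) ≤ 1 := fun i => le_one_sub (hreg i.succ).1 (R.2.1 _)
    have hDG : ∀ i, D (G i) = D (F i.succ) := fun i => by simp [hG]
    have hzb : ∀ i, R.1 (G i / G 0) ≤ 1 ∧ pv R (G i / G 0) = pv P₀ (⟨G i / G 0, hz i⟩ : F₀) := fun i =>
      pv_below (hK := hK) (hF₀ := hF₀) he1 he (hQz i).1
    have hθb : ∀ i, R.1 (θ i : K) ≤ 1 ∧ pv R (θ i : K) = pv P₀ (θ i) := fun i =>
      pv_below (hK := hK) (hF₀ := hF₀) he1 he (hQz i).2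
    have heq : ∀ i, D (G i) = (θ i : K) * D u * G 0 + G i / G 0 * D (G 0) := fun i => by
      have h1 : D (G i / G 0) = (θ i : K) * D u := hθ i
      conv_lhs => rw [← div_mul_cancel₀ (G i) hG0, Derivation.leibniz]
      rw [h1, smul_eq_mul, smul_eq_mul]
      ring
    have hu1 : R.1 (D u) ≤ 1 := by
      have h1 : D u = (D (G 1) - u * D (G 0)) / G 0 := by
        rw [eq_div_iff hG0]
        conv_rhs => rw [← div_mul_cancel₀ (G 1) hG0, ← hu, Derivation.leibniz]
        rw [smul_eq_mul, smul_eq_mul]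
        ring
      rw [h1]
      refine (pv_div hK ?_ (hregG 0) (hR0 (hregG 0))).1
      rw [hDG, hDG]
      exact le_one_sub (hreg _).2 (le_one_mul (hzb 1).1 (hreg _).2)
    refine ⟨hreg, ⟨hregG 0, hR0 (hregG 0)⟩, ⟨hu1, hRu hu1⟩, fun i => ⟨?_, ?_⟩⟩
    · rw [← (hzb i).2, ← pv_mul hK (hzb i).1 (hregG 0), div_mul_cancel₀ _ hG0]
    · rw [← hDG, heq, pv_add hK (le_one_mul (le_one_mul (hθb i).1 hu1) (hregG 0))
        (le_one_mul (hzb i).1 (by rw [hDG]; exact (hreg _).2)),
        pv_mul hK (le_one_mul (hθb i).1 hu1) (hregG 0), pv_mul hK (hθb i).1 hu1,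
        pv_mul hK (hzb i).1 (by rw [hDG]; exact (hreg _).2), (hθb i).2, (hzb i).2]
  -- a second place over `P₀`
  obtain ⟨R, hRQ, hR⟩ : ∃ R : Place k K, R ≠ Q ∧ IsOver R P₀ := by
    by_contra! hall
    have honly : ∀ R : Place k K, R ∈ ({Q} : Finset (Place k K)) ↔ IsOver R P₀ := fun R => by
      rw [Finset.mem_singleton]
      exact ⟨fun h => h ▸ ⟨_, heb Q⟩, fun h => by_contra fun hne => hall R hne h⟩
    have hsum := sum_ram_deg hF₀.1 P₀ {Q} honly
    rw [Finset.sum_singleton, deg_eq_one hK.1, deg_eq_one hF₀.1, mul_one, mul_one,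
      ramIdx_eq hF₀.1 (hunr P₀ hQ1 Q ⟨_, heb Q⟩).1] at hsum
    omega
  obtain ⟨hQreg, ⟨hQ0, hQ0'⟩, ⟨-, hQu'⟩, hQi⟩ := hfacts Q ⟨_, heb Q⟩
  obtain ⟨hRreg, -, -, hRi⟩ := hfacts R hR
  set g := pv R (G 0) / pv Q (G 0)
  set α := g * (pv R (D u) / pv Q (D u))
  refine ⟨hQreg, R, hRQ, hRreg, g, α, (pv R (D (G 0)) - α * pv Q (D (G 0))) / pv Q (G 0), fun i => ?_⟩
  induction i using Fin.cases with
  | zero =>
    have hD1 : D (1 : K) = 0 := D.map_one_eq_zero
    rw [hF0, hD1, pv_one, pv_one, pv_one, pv_zero, pv_zero]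
    constructor <;> ring
  | succ j =>
    have hGv : ∀ S : Place k K, S.1 (F j.succ) ≤ 1 → pv S (G j) = pv S (F j.succ) - c j.succ := fun S hS => by
      rw [hG]; simp only []
      rw [pv_sub hK hS (S.2.1 _), pv_const]
    refine ⟨?_, ?_⟩
    · show pv R (F j.succ) - c j.succ = g * (pv Q (F j.succ) - c j.succ)
      rw [← hGv R (hRreg _).1, ← hGv Q (hQreg _).1, (hRi j).1, (hQi j).1]
      simp only [g]
      field_simp
    · show pv R (D (F j.succ)) = α * pv Q (D (F j.succ)) + _ * (pv Q (F j.succ) - c j.succ)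
      rw [← hGv Q (hQreg _).1, (hRi j).2, (hQi j).2, (hQi j).1]
      simp only [α, g]
      field_simp
      ring

end Groth.Agent.LS17
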