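import Mathlib.RingTheory.Unramified.LocalRing
import Mathlib.RingTheory.Smooth.StandardSmoothCotangent
import Mathlib.RingTheory.Kaehler.Basic
import Mathlib.RingTheory.Etale.Kaehler
import Mathlib.RingTheory.Ideal.Height
import Mathlib.RingTheory.KrullDimension.Polynomial
import Groth.Agent.SmoothDim.Basic

/-! A ramified point of a map of smooth curves with separable residue extension has separable residue field. -/

universe u

open IsLocalRing KaehlerDifferential
open scoped TensorProduct

namespace Groth.Agent.LS17

/-- Maximal ideals of a standard smooth algebra of relative dimension `n` have height at least `n`. -/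
theorem le_height_of_isMaximal (k B : Type u) [Field k] [CommRing B] [Algebra k B]
    (n : ℕ) [Algebra.IsStandardSmoothOfRelativeDimension n k B] (m : Ideal B) [m.IsMaximal] :
    (n : ℕ∞) ≤ m.height := by
  obtain ⟨g, hg⟩ := Algebra.IsStandardSmoothOfRelativeDimension.exists_etale_mvPolynomial (n := n) k B
  let R := MvPolynomial (Fin n) k
  let : Algebra R B := g.toRingHom.toAlgebra
  have : IsScalarTower k R B := IsScalarTower.of_algebraMap_eq fun x => (g.commutes x).symm
  have : Algebra.Etale R B := hg
  have : Algebra.FiniteType k B := Algebra.FiniteType.trans (S := R) inferInstance inferInstance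
  have : IsNoetherianRing B := Algebra.FiniteType.isNoetherianRing k B
  have : IsJacobsonRing R := inferInstance
  let M : PrimeSpectrum R := ⟨m.under R, inferInstance⟩
  have hM : M.asIdeal.IsMaximal := by
    let _ := Ideal.Quotient.field m
    have : Module.Finite k (B ⧸ m) := finite_of_finite_type_of_isJacobsonRing k (B ⧸ m)
    have : Algebra.IsIntegral R (B ⧸ m) := Algebra.IsIntegral.tower_top k
    have h : ((⊥ : Ideal (B ⧸ m)).comap (algebraMap R (B ⧸ m))).IsMaximal :=
      Ideal.isMaximal_comap_of_isIntegral_of_isMaximal _
    convert! h using 1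
    show m.comap (algebraMap R B) = _
    rw [IsScalarTower.algebraMap_eq R B (B ⧸ m), ← Ideal.comap_comap, Ideal.Quotient.algebraMap_eq,
      ← RingHom.ker_eq_comap_bot, Ideal.mk_ker]
  have h1 : (M.asIdeal).height ≤ m.height := by
    rw [Ideal.height_eq_height_add_of_liesOver_of_hasGoingDown M.asIdeal m]
    exact le_self_add
  rwa [M.height_eq_orderHeight, SmoothDim.height_maximal_mvPolynomial k n M hM] at h1

theorem isSeparable_residueField_of_ramified {k R B O : Type u} [Field k] [CommRing R] [IsLocalRing R] [CommRing B]
    [Algebra k B] [Algebra.IsStandardSmoothOfRelativeDimension 1 k B] (m : Ideal B) [m.IsMaximal]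
    [CommRing O] [IsLocalRing O] [Algebra B O] [IsLocalization.AtPrime O m]
    [Algebra k R] [Algebra k O] [IsScalarTower k B O] [Algebra R O] [IsScalarTower k R O]
    [IsLocalHom (algebraMap R O)]
    (hsep : Algebra.IsSeparable (ResidueField R) (ResidueField O)) (e : ℕ)
    (he : (maximalIdeal R).map (algebraMap R O) = maximalIdeal O ^ e) (h2 : 2 ≤ e) :
    Algebra.IsSeparable k (ResidueField O) := by
  have hst : Algebra.IsStandardSmooth k B :=
    Algebra.IsStandardSmoothOfRelativeDimension.isStandardSmooth (n := 1)
  have : Nontrivial B := (algebraMap B O).domain_nontrivial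
  have : Algebra.FiniteType k B := inferInstance
  have : IsNoetherianRing B := Algebra.FiniteType.isNoetherianRing k B
  have : IsNoetherianRing O := IsLocalization.isNoetherianRing m.primeCompl O inferInstance
  have : Algebra.EssFiniteType B O := Algebra.EssFiniteType.of_isLocalization O m.primeCompl
  have : Algebra.EssFiniteType k O := Algebra.EssFiniteType.comp k B O
  have : Algebra.EssFiniteType R O := Algebra.EssFiniteType.of_comp k R O
  have : Algebra.EssFiniteType k (ResidueField O) := Algebra.EssFiniteType.comp k O _
  -- one generator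
  obtain ⟨ω₀, hω₀⟩ : ∃ ω₀ : Ω[B⁄k], Submodule.span B {ω₀} = ⊤ := by
    have h1 : Module.rank B Ω[B⁄k] = 1 :=
      Algebra.IsStandardSmoothOfRelativeDimension.rank_kaehlerDifferential (n := 1) |>.trans (by simp)
    let b := Module.finBasisOfFinrankEq B Ω[B⁄k] (Module.finrank_eq_of_rank_eq h1)
    exact ⟨b 0, by rw [← b.span_eq, Set.range_unique]; rfl⟩
  set ω : Ω[O⁄k] := KaehlerDifferential.map k k B O ω₀ with hω
  have hgen : Submodule.span O {ω} = ⊤ := by
    rw [eq_top_iff, ← KaehlerDifferential.span_range_derivation, Submodule.span_le]
    rintro _ ⟨z, rfl⟩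
    have hB : ∀ b : B, D k O (algebraMap B O b) ∈ Submodule.span O {ω} := fun b => by
      obtain ⟨a, ha⟩ := Submodule.mem_span_singleton.mp (hω₀ ▸ Submodule.mem_top : D k B b ∈ Submodule.span B {ω₀})
      rw [← KaehlerDifferential.map_D k k B O b, ← ha, map_smul, ← algebraMap_smul O a]
      exact Submodule.smul_mem _ _ (Submodule.mem_span_singleton_self _)
    obtain ⟨⟨b, s⟩, hbs⟩ := IsLocalization.surj m.primeCompl z
    obtain ⟨w, hw⟩ := IsLocalization.map_units O s
    have h := (D k O).leibniz z (algebraMap B O s)
    rw [hbs] at h
    have e1 : D k O z = (↑w⁻¹ : O) • (D k O (algebraMap B O b) - z • D k O (algebraMap B O s)) := by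
      rw [h, add_sub_cancel_left, ← hw, smul_smul, w.inv_mul, one_smul]
    rw [SetLike.mem_coe, e1]
    exact Submodule.smul_mem _ _ (Submodule.sub_mem _ (hB b) (Submodule.smul_mem _ _ (hB _)))
  let π := KaehlerDifferential.map k k O (ResidueField O)
  have hπm : ∀ (a : O) (v : Ω[O⁄k]), a ∈ maximalIdeal O → π (a • v) = 0 := fun a v ha => by
    rw [map_smul, ← algebraMap_smul (ResidueField O) a (π v),
      show algebraMap O (ResidueField O) a = 0 from (IsLocalRing.residue_eq_zero_iff a).2 ha, zero_smul]
  by_cases hsub : Subsingleton Ω[ResidueField O⁄k]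
  · have : Algebra.FormallyUnramified k (ResidueField O) := ⟨hsub⟩
    exact Algebra.FormallyUnramified.isSeparable k (ResidueField O)
  exfalso
  -- some differential from the base survives in the residue field
  have : Algebra.EssFiniteType (ResidueField R) (ResidueField O) :=
    have : Algebra.EssFiniteType R (ResidueField O) := Algebra.EssFiniteType.comp R O _
    Algebra.EssFiniteType.of_comp R _ _
  have hu : Algebra.FormallyUnramified (ResidueField R) (ResidueField O) :=
    Algebra.FormallyUnramified.of_isSeparable _ _
  obtain ⟨r, hr⟩ : ∃ r : R, π (D k O (algebraMap R O r)) ≠ 0 := by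
    by_contra! hall
    have h0 : ∀ v : Ω[ResidueField R⁄k], KaehlerDifferential.map k k (ResidueField R) (ResidueField O) v = 0 := by
      intro v
      have hv : v ∈ Submodule.span (ResidueField R) (Set.range (D k (ResidueField R))) := by
        rw [KaehlerDifferential.span_range_derivation]; trivial
      induction hv using Submodule.span_induction with
      | mem x hx =>
        obtain ⟨a, rfl⟩ := hx
        obtain ⟨r, rfl⟩ := IsLocalRing.residue_surjective a
        rw [KaehlerDifferential.map_D, show algebraMap (ResidueField R) (ResidueField O) (residue R r) =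
          algebraMap O (ResidueField O) (algebraMap R O r) from rfl, ← KaehlerDifferential.map_D k k O]
        exact hall r
      | zero => exact map_zero _
      | add x y _ _ hx hy => rw [map_add, hx, hy, add_zero]
      | smul c x _ hx => rw [map_smul, hx, smul_zero]
    refine hsub (subsingleton_of_forall_eq 0 fun x => ?_)
    obtain ⟨t, rfl⟩ := (KaehlerDifferential.exact_mapBaseChange_map k (ResidueField R) (ResidueField O) x).1
      (Subsingleton.elim _ _)
    induction t using TensorProduct.induction_on with
    | zero => exact map_zero _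
    | tmul a v => rw [KaehlerDifferential.mapBaseChange_tmul, h0, smul_zero]
    | add x y hx hy => rw [map_add, hx, hy, add_zero]
  obtain ⟨a, ha⟩ := Submodule.mem_span_singleton.mp
    (hgen ▸ Submodule.mem_top : D k O (algebraMap R O r) ∈ Submodule.span O {ω})
  have hau : IsUnit a := by
    by_contra hna
    exact hr (by rw [← ha]; exact hπm a ω ((IsLocalRing.mem_maximalIdeal a).2 hna))
  have hunr : Algebra.FormallyUnramified R O := by
    refine ⟨subsingleton_of_forall_eq 0 fun x => ?_⟩
    obtain ⟨y, rfl⟩ := KaehlerDifferential.map_surjective k R O x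
    obtain ⟨c, rfl⟩ := Submodule.mem_span_singleton.mp (hgen ▸ Submodule.mem_top : y ∈ Submodule.span O {ω})
    obtain ⟨u, rfl⟩ := hau
    have hω1 : ω = (↑u⁻¹ : O) • D k O (algebraMap R O r) := by
      rw [← ha, smul_smul, u.inv_mul, one_smul]
    rw [hω1, map_smul, map_smul, KaehlerDifferential.map_D, show algebraMap O O (algebraMap R O r) =
      algebraMap R O r from rfl, Derivation.map_algebraMap, smul_zero, smul_zero]
  have hmax := Algebra.FormallyUnramified.map_maximalIdeal (R := R) (S := O)
  rw [he] at hmax
  have hbot : maximalIdeal O = ⊥ := by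
    refine Submodule.eq_bot_of_le_smul_of_le_jacobson_bot (maximalIdeal O) (maximalIdeal O)
      (IsNoetherian.noetherian _) ?_ (maximalIdeal_le_jacobson _)
    rw [smul_eq_mul, ← sq]
    exact hmax.ge.trans (Ideal.pow_le_pow_right h2)
  have hd := IsLocalization.AtPrime.ringKrullDim_eq_height m O
  rw [ringKrullDim_eq_zero_of_isField (IsLocalRing.isField_iff_maximalIdeal_eq.2 hbot)] at hd
  have h1 := le_height_of_isMaximal k B 1 m
  rw [show m.height = 0 by exact_mod_cast hd.symm] at h1
  simp at h1

end Groth.Agent.LS17
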