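import Groth.Agent.CurveBC.Etale
import Groth.Agent.LS17.CoverIso
import Groth.Agent.CurveCohLib.Nonspecial

/-! The trace of a finite cover. -/

noncomputable section

set_option linter.style.haveILetI false
set_option linter.unusedSectionVars false
set_option backward.isDefEq.respectTransparency false
set_option backward.isDefEq.respectTransparency.types false

universe u

open CategoryTheory CategoryTheory.Limits AlgebraicGeometry TopologicalSpace Opposite

namespace Groth.Agent.LS17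

variable {X Y : Scheme.{u}} (f : X ⟶ Y) [IsFinite f] [Flat f] [LocallyOfFinitePresentation f]

/-- The trace of one is the rank. -/
theorem trace_one {d : ℕ} (hd : FlatMod.IsFinLocFreeOfRank d ((Scheme.Modules.pushforward f).obj (Coh.structureModule X)))
    {τ : (Scheme.Modules.pushforward f).obj (Coh.structureModule X) ⟶ Coh.structureModule Y}
    (hτ : FinCov.IsTraceHom f τ) :
    (τ.val.app (op ⊤)).hom (1 : Γ(X, f ⁻¹ᵁ ⊤)) = (d : Γ(Y, ⊤)) := by
  have hc := H23.CoverPush.crit_of_isFinLocFreeOfRank_push f hd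
  choose U hU hy l using hc
  refine TopCat.Sheaf.eq_of_locally_eq' Y.sheaf (fun y : Y => U y) ⊤ (fun y => homOfLE le_top)
    (fun y _ => Opens.mem_iSup.2 ⟨y, hy y⟩) _ _ fun y => ?_
  obtain ⟨e⟩ := l y
  letI := H23.CoverPush.alg f (U y)
  haveI : Module.Free Γ(Y, U y) Γ(X, f ⁻¹ᵁ U y) := Module.Free.of_equiv e.symm
  haveI : Module.Finite Γ(Y, U y) Γ(X, f ⁻¹ᵁ U y) := Module.Finite.equiv e.symm
  haveI : Nontrivial Γ(Y, U y) := (Y.presheaf.germ (U y) y (hy y)).hom.domain_nontrivial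
  have hnat : Y.presheaf.map (homOfLE (le_top : U y ≤ ⊤)).op ((τ.val.app (op ⊤)).hom (1 : Γ(X, f ⁻¹ᵁ ⊤))) =
      (τ.val.app (op (U y))).hom (X.presheaf.map (homOfLE (show f ⁻¹ᵁ U y ≤ f ⁻¹ᵁ ⊤ from fun _ _ => trivial)).op (1 : Γ(X, f ⁻¹ᵁ ⊤))) :=
    (PresheafOfModules.naturality_apply τ.val (homOfLE (le_top : U y ≤ ⊤)).op _).symm
  refine Eq.trans hnat ?_
  rw [map_one]
  refine (hτ (U y) (hU y) ‹_› ‹_› 1).trans ?_
  rw [← map_one (algebraMap Γ(Y, U y) Γ(X, f ⁻¹ᵁ U y))]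
  refine (Algebra.trace_algebraMap (R := Γ(Y, U y)) (S := Γ(X, f ⁻¹ᵁ U y)) 1).trans ?_
  rw [nsmul_one, e.finrank_eq]
  refine Eq.trans ?_ (map_natCast (Y.presheaf.map (homOfLE (le_top : U y ≤ ⊤)).op).hom d).symm
  congr 1
  simp

/-- The trace is surjective when the rank is invertible. -/
theorem epi_trace {d : ℕ} (hd : FlatMod.IsFinLocFreeOfRank d ((Scheme.Modules.pushforward f).obj (Coh.structureModule X)))
    {τ : (Scheme.Modules.pushforward f).obj (Coh.structureModule X) ⟶ Coh.structureModule Y}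
    (hτ : FinCov.IsTraceHom f τ) (hu : IsUnit (d : Γ(Y, ⊤))) : Epi τ := by
  refine (Scheme.Modules.toPresheaf Y).epi_of_epi_map ?_
  haveI : ∀ V, Epi (((Scheme.Modules.toPresheaf Y).map τ).app V) := fun V => by
    refine ConcreteCategory.epi_of_surjective _ fun c => ?_
    obtain ⟨V⟩ := V
    obtain ⟨w, hw⟩ := hu.map (Y.presheaf.map (homOfLE (le_top : V ≤ ⊤)).op).hom
    let c' : Γ(Y, V) := c
    refine ⟨f.app V (c' * ↑w⁻¹), ?_⟩
    have h1 : f.app V (c' * ↑w⁻¹) = ((c' * ↑w⁻¹ : Γ(Y, V)) •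
        (show ((Scheme.Modules.pushforward f).obj (Coh.structureModule X)).val.obj (op V) from (1 : Γ(X, f ⁻¹ᵁ V)))) :=
      (mul_one _).symm
    refine Eq.trans (congrArg (τ.val.app (op V)).hom h1) ?_
    refine ((τ.val.app (op V)).hom.map_smul _ _).trans ?_
    have h2 : (τ.val.app (op V)).hom (1 : Γ(X, f ⁻¹ᵁ V)) =
        Y.presheaf.map (homOfLE (le_top : V ≤ ⊤)).op ((τ.val.app (op ⊤)).hom (1 : Γ(X, f ⁻¹ᵁ ⊤))) := by
      rw [← map_one (X.presheaf.map (homOfLE (show f ⁻¹ᵁ V ≤ f ⁻¹ᵁ ⊤ from fun _ _ => trivial)).op).hom]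
      exact PresheafOfModules.naturality_apply τ.val (homOfLE (le_top : V ≤ ⊤)).op _
    refine Eq.trans (congrArg ((c' * ↑w⁻¹ : Γ(Y, V)) • ·) (h2.trans (by rw [trace_one f hd hτ]))) ?_
    show c' * ↑w⁻¹ * (Y.presheaf.map (homOfLE (le_top : V ≤ ⊤)).op).hom (d : Γ(Y, ⊤)) = c'
    rw [← hw]
    rw [mul_assoc, Units.inv_mul, mul_one]
  exact NatTrans.epi_of_epi_app _

end Groth.Agent.LS17
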